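import Cfsg.Agent.S3280
import Cfsg.Agent.Lib.Small.Order168
import Cfsg.Agent.Lib.PSL2.Basic

/-!
The alternating group of degree seven: recognition from an involution centralizer of order 24, and
a few facts about its elements.
-/

set_option autoImplicit false

namespace CfsgLib.Mitchell

open Subgroup Equiv

/-- A multiset of numbers at least two, with sum at most seven. -/
theorem mem_powerset_of_sum_le_seven (m : Multiset ℕ) (h2 : ∀ a ∈ m, 2 ≤ a) (hs : m.sum ≤ 7) :
    m ∈ Multiset.powerset ({2, 2, 2, 3, 3, 4, 5, 6, 7} : Multiset ℕ) := by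
  rw [Multiset.mem_powerset, Multiset.le_iff_count]
  intro a
  by_cases ha : a ∈ m
  · obtain ⟨r, hr⟩ := Multiset.le_iff_exists_add.1
      (Multiset.le_count_iff_replicate_le.1 (le_refl (Multiset.count a m)))
    have e : m.sum = Multiset.count a m * a + r.sum := by
      conv_lhs => rw [hr]
      simp
    have h1 : 1 ≤ Multiset.count a m := Multiset.one_le_count_iff_mem.2 ha
    have h2a := h2 a ha
    have hle : Multiset.count a m * a ≤ 7 := by omega
    have ha7 : a ≤ 7 := (Nat.le_mul_of_pos_left a h1).trans hle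
    interval_cases a <;> simp <;> omega
  · rw [Multiset.count_eq_zero_of_notMem ha]
    exact Nat.zero_le _

/-- The cycle type of an even permutation of at most seven points. -/
theorem cycleType_even_mem {n : ℕ} (hn : n ≤ 7) (g : Perm (Fin n)) (hg : Perm.sign g = 1) :
    g.cycleType ∈ Multiset.powerset ({2, 2, 2, 3, 3, 4, 5, 6, 7} : Multiset ℕ) ∧
      g.cycleType.sum ≤ n ∧ Even (g.cycleType.sum + Multiset.card g.cycleType) := by
  have hs : g.cycleType.sum ≤ n := by
    rw [Perm.sum_cycleType]
    simpa using g.support.card_le_univ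
  refine ⟨mem_powerset_of_sum_le_seven _ (fun a ha => Perm.two_le_of_mem_cycleType ha)
    (hs.trans hn), hs, ?_⟩
  rw [Perm.sign_of_cycleType] at hg
  rwa [neg_one_pow_eq_one_iff_even (by decide)] at hg

/-- Non-trivial cycle lengths of the even permutations of seven points. -/
theorem cycleType_even_seven (g : Perm (Fin 7)) (hg : Perm.sign g = 1) :
    g.cycleType ∈ ([0, {3}, {2, 2}, {3, 3}, {5}, {4, 2}, {3, 2, 2}, {7}] : List (Multiset ℕ)) := by
  have key : ∀ m ∈ Multiset.powerset ({2, 2, 2, 3, 3, 4, 5, 6, 7} : Multiset ℕ),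
      m.sum ≤ 7 → Even (m.sum + Multiset.card m) →
        m ∈ ([0, {3}, {2, 2}, {3, 3}, {5}, {4, 2}, {3, 2, 2}, {7}] : List (Multiset ℕ)) := by
    decide +kernel
  obtain ⟨h1, h2, h3⟩ := cycleType_even_mem le_rfl g hg
  exact key _ h1 h2 h3

/-- The orders of the elements of the alternating group of degree six. -/
theorem orderOf_alt_six (g : alternatingGroup (Fin 6)) : orderOf g ≠ 6 := by
  have key : ∀ m ∈ Multiset.powerset ({2, 2, 2, 3, 3, 4, 5, 6, 7} : Multiset ℕ),
      m.sum ≤ 6 → Even (m.sum + Multiset.card m) → m.lcm ≠ 6 := by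
    decide +kernel
  obtain ⟨h1, h2, h3⟩ :=
    cycleType_even_mem (by norm_num : 6 ≤ 7) _ (Perm.mem_alternatingGroup.1 g.2)
  rw [← Subgroup.orderOf_coe, ← Perm.lcm_cycleType]
  exact key _ h1 h2 h3

/-- A simple group with an involution centralizer of order 24, meeting the centralizers of two
further involutions of that centralizer as in `A₇`, is `A₇`. -/
theorem a7_of_centralizer {T : Type*} [Group T] [Finite T] [IsSimpleGroup T] (t s z : T)
    (ht : orderOf t = 2) (hs : orderOf s = 2) (hz : orderOf z = 2) (hst : s * t = t * s)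
    (hzt : z * t = t * z) (hzne : z ≠ t) (hsz : s * z * s⁻¹ = t * z)
    (hC : Nat.card (centralizer ({t} : Set T)) = 24)
    (hCs : Nat.card (centralizer ({t, s} : Set T)) = 4)
    (hCz : Nat.card (centralizer ({t, z} : Set T)) = 12) :
    Nonempty (T ≃* alternatingGroup (Fin 7)) := by
  have hs1 : s⁻¹ = s := inv_eq_of_mul_eq_one_right
    (by rw [← pow_two, ← hs, pow_orderOf_eq_one])
  have hz1 : z * z = 1 := by rw [← pow_two, ← hz, pow_orderOf_eq_one]
  have hnc : ¬ IsMulCommutative T := fun h => hzne (mul_left_cancel (a := z) (by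
    have e := hsz
    rw [h.is_comm.comm s z, mul_inv_cancel_right] at e
    have e1 : t = 1 := by rwa [right_eq_mul] at e
    rw [e1, orderOf_one] at ht
    norm_num at ht))
  -- `a = s z` has square `t`
  set a := s * z with ha
  have haa : a * a = t := by
    calc s * z * (s * z) = (s * z * s⁻¹) * z := by rw [hs1]; group
      _ = t := by rw [hsz, mul_assoc, hz1, mul_one]
  have hle : centralizer ({a} : Set T) ≤ centralizer ({t} : Set T) := fun x hx => by
    rw [mem_centralizer_singleton_iff] at hx ⊢
    rw [← haa]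
    exact ((show Commute x a from hx).mul_right hx).eq
  have h3 : ¬ 3 ∣ Nat.card (centralizer ({a} : Set T)) := fun h => by
    haveI : Fact (Nat.Prime 3) := ⟨by norm_num⟩
    obtain ⟨q, hq⟩ := exists_prime_orderOf_dvd_card' (G := centralizer ({a} : Set T)) 3 h
    have hqt : (q : T) ∈ centralizer ({t} : Set T) := hle q.2
    have hle2 : centralizer ({t, z} : Set T) ≤ centralizer ({t} : Set T) :=
      Subgroup.centralizer_le (by simp)
    have hidx : ((centralizer ({t, z} : Set T)).subgroupOf (centralizer ({t} : Set T))).index = 2 := by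
      have e := Subgroup.card_mul_index
        ((centralizer ({t, z} : Set T)).subgroupOf (centralizer ({t} : Set T)))
      rw [Nat.card_congr (Subgroup.subgroupOfEquivOfLe hle2).toEquiv, hCz, hC] at e
      omega
    have hqz : (q : T) ∈ centralizer ({t, z} : Set T) := by
      have hq' : orderOf (⟨(q : T), hqt⟩ : centralizer ({t} : Set T)) = 3 := by
        rw [Subgroup.orderOf_mk, Subgroup.orderOf_coe, hq]
      have e := Subgroup.sq_mem_of_index_two hidx (⟨(q : T), hqt⟩ ^ 2)
      rw [← pow_mul, show 2 * 2 = 3 + 1 from rfl, pow_succ, ← hq', pow_orderOf_eq_one, one_mul,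
        Subgroup.mem_subgroupOf] at e
      exact e
    have c1 : Commute (q : T) a := mem_centralizer_singleton_iff.1 q.2
    have c2 : Commute (q : T) z := ((Subgroup.mem_centralizer_iff.1 hqz) z (by simp)).symm
    have hqs : (q : T) ∈ centralizer ({t, s} : Set T) := by
      rw [Subgroup.mem_centralizer_iff]
      intro y hy
      rcases hy with rfl | rfl
      · exact (mem_centralizer_singleton_iff.1 hqt).symm
      · have c3 : Commute (q : T) (y * z * z) := c1.mul_right c2
        rw [mul_assoc, hz1, mul_one] at c3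
        exact c3.eq.symm
    have h4 := orderOf_dvd_natCard (⟨(q : T), hqs⟩ : centralizer ({t, s} : Set T))
    rw [hCs, Subgroup.orderOf_mk, Subgroup.orderOf_coe, hq] at h4
    norm_num at h4
  have hsa : s ∉ centralizer ({a} : Set T) := fun h => by
    rw [mem_centralizer_singleton_iff, ha] at h
    have e : s * z * s⁻¹ = z := by
      rw [hs1]
      calc s * z * s = s * (s * z) := h.symm
        _ = z := by rw [← mul_assoc, ← pow_two, ← hs, pow_orderOf_eq_one, one_mul]
    rw [hsz] at e
    have e1 : t = 1 := by rwa [mul_eq_right] at e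
    rw [e1, orderOf_one] at ht
    norm_num at ht
  have hsmem : s ∈ centralizer ({t} : Set T) := mem_centralizer_singleton_iff.2 hst
  have hfour : Nat.card (centralizer ({a} : Set T)) ≤ 4 := by
    have hdvd : Nat.card (centralizer ({a} : Set T)) ∣ 24 := hC ▸ Subgroup.card_dvd_of_le hle
    have h8 : Nat.card (centralizer ({a} : Set T)) ∣ 8 := by
      have hco : Nat.Coprime (Nat.card (centralizer ({a} : Set T))) 3 :=
        ((show Nat.Prime 3 by norm_num).coprime_iff_not_dvd.2 h3).symm
      exact hco.dvd_of_dvd_mul_left (by rwa [show 3 * 8 = 24 from rfl])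
    rcases lt_or_ge (Nat.card (centralizer ({a} : Set T))) 8 with h | h
    · have := (Nat.le_of_dvd (by norm_num) h8)
      interval_cases hh : Nat.card (centralizer ({a} : Set T)) <;> omega
    exfalso
    have h8e : Nat.card (centralizer ({a} : Set T)) = 8 :=
      le_antisymm (Nat.le_of_dvd (by norm_num) h8) h
    -- the centralizer of `a` is normalised by `s`, so it would be a 2-subgroup of `C(t)` without `s`
    haveI : Fact (Nat.Prime 2) := ⟨Nat.prime_two⟩
    have hn : s ∈ normalizer (centralizer ({a} : Set T) : Set T) := by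
      have hsas : s * a * s⁻¹ = t * a := by
        calc s * (s * z) * s⁻¹ = s * (s * z * s⁻¹) := by group
          _ = t * (s * z) := by rw [hsz, ← mul_assoc, hst, mul_assoc]
      have hmove : ∀ x ∈ centralizer ({a} : Set T), s * x * s⁻¹ ∈ centralizer ({a} : Set T) := by
        intro x hx
        have hxt : Commute x t := mem_centralizer_singleton_iff.1 (hle hx)
        have hxa : Commute x a := mem_centralizer_singleton_iff.1 hx
        have e1 : Commute (s * x * s⁻¹) (s * a * s⁻¹) := (Commute.conj_iff s).2 hxa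
        have e2 : Commute (s * x * s⁻¹) t := by
          have := (Commute.conj_iff s).2 hxt
          rwa [show s * t * s⁻¹ = t by rw [hst, mul_inv_cancel_right]] at this
        rw [hsas] at e1
        have e3 := e2.inv_right.mul_right e1
        rw [inv_mul_cancel_left] at e3
        exact mem_centralizer_singleton_iff.2 e3.eq
      rw [Subgroup.mem_normalizer_iff]
      refine fun x => ⟨hmove x, fun hx => ?_⟩
      have := hmove _ hx
      have hss : s * s = 1 := by rw [← pow_two, ← hs, pow_orderOf_eq_one]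
      rwa [show s * (s * x * s⁻¹) * s⁻¹ = s * s * x * (s * s)⁻¹ by group, hss, one_mul, inv_one,
        mul_one] at this
    have hA : IsPGroup 2 (centralizer ({a} : Set T)) := IsPGroup.of_card (n := 3) (by rw [h8e]; norm_num)
    have hS : IsPGroup 2 (zpowers s) := IsPGroup.of_card (n := 1) (by rw [Nat.card_zpowers, hs]; norm_num)
    have hK := hA.to_sup_of_normal_left' hS (zpowers_le.2 hn)
    obtain ⟨n, hn'⟩ := IsPGroup.iff_card.1 hK
    have hKle : centralizer ({a} : Set T) ⊔ zpowers s ≤ centralizer ({t} : Set T) :=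
      sup_le hle (zpowers_le.2 hsmem)
    have hd := Subgroup.card_dvd_of_le hKle
    rw [hn', hC] at hd
    have hn3 : 2 ^ n ≤ 8 := by
      have hco : Nat.Coprime (2 ^ n) 3 := Nat.Coprime.pow_left n (by norm_num)
      have : 2 ^ n ∣ 2 ^ 3 := hco.dvd_of_dvd_mul_right (by rwa [show 2 ^ 3 * 3 = 24 from rfl])
      exact Nat.le_of_dvd (by norm_num) this
    have heq := Subgroup.eq_of_le_of_card_ge (le_sup_left : _ ≤ centralizer ({a} : Set T) ⊔ zpowers s)
      (by rw [hn', h8e]; exact hn3)
    exact hsa (heq ▸ (le_sup_right : zpowers s ≤ _) (mem_zpowers s))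
  -- an element of order six
  obtain ⟨x, hx⟩ : ∃ x : T, orderOf x = 6 := by
    haveI : Fact (Nat.Prime 3) := ⟨by norm_num⟩
    obtain ⟨q, hq⟩ := exists_prime_orderOf_dvd_card' (G := centralizer ({t} : Set T)) 3
      (by rw [hC]; norm_num)
    refine ⟨t * (q : T), ?_⟩
    have hc : Commute t (q : T) := (mem_centralizer_singleton_iff.1 q.2).symm
    rw [hc.orderOf_mul_eq_mul_orderOf_of_coprime (by rw [ht, Subgroup.orderOf_coe, hq]; norm_num),
      ht, Subgroup.orderOf_coe, hq]
  rcases Cfsg.Agent.S3280.result (fun h => hnc (by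
      letI := h.commGroup; exact ⟨⟨mul_comm⟩⟩)) a hfour with ⟨⟨e⟩⟩ | ⟨⟨e⟩⟩ | h | ⟨F, _, _, hF, ⟨e⟩⟩
  · exfalso
    have hd := Subgroup.card_subgroup_dvd_card (centralizer ({t} : Set T))
    rw [hC, Nat.card_congr e.toEquiv, Nat.card_eq_fintype_card, card_alternatingGroup,
      Fintype.card_fin] at hd
    revert hd
    decide
  · exact absurd ((MulEquiv.orderOf_eq e x).trans hx) (orderOf_alt_six _)
  · exact h
  · exfalso
    have hc := CfsgLib.PSL2.card_psl (F := F)
    rw [hF, ← Nat.card_congr e.toEquiv] at hc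
    have h168 : Nat.card T = 168 := by norm_num at hc; omega
    have := CfsgLib.Small.Order168.orderOf_mem h168 x
    rw [hx] at this
    simp at this

/-! ### Elements of the alternating group of degree seven -/

theorem orderOf_alt_seven (g : alternatingGroup (Fin 7)) : orderOf g ∈ ({1, 2, 3, 4, 5, 6, 7} : Finset ℕ) := by
  rw [← Subgroup.orderOf_coe, ← Perm.lcm_cycleType]
  have h := cycleType_even_seven _ (Perm.mem_alternatingGroup.1 g.2)
  simp only [List.mem_cons, List.not_mem_nil, or_false] at h
  rcases h with h | h | h | h | h | h | h | h <;> rw [h] <;> decide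

/-- Conjugacy of elements of the same cycle type, when the centralizer contains an odd permutation. -/
theorem isConj_of_cycleType {g g₀ o : Perm (Fin 7)} (hg : g ∈ alternatingGroup (Fin 7))
    (hg₀ : g₀ ∈ alternatingGroup (Fin 7)) (ho : Perm.sign o = -1) (hc : o * g₀ = g₀ * o)
    (h : g₀.cycleType = g.cycleType) :
    IsConj (⟨g₀, hg₀⟩ : alternatingGroup (Fin 7)) ⟨g, hg⟩ := by
  obtain ⟨c, hc'⟩ := isConj_iff.1 (Perm.isConj_iff_cycleType_eq.2 h)
  rcases Int.units_eq_one_or (Perm.sign c) with hs | hs
  · exact isConj_iff.2 ⟨⟨c, Perm.mem_alternatingGroup.2 hs⟩, Subtype.ext hc'⟩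
  · refine isConj_iff.2 ⟨⟨c * o, Perm.mem_alternatingGroup.2 (by rw [map_mul, hs, ho]; rfl)⟩, Subtype.ext ?_⟩
    show c * o * g₀ * (c * o)⁻¹ = g
    rw [← hc', mul_assoc c o g₀, hc]
    group

theorem alt_seven_five :
    ∃ h : alternatingGroup (Fin 7), orderOf h = 5 ∧ IsConj h (h ^ 2) := by
  let h : alternatingGroup (Fin 7) := ⟨List.formPerm [0, 1, 2, 3, 4], Perm.mem_alternatingGroup.2 (by decide +kernel)⟩
  have h5 : orderOf h = 5 := by
    haveI : Fact (Nat.Prime 5) := ⟨by norm_num⟩
    exact orderOf_eq_prime (by decide +kernel) (by decide +kernel)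
  exact ⟨h, h5, isConj_iff.2 ⟨⟨List.formPerm [1, 2, 4, 3] * Equiv.swap 5 6, Perm.mem_alternatingGroup.2 (by decide +kernel)⟩,
    by decide +kernel⟩⟩

theorem alt_seven_four (g : alternatingGroup (Fin 7)) (hg : orderOf g = 4) : IsConj g g⁻¹ := by
  have hct : ∀ u : alternatingGroup (Fin 7), orderOf u = 4 → (u : Perm (Fin 7)).cycleType = {4, 2} := by
    intro u hu
    rw [← Subgroup.orderOf_coe, ← Perm.lcm_cycleType] at hu
    have h := cycleType_even_seven _ (Perm.mem_alternatingGroup.1 u.2)
    simp only [List.mem_cons, List.not_mem_nil, or_false] at h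
    rcases h with h | h | h | h | h | h | h | h <;> rw [h] at hu ⊢ <;> revert hu <;> decide
  let g₀ : alternatingGroup (Fin 7) :=
    ⟨List.formPerm [0, 1, 2, 3] * Equiv.swap 4 5, Perm.mem_alternatingGroup.2 (by decide +kernel)⟩
  have h₀ : orderOf g₀ = 4 := by
    haveI : Fact (Nat.Prime 2) := ⟨Nat.prime_two⟩
    exact orderOf_eq_prime_pow (p := 2) (n := 1) (x := g₀) (by decide +kernel) (by decide +kernel)
  have hi : orderOf g⁻¹ = 4 := by rw [orderOf_inv, hg]
  refine IsConj.trans (b := g₀) (IsConj.symm ?_) ?_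
  · exact isConj_of_cycleType g.2 g₀.2 (o := Equiv.swap 4 5) (by decide +kernel) (by decide +kernel)
      ((hct g₀ h₀).trans (hct g hg).symm)
  · exact isConj_of_cycleType g⁻¹.2 g₀.2 (o := Equiv.swap 4 5) (by decide +kernel) (by decide +kernel)
      ((hct g₀ h₀).trans (hct g⁻¹ hi).symm)

theorem alt_seven_seven (g : alternatingGroup (Fin 7)) (hg : orderOf g = 7) : IsConj g (g ^ 2) := by
  have hct : ∀ u : alternatingGroup (Fin 7), orderOf u = 7 → (u : Perm (Fin 7)).cycleType = {7} := by
    intro u hu
    rw [← Subgroup.orderOf_coe, ← Perm.lcm_cycleType] at hu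
    have h := cycleType_even_seven _ (Perm.mem_alternatingGroup.1 u.2)
    simp only [List.mem_cons, List.not_mem_nil, or_false] at h
    rcases h with h | h | h | h | h | h | h | h <;> rw [h] at hu ⊢ <;> revert hu <;> decide
  let g₀ : alternatingGroup (Fin 7) := ⟨List.formPerm [0, 1, 2, 3, 4, 5, 6], Perm.mem_alternatingGroup.2 (by decide +kernel)⟩
  have h₀ : orderOf g₀ = 7 := by
    haveI : Fact (Nat.Prime 7) := ⟨by norm_num⟩
    exact orderOf_eq_prime (by decide +kernel) (by decide +kernel)
  obtain ⟨c, hc⟩ := isConj_iff.1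
    (Perm.isConj_iff_cycleType_eq.2 ((hct g₀ h₀).trans (hct g hg).symm))
  let w₀ : Perm (Fin 7) := List.formPerm [1, 2, 4] * List.formPerm [3, 6, 5]
  have hw₀ : w₀ * (g₀ : Perm (Fin 7)) * w₀⁻¹ = (g₀ : Perm (Fin 7)) ^ 2 := by decide +kernel
  refine isConj_iff.2 ⟨⟨c * w₀ * c⁻¹, Perm.mem_alternatingGroup.2 ?_⟩, Subtype.ext ?_⟩
  · rw [map_mul, map_mul, map_inv, show Perm.sign w₀ = 1 by decide +kernel, mul_one, mul_inv_cancel]
  · show c * w₀ * c⁻¹ * (g : Perm (Fin 7)) * (c * w₀ * c⁻¹)⁻¹ = (g : Perm (Fin 7)) ^ 2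
    rw [← hc, conj_pow, ← hw₀]
    group

/-- The two 3-cycles spanning a Sylow 3-subgroup. -/
theorem alt_seven_three : ∃ x y : alternatingGroup (Fin 7), orderOf x = 3 ∧ orderOf y = 3 ∧
    x * y = y * x ∧ y ∉ zpowers x ∧
    (∃ w : alternatingGroup (Fin 7), w * x * w⁻¹ = y ∧ w * y * w⁻¹ = x⁻¹) ∧
    ∀ g : alternatingGroup (Fin 7), orderOf g = 3 →
      ∃ e ∈ closure ({x, y} : Set (alternatingGroup (Fin 7))), e ≠ 1 ∧ IsConj g e := by
  let x : alternatingGroup (Fin 7) := ⟨List.formPerm [0, 1, 2], Perm.mem_alternatingGroup.2 (by decide +kernel)⟩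
  let y : alternatingGroup (Fin 7) := ⟨List.formPerm [3, 4, 5], Perm.mem_alternatingGroup.2 (by decide +kernel)⟩
  haveI : Fact (Nat.Prime 3) := ⟨by norm_num⟩
  have hx : orderOf x = 3 := orderOf_eq_prime (by decide +kernel) (by decide +kernel)
  have hy : orderOf y = 3 := orderOf_eq_prime (by decide +kernel) (by decide +kernel)
  refine ⟨x, y, hx, hy, by decide +kernel, fun hmem => ?_,
    ⟨⟨Equiv.swap 0 3 * List.formPerm [1, 4, 2, 5], Perm.mem_alternatingGroup.2 (by decide +kernel)⟩, by decide +kernel,
      by decide +kernel⟩, fun g hg => ?_⟩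
  · rw [← mem_powers_iff_mem_zpowers, Submonoid.mem_powers_iff] at hmem
    obtain ⟨j, hj⟩ := hmem
    rw [← pow_mod_orderOf, hx] at hj
    have key : ∀ i < 3, x ^ i ≠ y := by decide +kernel
    exact key _ (Nat.mod_lt _ (by norm_num)) hj
  rw [← Subgroup.orderOf_coe, ← Perm.lcm_cycleType] at hg
  have hcases : (g : Perm (Fin 7)).cycleType = {3} ∨ (g : Perm (Fin 7)).cycleType = {3, 3} := by
    have h := cycleType_even_seven _ (Perm.mem_alternatingGroup.1 g.2)
    simp only [List.mem_cons, List.not_mem_nil, or_false] at h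
    rcases h with h | h | h | h | h | h | h | h <;> rw [h] at hg ⊢ <;> revert hg <;> decide
  have hct : ∀ u : Perm (Fin 7), u ∈ alternatingGroup (Fin 7) → orderOf u = 3 →
      (u.support.card = 3 → u.cycleType = {3}) ∧ (u.support.card = 6 → u.cycleType = {3, 3}) := by
    intro u hu ho
    rw [← Perm.sum_cycleType]
    rw [← Perm.lcm_cycleType] at ho
    have h := cycleType_even_seven _ (Perm.mem_alternatingGroup.1 hu)
    simp only [List.mem_cons, List.not_mem_nil, or_false] at h
    rcases h with h | h | h | h | h | h | h | h <;> rw [h] at ho ⊢ <;> revert ho <;> decide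
  have hmx : x ∈ closure ({x, y} : Set (alternatingGroup (Fin 7))) := subset_closure (by simp)
  have hmy : y ∈ closure ({x, y} : Set (alternatingGroup (Fin 7))) := subset_closure (by simp)
  rcases hcases with h | h
  · refine ⟨x, hmx, by decide +kernel, (isConj_of_cycleType g.2 x.2 (o := Equiv.swap 3 4)
      (by decide +kernel) (by decide +kernel) (((hct x x.2 ?_).1 (by decide +kernel)).trans h.symm)).symm⟩
    rw [Subgroup.orderOf_coe, hx]
  · refine ⟨x * y, mul_mem hmx hmy, by decide +kernel, (isConj_of_cycleType g.2 (x * y).2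
      (o := Equiv.swap 0 3 * Equiv.swap 1 4 * Equiv.swap 2 5)
      (by decide +kernel) (by decide +kernel) (((hct _ (x * y).2 ?_).2 (by decide +kernel)).trans h.symm)).symm⟩
    rw [Subgroup.orderOf_coe]
    exact orderOf_eq_prime (by decide +kernel) (by decide +kernel)

end CfsgLib.Mitchell
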