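import Cfsg.Agent.Lib.Geo.AschForms
import Cfsg.Agent.Lib.Geo.AschPrimeIrred
import Cfsg.Agent.Lib.Geo.AschTrace
import Cfsg.Agent.Lib.GeomClasses.Unit
import Mathlib.LinearAlgebra.Matrix.Charpoly.FiniteField

/-!
Two representations with the same traces are conjugate; consequences for invariant forms.
-/

set_option autoImplicit false
set_option linter.unusedSectionVars false

namespace CfsgLib.Mitchell

open Cfsg Cfsg.Geo Matrix CfsgLib.Geo.Asch
open scoped MatrixGroups

theorem trace_pow_char {n : Type*} [DecidableEq n] [Fintype n] [Nonempty n] {K : Type*} [Field K]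
    (p : ℕ) [hp : Fact p.Prime] [CharP K p] (M : Matrix n n K) :
    trace (M ^ p) = trace M ^ p := by
  have h : Polynomial.expand K p (M ^ p).charpoly = M.charpoly ^ p := by
    unfold Matrix.charpoly
    rw [AlgHom.map_det, ← coe_detMonoidHom, ← (detMonoidHom : Matrix n n (Polynomial K) →* Polynomial K).map_pow]
    apply congr_arg det
    refine matPolyEquiv.injective ?_
    rw [map_pow, matPolyEquiv_charmatrix, sub_pow_char_of_commute, ← Polynomial.C_pow]
    · exact (id (matPolyEquiv_eq_X_pow_sub_C p M) :)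
    · exact (Polynomial.C M).commute_X
  rw [← Polynomial.map_frobenius_expand, Polynomial.map_expand] at h
  have h2 := Polynomial.expand_injective hp.out.pos h
  rw [Matrix.trace_eq_neg_charpoly_coeff, Matrix.trace_eq_neg_charpoly_coeff, h2,
    Polynomial.coeff_map, ← frobenius_def, map_neg]

variable {ι : Type} [Fintype ι] [DecidableEq ι] [Nonempty ι] {F : Type*} [Field F]

/-- A representation with the same traces as a spanning group is conjugate to it. -/
theorem conj_of_trace_eq [Fintype F] {N : Subgroup (GL ι F)} (hN : algOf N = ⊤) (ρ : ↥N →* GL ι F)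
    (htr : ∀ g : ↥N, (ρ g : Matrix ι ι F).trace = ((g : GL ι F) : Matrix ι ι F).trace) :
    ∃ B : GL ι F, ∀ g : ↥N, ρ g = B * (g : GL ι F) * B⁻¹ := by
  classical
  have hspan := span_matrixSet_eq_top hN
  let R : Submodule F (Matrix ι ι F × Matrix ι ι F) :=
    Submodule.span F (Set.range fun g : ↥N => ((ρ g : Matrix ι ι F), ((g : GL ι F) : Matrix ι ι F)))
  have htest : ∀ x ∈ R, ∀ h : ↥N,
      (x.2 * ((h : GL ι F) : Matrix ι ι F)).trace = (x.1 * (ρ h : Matrix ι ι F)).trace := by
    intro x hx h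
    induction hx using Submodule.span_induction with
    | mem x hx =>
      obtain ⟨g, rfl⟩ := hx
      have := htr (g * h)
      rw [map_mul, Units.val_mul, Subgroup.coe_mul, Units.val_mul] at this
      exact this.symm
    | zero => simp
    | add x y _ _ hx hy => simp [Matrix.add_mul, Matrix.trace_add, hx, hy]
    | smul c x _ hx => simp [Matrix.smul_mul, Matrix.trace_smul, hx]
  have hR2 : R.map (LinearMap.snd F _ _) = ⊤ := by
    rw [Submodule.map_span, ← Set.range_comp, eq_top_iff, ← hspan]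
    refine Submodule.span_mono ?_
    rintro _ ⟨g, hg, rfl⟩
    exact ⟨⟨g, hg⟩, rfl⟩
  let f1 : R →ₗ[F] Matrix ι ι F := (LinearMap.fst F _ _).comp R.subtype
  let f2 : R →ₗ[F] Matrix ι ι F := (LinearMap.snd F _ _).comp R.subtype
  have hinj1 : Function.Injective f1 := by
    rw [← LinearMap.ker_eq_bot, LinearMap.ker_eq_bot']
    rintro ⟨⟨X, Y⟩, hXY⟩ hX
    change X = 0 at hX
    subst hX
    have h0 : ∀ M : Matrix ι ι F, (Y * M).trace = 0 := by
      intro M
      have hM : M ∈ Submodule.span F (matrixSet N) := hspan ▸ Submodule.mem_top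
      induction hM using Submodule.span_induction with
      | mem M hM =>
        obtain ⟨h, hh, rfl⟩ := hM
        have := htest _ hXY ⟨h, hh⟩
        simpa using this
      | zero => simp
      | add a b _ _ ha hb => simp [Matrix.mul_add, Matrix.trace_add, ha, hb]
      | smul c a _ ha => simp [Matrix.mul_smul, Matrix.trace_smul, ha]
    have hY : Y = 0 := Matrix.ext fun i j => by
      have h := h0 (Matrix.single j i 1)
      rw [Matrix.trace_mul_comm, Matrix.trace_single_mul, one_smul] at h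
      simpa using h
    exact Subtype.ext (Prod.ext rfl hY)
  have hsurj2 : Function.Surjective f2 := by
    intro M
    have : M ∈ R.map (LinearMap.snd F _ _) := hR2 ▸ Submodule.mem_top
    obtain ⟨x, hx, hxM⟩ := this
    exact ⟨⟨x, hx⟩, hxM⟩
  have hfin : Module.finrank F R = Module.finrank F (Matrix ι ι F) :=
    le_antisymm (LinearMap.finrank_le_finrank_of_injective hinj1)
      (LinearMap.finrank_le_finrank_of_surjective hsurj2)
  let e2 : R ≃ₗ[F] Matrix ι ι F := LinearEquiv.ofBijective f2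
    ⟨(LinearMap.injective_iff_surjective_of_finrank_eq_finrank hfin).2 hsurj2, hsurj2⟩
  let ψ : Matrix ι ι F →ₗ[F] Matrix ι ι F := f1.comp e2.symm.toLinearMap
  have hψ : ∀ g : ↥N, ψ ((g : GL ι F) : Matrix ι ι F) = (ρ g : Matrix ι ι F) := by
    intro g
    have hmem : ((ρ g : Matrix ι ι F), ((g : GL ι F) : Matrix ι ι F)) ∈ R := Submodule.subset_span ⟨g, rfl⟩
    have : e2.symm ((g : GL ι F) : Matrix ι ι F) = ⟨_, hmem⟩ := by
      rw [LinearEquiv.symm_apply_eq]; rfl
    show f1 (e2.symm _) = _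
    rw [this]; rfl
  have hone : ψ 1 = 1 := by
    have := hψ 1
    simpa using this
  have hmul : ∀ A B, ψ (A * B) = ψ A * ψ B := by
    intro A B
    have hA : A ∈ Submodule.span F (matrixSet N) := hspan ▸ Submodule.mem_top
    have hB : B ∈ Submodule.span F (matrixSet N) := hspan ▸ Submodule.mem_top
    induction hA using Submodule.span_induction with
    | mem A hA =>
      obtain ⟨a, ha, rfl⟩ := hA
      induction hB using Submodule.span_induction with
      | mem B hB =>
        obtain ⟨b, hb, rfl⟩ := hB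
        have := hψ (⟨a, ha⟩ * ⟨b, hb⟩)
        rw [map_mul, Units.val_mul, Subgroup.coe_mul, Units.val_mul] at this
        rw [this, ← hψ, ← hψ]
      | zero => simp
      | add x y _ _ hx hy => simp [Matrix.mul_add, hx, hy]
      | smul c x _ hx => simp [hx]
    | zero => simp
    | add x y _ _ hx hy => simp [Matrix.add_mul, hx, hy]
    | smul c x _ hx => simp [hx]
  obtain ⟨B, hB⟩ := exists_conj_eq' (AlgHom.ofLinearMap ψ hone hmul)
  refine ⟨B, fun g => Units.ext ?_⟩
  have := hB ((g : GL ι F) : Matrix ι ι F)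
  rw [AlgHom.ofLinearMap_apply, hψ, conjHom_apply] at this
  rw [this, Units.val_mul, Units.val_mul]

/-- The twisted dual of a subgroup. -/
def twistDual (σ : F →+* F) (N : Subgroup (GL ι F)) : ↥N →* GL ι F where
  toFun g := ⟨((((g⁻¹ : ↥N) : GL ι F) : Matrix ι ι F).map σ)ᵀ, (((g : GL ι F) : Matrix ι ι F).map σ)ᵀ, by
      rw [← Matrix.transpose_mul, ← Matrix.map_mul, ← Units.val_mul, ← Subgroup.coe_mul, mul_inv_cancel]
      simp, by
      rw [← Matrix.transpose_mul, ← Matrix.map_mul, ← Units.val_mul, ← Subgroup.coe_mul, inv_mul_cancel]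
      simp⟩
  map_one' := Units.ext (by simp)
  map_mul' g h := Units.ext (by simp [Matrix.map_mul, Matrix.transpose_mul])

theorem exists_twisted_invariant [Fintype F] {N : Subgroup (GL ι F)} (hN : algOf N = ⊤) (σ : F ≃+* F)
    (htr : ∀ x ∈ N, σ ((x⁻¹ : GL ι F) : Matrix ι ι F).trace = (x : Matrix ι ι F).trace) :
    ∃ B : GL ι F, ∀ x ∈ N,
      ((x : Matrix ι ι F).map σ)ᵀ * (B : Matrix ι ι F) * (x : Matrix ι ι F) = (B : Matrix ι ι F) := by
  obtain ⟨B, hB⟩ := conj_of_trace_eq hN (twistDual (σ : F →+* F) N) fun g => by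
    rw [← htr g g.2]
    show (((((g⁻¹ : ↥N) : GL ι F) : Matrix ι ι F).map σ)ᵀ).trace = _
    rw [Matrix.trace_transpose, Subgroup.coe_inv, AddMonoidHom.map_trace]
  refine ⟨B, fun x hx => ?_⟩
  have h := congrArg Units.val (hB ⟨x, hx⟩)
  simp only [Units.val_mul] at h
  calc ((x : Matrix ι ι F).map σ)ᵀ * (B : Matrix ι ι F) * (x : Matrix ι ι F)
      = ((x : Matrix ι ι F).map σ)ᵀ *
          ((B : Matrix ι ι F) * (x : Matrix ι ι F) * ((B⁻¹ : GL ι F) : Matrix ι ι F)) * B := by
        rw [mul_assoc _ (_ * _) (B : Matrix ι ι F), mul_assoc (_ * _) _ (B : Matrix ι ι F),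
          ← Units.val_mul B⁻¹ B, inv_mul_cancel, Units.val_one, mul_one, mul_assoc]
    _ = B := by
      rw [← h]
      show _ * (((x⁻¹ : GL ι F) : Matrix ι ι F).map σ)ᵀ * _ = _
      rw [← Matrix.transpose_mul, ← Matrix.map_mul, ← Units.val_mul, inv_mul_cancel]
      simp

/-- Two invariants of a spanning group are proportional. -/
theorem invariant_unique {N : Subgroup (GL ι F)} (hN : algOf N = ⊤) (f : F →+* F) (B : GL ι F)
    (C : Matrix ι ι F)
    (hB : ∀ x ∈ N, ((x : Matrix ι ι F).map f)ᵀ * (B : Matrix ι ι F) * (x : Matrix ι ι F) = B)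
    (hC : ∀ x ∈ N, ((x : Matrix ι ι F).map f)ᵀ * C * (x : Matrix ι ι F) = C) :
    ∃ c : F, C = c • (B : Matrix ι ι F) := by
  obtain ⟨c, hc⟩ := scalar_of_commute hN (M := ((B⁻¹ : GL ι F) : Matrix ι ι F) * C) (by
    rintro _ ⟨x, hx, rfl⟩
    have h1 : ((B⁻¹ : GL ι F) : Matrix ι ι F) * ((x : Matrix ι ι F).map f)ᵀ * (B : Matrix ι ι F) *
        (x : Matrix ι ι F) = 1 := by
      rw [mul_assoc _ _ (B : Matrix ι ι F), mul_assoc, hB x hx, ← Units.val_mul, inv_mul_cancel,
        Units.val_one]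
    have h2 := mul_eq_one_comm.1 h1
    calc ((B⁻¹ : GL ι F) : Matrix ι ι F) * C * (x : Matrix ι ι F)
        = ((x : Matrix ι ι F) * (((B⁻¹ : GL ι F) : Matrix ι ι F) * ((x : Matrix ι ι F).map f)ᵀ *
            (B : Matrix ι ι F))) * (((B⁻¹ : GL ι F) : Matrix ι ι F) * C * (x : Matrix ι ι F)) := by
          rw [h2, one_mul]
      _ = (x : Matrix ι ι F) * (((B⁻¹ : GL ι F) : Matrix ι ι F) *
            (((x : Matrix ι ι F).map f)ᵀ * C * (x : Matrix ι ι F))) := by
          simp only [mul_assoc]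
          rw [← mul_assoc (B : Matrix ι ι F), ← Units.val_mul, mul_inv_cancel, Units.val_one, one_mul]
      _ = (x : Matrix ι ι F) * (((B⁻¹ : GL ι F) : Matrix ι ι F) * C) := by rw [hC x hx])
  refine ⟨c, ?_⟩
  rw [← one_mul C, ← Units.val_one, ← mul_inv_cancel B, Units.val_mul, mul_assoc, hc,
    Matrix.mul_smul, mul_one]

/-- A spanning group in odd degree whose traces are invariant under inversion fixes a symmetric
non-degenerate matrix (characteristic not two). -/
theorem exists_symmetric_invariant [Fintype F] {N : Subgroup (GL ι F)} (hN : algOf N = ⊤)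
    (h3 : Odd (Fintype.card ι)) (h2 : (2 : F) ≠ 0)
    (htr : ∀ x ∈ N, ((x⁻¹ : GL ι F) : Matrix ι ι F).trace = (x : Matrix ι ι F).trace) :
    ∃ B : GL ι F, (B : Matrix ι ι F)ᵀ = B ∧
      ∀ x ∈ N, (x : Matrix ι ι F)ᵀ * (B : Matrix ι ι F) * (x : Matrix ι ι F) = (B : Matrix ι ι F) := by
  obtain ⟨B, hB⟩ := exists_twisted_invariant hN (RingEquiv.refl F) (by simpa using htr)
  have hB' : ∀ x ∈ N, (x : Matrix ι ι F)ᵀ * (B : Matrix ι ι F) * (x : Matrix ι ι F) = B := fun x hx => by
    simpa using hB x hx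
  refine ⟨B, ?_, hB'⟩
  obtain ⟨c, hc⟩ := invariant_unique hN (RingHom.id F) B (B : Matrix ι ι F)ᵀ (by simpa using hB')
    (fun x hx => by
      have := congrArg Matrix.transpose (hB' x hx)
      simpa [Matrix.transpose_mul, mul_assoc] using this)
  have hc2 : (c * c - 1) • (B : Matrix ι ι F) = 0 := by
    have := congrArg Matrix.transpose hc
    rw [Matrix.transpose_transpose, Matrix.transpose_smul, hc, smul_smul] at this
    rw [sub_smul, one_smul, ← this, sub_self]
  have hB0 : (B : Matrix ι ι F) ≠ 0 := Units.ne_zero B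
  rcases mul_self_eq_one_iff.1 (sub_eq_zero.1 ((smul_eq_zero.1 hc2).resolve_right hB0)) with h | h
  · rw [hc, h, one_smul]
  · exfalso
    have hd := congrArg Matrix.det hc
    rw [Matrix.det_transpose, Matrix.det_smul, h, h3.neg_one_pow] at hd
    have : (2 : F) * (B : Matrix ι ι F).det = 0 := by linear_combination hd
    exact ((Matrix.isUnit_iff_isUnit_det _).1 B.isUnit).ne_zero ((mul_eq_zero.1 this).resolve_left h2)

/-- … and so fixes a non-degenerate quadratic form. -/
theorem exists_quadratic_form [Fintype F] {N : Subgroup (GL ι F)} (hN : algOf N = ⊤)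
    (h3 : Odd (Fintype.card ι)) (h2 : (2 : F) ≠ 0)
    (htr : ∀ x ∈ N, ((x⁻¹ : GL ι F) : Matrix ι ι F).trace = (x : Matrix ι ι F).trace) :
    ∃ Q : (ι → F) → F, IsNondegenerateQuadraticForm Q ∧ FixesQuadForm (matrixSet N) Q := by
  obtain ⟨B, hsym, hB⟩ := exists_symmetric_invariant hN h3 h2 htr
  have hcomm : ∀ v w : ι → F, w ⬝ᵥ ((B : Matrix ι ι F) *ᵥ v) = v ⬝ᵥ ((B : Matrix ι ι F) *ᵥ w) := by
    intro v w
    rw [dotProduct_comm, ← Matrix.vecMul_transpose, hsym, ← Matrix.dotProduct_mulVec]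
  have hpol : ∀ v w : ι → F, QuadraticMap.polar (fun u => u ⬝ᵥ ((B : Matrix ι ι F) *ᵥ u)) v w =
      2 * (v ⬝ᵥ ((B : Matrix ι ι F) *ᵥ w)) := fun v w => by
    simp only [QuadraticMap.polar, Matrix.mulVec_add, dotProduct_add, add_dotProduct, hcomm v w]
    ring
  refine ⟨fun u => u ⬝ᵥ ((B : Matrix ι ι F) *ᵥ u), ⟨fun c v => ?_, ⟨?_, ?_, ?_, ?_⟩, ?_⟩, ?_⟩
  · simp only [Matrix.mulVec_smul, dotProduct_smul, smul_dotProduct, smul_eq_mul]; ring
  · intro x y v; simp only [hpol, add_dotProduct, mul_add]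
  · intro c x v; simp only [hpol, smul_dotProduct, smul_eq_mul]; ring
  · intro v x y; simp only [hpol, Matrix.mulVec_add, dotProduct_add, mul_add]
  · intro c v x; simp only [hpol, Matrix.mulVec_smul, dotProduct_smul, smul_eq_mul]; ring
  · intro v hv
    have hBv := GeomClasses.gl_mulVec_ne_zero B hv
    obtain ⟨i, hi⟩ := Function.ne_iff.1 hBv
    refine ⟨⟨Pi.single i 1, ?_⟩, ⟨Pi.single i 1, ?_⟩⟩
    · simp only [hpol]
      exact mul_ne_zero h2 (by simpa [single_dotProduct] using hi)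
    · simp only [hpol, ← hcomm v]
      exact mul_ne_zero h2 (by simpa [single_dotProduct] using hi)
  · rintro _ ⟨x, hx, rfl⟩ v
    show _ ⬝ᵥ ((B : Matrix ι ι F) *ᵥ _) = _
    rw [dotProduct_comm ((x : Matrix ι ι F) *ᵥ v), Matrix.dotProduct_mulVec,
      ← Matrix.mulVec_transpose, dotProduct_comm, Matrix.mulVec_mulVec, Matrix.mulVec_mulVec, hB x hx]

/-- In characteristic two and odd degree `≥ 2` no spanning group has inverse-invariant traces. -/
theorem false_of_trace_inv_char_two [Fintype F] [CharP F 2] {N : Subgroup (GL ι F)} (hN : algOf N = ⊤)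
    (h3 : Odd (Fintype.card ι)) (h2 : 2 ≤ Fintype.card ι)
    (htr : ∀ x ∈ N, ((x⁻¹ : GL ι F) : Matrix ι ι F).trace = (x : Matrix ι ι F).trace) : False := by
  obtain ⟨B, hB⟩ := exists_twisted_invariant hN (RingEquiv.refl F) (by simpa using htr)
  have hB' : ∀ x ∈ N, (x : Matrix ι ι F)ᵀ * (B : Matrix ι ι F) * (x : Matrix ι ι F) = B := fun x hx => by
    simpa using hB x hx
  obtain ⟨c, hc⟩ := invariant_unique hN (RingHom.id F) B (B : Matrix ι ι F)ᵀ (by simpa using hB')
    (fun x hx => by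
      have := congrArg Matrix.transpose (hB' x hx)
      simpa [Matrix.transpose_mul, mul_assoc] using this)
  have hc1 : c = 1 := by
    have hc2 : (c * c - 1) • (B : Matrix ι ι F) = 0 := by
      have := congrArg Matrix.transpose hc
      rw [Matrix.transpose_transpose, Matrix.transpose_smul, hc, smul_smul] at this
      rw [sub_smul, one_smul, ← this, sub_self]
    rcases mul_self_eq_one_iff.1
      (sub_eq_zero.1 ((smul_eq_zero.1 hc2).resolve_right (Units.ne_zero B))) with h | h
    · exact h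
    · rwa [CharTwo.neg_eq] at h
  rw [hc1, one_smul] at hc
  have hcomm : ∀ v w : ι → F, w ⬝ᵥ ((B : Matrix ι ι F) *ᵥ v) = v ⬝ᵥ ((B : Matrix ι ι F) *ᵥ w) := by
    intro v w
    rw [dotProduct_comm, ← Matrix.vecMul_transpose, hc, ← Matrix.dotProduct_mulVec]
  have hadd : ∀ v w : ι → F, (v + w) ⬝ᵥ ((B : Matrix ι ι F) *ᵥ (v + w)) =
      v ⬝ᵥ ((B : Matrix ι ι F) *ᵥ v) + w ⬝ᵥ ((B : Matrix ι ι F) *ᵥ w) := fun v w => by
    simp only [Matrix.mulVec_add, dotProduct_add, add_dotProduct, hcomm v w]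
    linear_combination (v ⬝ᵥ ((B : Matrix ι ι F) *ᵥ w)) * (CharTwo.two_eq_zero (R := F))
  let K : Submodule F (ι → F) :=
    { carrier := {v | v ⬝ᵥ ((B : Matrix ι ι F) *ᵥ v) = 0}
      zero_mem' := by simp
      add_mem' := fun {v w} hv hw => by
        show (v + w) ⬝ᵥ _ = 0
        rw [hadd, hv, hw, add_zero]
      smul_mem' := fun a v hv => by
        show (a • v) ⬝ᵥ _ = 0
        simp only [Set.mem_ofPred_eq] at hv
        simp [Matrix.mulVec_smul, hv] }
  rcases irreducible_of_algOf_eq_top hN K (by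
    rintro _ ⟨x, hx, rfl⟩ _ ⟨v, hv, rfl⟩
    show _ ⬝ᵥ _ = 0
    rw [Matrix.toLin'_apply, dotProduct_comm ((x : Matrix ι ι F) *ᵥ v), Matrix.dotProduct_mulVec,
      ← Matrix.mulVec_transpose, dotProduct_comm, Matrix.mulVec_mulVec, Matrix.mulVec_mulVec, hB' x hx]
    exact hv) with hK | hK
  · -- the square root of the form would be injective
    have hinj : Function.Injective fun v : ι → F => v ⬝ᵥ ((B : Matrix ι ι F) *ᵥ v) := fun v w h => by
      have : v - w ∈ K := by
        show (v - w) ⬝ᵥ _ = 0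
        rw [sub_eq_add_neg, show -w = w by ext; simp [CharTwo.neg_eq], hadd]
        change v ⬝ᵥ _ = w ⬝ᵥ _ at h
        rw [h, CharTwo.add_self_eq_zero]
      rw [hK, Submodule.mem_bot] at this
      exact sub_eq_zero.1 this
    have := Fintype.card_le_of_injective _ hinj
    rw [Fintype.card_fun] at this
    exact absurd this (not_le.2 (lt_self_pow₀ (Fintype.one_lt_card (α := F)) h2))
  · refine not_symplectic_of_odd (f := fun v w : ι → F => v ⬝ᵥ ((B : Matrix ι ι F) *ᵥ w)) h3 ⟨⟨?_, ?_, ?_, ?_⟩, ?_, ?_, ?_⟩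
    · intro x y v; simp [add_dotProduct]
    · intro a x v; simp
    · intro v x y; simp [Matrix.mulVec_add, dotProduct_add]
    · intro a v x; simp [Matrix.mulVec_smul]
    · intro v w; show _ = -_; rw [hcomm v w, CharTwo.neg_eq]
    · intro v
      have : v ∈ K := hK ▸ Submodule.mem_top
      exact this
    · intro v hv
      obtain ⟨i, hi⟩ := Function.ne_iff.1 (GeomClasses.gl_mulVec_ne_zero B hv)
      refine ⟨⟨Pi.single i 1, by simpa [single_dotProduct] using hi⟩, ⟨Pi.single i 1, ?_⟩⟩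
      show v ⬝ᵥ _ ≠ 0
      rw [← hcomm v]
      simpa [single_dotProduct] using hi

/-- A spanning group with `tr x⁻¹ = σ (tr x)`, `σ` an involution, fixes a unitary form. -/
theorem exists_unitary_form [Fintype F] {N : Subgroup (GL ι F)} (hN : algOf N = ⊤) (σ : F ≃+* F)
    (hσ : σ ≠ RingEquiv.refl F) (hσ2 : ∀ a, σ (σ a) = a)
    (htr : ∀ x ∈ N, ((x⁻¹ : GL ι F) : Matrix ι ι F).trace = σ (x : Matrix ι ι F).trace) :
    ∃ f : (ι → F) → (ι → F) → F, IsUnitaryForm σ f ∧ FixesForm (matrixSet N) f := by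
  obtain ⟨B, hB⟩ := exists_twisted_invariant hN σ (fun x hx => by rw [htr x hx, hσ2])
  have hmm : ∀ M : Matrix ι ι F, (M.map σ).map σ = M := fun M => by ext; simp [hσ2]
  obtain ⟨c, hc⟩ := invariant_unique hN (σ : F →+* F) B ((B : Matrix ι ι F).map σ)ᵀ hB
    (fun x hx => by
      have := congrArg (fun M : Matrix ι ι F => (M.map σ)ᵀ) (hB x hx)
      simpa [Matrix.map_mul, Matrix.transpose_mul, mul_assoc, Matrix.transpose_map, hmm] using this)
  have hcc : σ c * c = 1 := by
    have h := congrArg (fun M : Matrix ι ι F => (M.map σ)ᵀ) hc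
    simp only [Matrix.transpose_map, Matrix.transpose_transpose, hmm,
      Matrix.map_smul' _ _ _ (map_mul σ), Matrix.transpose_smul] at h
    rw [hc, smul_smul] at h
    have h0 : (σ c * c - 1) • (B : Matrix ι ι F) = 0 := by rw [sub_smul, one_smul, ← h, sub_self]
    exact sub_eq_zero.1 ((smul_eq_zero.1 h0).resolve_right (Units.ne_zero B))
  obtain ⟨l, hl0, hl⟩ : ∃ l : F, l ≠ 0 ∧ σ l * c = l := by
    by_cases h : c = -1
    · obtain ⟨δ, hδ0, hδ⟩ := GeomClasses.Unit.exists_skew hσ hσ2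
      exact ⟨δ, hδ0, by rw [eq_neg_of_add_eq_zero_right hδ, h]; ring⟩
    · refine ⟨1 + c, fun e => h (eq_neg_of_add_eq_zero_right e), ?_⟩
      rw [map_add, map_one, add_mul, one_mul, hcc, add_comm]
  set H : Matrix ι ι F := l • (B : Matrix ι ι F) with hH
  have hHs : (H.map σ)ᵀ = H := by
    rw [hH, Matrix.map_smul' _ _ _ (map_mul σ), Matrix.transpose_smul, hc, smul_smul, hl]
  have hHsym : ∀ i j, σ (H i j) = H j i := fun i j => congrFun (congrFun hHs j) i
  refine ⟨fun u v => u ⬝ᵥ (Hᵀ *ᵥ (σ ∘ v)), ⟨hσ, hσ2, ?_, ?_, ?_, ?_⟩, ?_⟩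
  · intro x y v; simp [add_dotProduct]
  · intro a x v; simp
  · intro v w
    simp only [dotProduct, Matrix.mulVec, Matrix.transpose_apply, Function.comp_apply, map_sum,
      map_mul, hσ2, hHsym, Finset.mul_sum]
    rw [Finset.sum_comm]
    exact Finset.sum_congr rfl fun i _ => Finset.sum_congr rfl fun j _ => by ring
  · intro v hv
    have hHinv : ∀ w : ι → F, w ≠ 0 → H *ᵥ w ≠ 0 := fun w hw => by
      rw [hH, Matrix.smul_mulVec]
      exact smul_ne_zero hl0 (GeomClasses.gl_mulVec_ne_zero B hw)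
    have hsc : ∀ w : ι → F, w ≠ 0 → σ ∘ w ≠ 0 := fun w hw h => hw (funext fun i =>
      (map_eq_zero σ).1 (congrFun h i))
    have hHT : ∀ w : ι → F, Hᵀ *ᵥ (σ ∘ w) = σ ∘ (H *ᵥ w) := fun w => funext fun i => by
      simp [Matrix.mulVec, dotProduct, hHsym]
    obtain ⟨i, hi⟩ := Function.ne_iff.1 (hsc _ (hHinv v hv))
    refine ⟨⟨Pi.single i 1, ?_⟩, ⟨Pi.single i 1, ?_⟩⟩
    · simpa [single_dotProduct, hHT] using hi
    · have hj : (H *ᵥ v) i ≠ 0 := fun e => hi (by simp [e])
      refine fun e => hj ?_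
      simp only [dotProduct, Matrix.mulVec, Matrix.transpose_apply, Function.comp_apply,
        Pi.single_apply, apply_ite σ, map_one, map_zero, mul_ite, mul_one, mul_zero,
        Finset.sum_ite_eq', Finset.mem_univ, if_true] at e
      rw [← e]
      simp [Matrix.mulVec, dotProduct, mul_comm]
  · rintro _ ⟨x, hx, rfl⟩ u v
    show _ ⬝ᵥ _ = _ ⬝ᵥ _
    have hxH : ((x : Matrix ι ι F).map σ)ᵀ * H * (x : Matrix ι ι F) = H := by
      rw [hH, Matrix.mul_smul, Matrix.smul_mul, hB x hx]
    have hxT : (x : Matrix ι ι F)ᵀ * Hᵀ * ((x : Matrix ι ι F).map σ) = Hᵀ := by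
      have := congrArg Matrix.transpose hxH
      simpa [Matrix.transpose_mul, mul_assoc] using this
    rw [show σ ∘ ((x : Matrix ι ι F) *ᵥ v) = ((x : Matrix ι ι F).map σ) *ᵥ (σ ∘ v) from
      funext fun i => RingHom.map_mulVec (σ : F →+* F) _ _ i,
      Matrix.mulVec_mulVec, dotProduct_comm, Matrix.dotProduct_mulVec, ← Matrix.mulVec_transpose,
      Matrix.mulVec_mulVec, ← mul_assoc, hxT, dotProduct_comm]

end CfsgLib.Mitchell
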