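import Cfsg.Agent.Lib.Mitchell.Basic
import Cfsg.Agent.Lib.Mitchell.Trace
import Cfsg.Agent.Lib.DimThreeSub.Defs
import Cfsg.Agent.Lib.IsomConj.Unitary
import Mathlib.GroupTheory.Transfer

/-!
# Lifts from the simple quotient and fields of traces

Tools to read off the field of definition of a perfect three-dimensional group from the conjugacy
relations in its quotient modulo scalars.
-/

set_option autoImplicit false
set_option linter.unusedSectionVars false

namespace CfsgLib.Mitchell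

open Cfsg Cfsg.Geo Matrix CfsgLib.Geo.Asch
open scoped MatrixGroups

variable {F : Type*} [Field F]

/-- `P` fixes a non-degenerate quadratic form. -/
abbrev QuadForm (P : Subgroup (GL (Fin 3) F)) : Prop :=
  ∃ Q : (Fin 3 → F) → F, IsNondegenerateQuadraticForm Q ∧ FixesQuadForm (matrixSet P) Q

/-- `P` fixes a unitary form. -/
abbrev UnitForm (P : Subgroup (GL (Fin 3) F)) : Prop :=
  ∃ (σ : F ≃+* F) (f : (Fin 3 → F) → (Fin 3 → F) → F), IsUnitaryForm σ f ∧ FixesForm (matrixSet P) f

variable {P : Subgroup (GL (Fin 3) F)}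

/-- The projection to the simple quotient. -/
abbrev toQuot (P : Subgroup (GL (Fin 3) F)) : P →* Quot P :=
  QuotientGroup.mk' ((scalars (Fin 3) F).subgroupOf P)

/-- The trace of an element. -/
def trc (x : P) : F := ((x : GL (Fin 3) F) : Matrix (Fin 3) (Fin 3) F).trace

theorem toQuot_surjective : Function.Surjective (toQuot P) := QuotientGroup.mk'_surjective _

theorem toQuot_eq_one {x : P} : toQuot P x = 1 ↔ (x : GL (Fin 3) F) ∈ scalars (Fin 3) F :=
  (QuotientGroup.eq_one_iff x).trans Subgroup.mem_subgroupOf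

theorem trc_one : trc (1 : P) = 3 := by
  simp [trc, Matrix.trace_one]

theorem trc_conj (g x : P) : trc (g * x * g⁻¹) = trc x := by
  simp only [trc, Subgroup.coe_mul, Subgroup.coe_inv, Units.val_mul]
  rw [Matrix.trace_mul_comm, ← mul_assoc, ← Units.val_mul, inv_mul_cancel, Units.val_one, one_mul]

theorem kernel_comm {z : P} (hz : toQuot P z = 1) (x : P) : z * x = x * z :=
  Subtype.ext (scalars_comm (toQuot_eq_one.1 hz) _)

theorem Hyp.kernel_cube (h : Hyp P) {z : P} (hz : toQuot P z = 1) : z ^ 3 = 1 := by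
  obtain ⟨c, hc⟩ := (mem_scalars_iff _).1 (toQuot_eq_one.1 hz)
  apply Subtype.ext
  apply Units.ext
  rw [Subgroup.coe_pow, Units.val_pow_eq_pow_val, hc, smul_pow, one_pow,
    h.scalar_cube z.2 hc, one_smul, Subgroup.coe_one, Units.val_one]

/-- Two lifts differ by a cube root of unity. -/
theorem Hyp.exists_trc_eq (h : Hyp P) {x y : P} (hxy : toQuot P x = toQuot P y) :
    ∃ c : F, c ^ 3 = 1 ∧ trc x = c * trc y ∧ trc x⁻¹ = c ^ 2 * trc y⁻¹ := by
  have hz : toQuot P (y⁻¹ * x) = 1 := by rw [map_mul, map_inv, hxy, inv_mul_cancel]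
  obtain ⟨c, hc⟩ := (mem_scalars_iff _).1 (toQuot_eq_one.1 hz)
  have hc3 := h.scalar_cube (y⁻¹ * x).2 hc
  refine ⟨c, hc3, ?_, ?_⟩
  · conv_lhs => rw [← mul_inv_cancel_left y x]
    simp only [trc, Subgroup.coe_mul, Units.val_mul] at hc ⊢
    rw [hc, Matrix.mul_smul, mul_one, Matrix.trace_smul, smul_eq_mul]
  · have e : (((y⁻¹ * x)⁻¹ : P) : GL (Fin 3) F) =
        ((y⁻¹ * x) * (y⁻¹ * x) : P) := by
      have := h.kernel_cube hz
      rw [pow_three] at this
      exact congrArg Subtype.val (inv_eq_of_mul_eq_one_right this)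
    conv_lhs => rw [← mul_inv_cancel_left y x, _root_.mul_inv_rev]
    simp only [trc, Subgroup.coe_mul, Units.val_mul] at hc ⊢
    rw [e, Subgroup.coe_mul, Units.val_mul]
    simp only [Subgroup.coe_mul, Units.val_mul]
    rw [hc, Matrix.smul_mul, one_mul, smul_smul, Matrix.smul_mul, one_mul, Matrix.trace_smul, smul_eq_mul,
      pow_two]

theorem eq_one_of_pow_coprime {G : Type*} [Group G] {g : G} {n m : ℕ} (hnm : Nat.Coprime n m)
    (hn : g ^ n = 1) (hm : g ^ m = 1) : g = 1 := by
  have h1 := pow_gcd_eq_one.2 ⟨hn, hm⟩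
  rwa [hnm.gcd_eq_one, pow_one] at h1

theorem coprime_of_not_dvd {n : ℕ} (hn : ¬ 3 ∣ n) : Nat.Coprime n 3 :=
  ((Nat.prime_three.coprime_iff_not_dvd).2 hn).symm

/-- Elements of order prime to three in the quotient have lifts of the same order. -/
theorem Hyp.exists_exact (h : Hyp P) {t : Quot P} {n : ℕ} (hn : ¬ 3 ∣ n) (ht : t ^ n = 1) :
    ∃ y : P, toQuot P y = t ∧ y ^ n = 1 := by
  obtain ⟨x, rfl⟩ := toQuot_surjective (P := P) t
  have hz : toQuot P (x ^ n) = 1 := by rw [map_pow, ht]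
  refine ⟨x * (x ^ n) ^ (2 * n), ?_, ?_⟩
  · rw [map_mul, map_pow, hz, one_pow, mul_one]
  · rw [Commute.mul_pow ((Commute.self_pow x n).pow_right _), ← pow_mul, ← pow_succ']
    obtain ⟨k, hk⟩ : 3 ∣ 2 * n * n + 1 := by
      rcases (by omega : n % 3 = 1 ∨ n % 3 = 2) with h1 | h1 <;>
        simp [Nat.dvd_iff_mod_eq_zero, Nat.add_mod, Nat.mul_mod, h1]
    rw [hk, pow_mul, h.kernel_cube hz, one_pow]

/-- Conjugation relations lift to lifts of order prime to three. -/
theorem Hyp.conj_exact (h : Hyp P) {g y : P} {n k : ℕ} (hn : ¬ 3 ∣ n) (hy : y ^ n = 1)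
    (hg : toQuot P g * toQuot P y * (toQuot P g)⁻¹ = toQuot P y ^ k) : g * y * g⁻¹ = y ^ k := by
  set z := (y ^ k)⁻¹ * (g * y * g⁻¹) with hz
  have hz1 : toQuot P z = 1 := by
    rw [hz, map_mul, map_inv, map_pow, map_mul, map_mul, map_inv, hg, inv_mul_cancel]
  have e : g * y * g⁻¹ = y ^ k * z := by rw [hz, mul_inv_cancel_left]
  have hzn : z ^ n = 1 := by
    have h1 := congrArg (· ^ n) e
    simp only [conj_pow, hy, mul_one, mul_inv_cancel] at h1
    rw [Commute.mul_pow (show Commute (y ^ k) z from (kernel_comm hz1 _).symm), ← pow_mul, mul_comm k n, pow_mul, hy,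
      one_pow, one_mul] at h1
    exact h1.symm
  rw [e, eq_one_of_pow_coprime (coprime_of_not_dvd hn) hzn (h.kernel_cube hz1), mul_one]

/-- A real element of order prime to three has a lift of real trace. -/
theorem Hyp.real_exact (h : Hyp P) {y : P} {n : ℕ} (hn : ¬ 3 ∣ n) (hy : y ^ n = 1)
    (hr : ∃ s : Quot P, s * toQuot P y * s⁻¹ = (toQuot P y)⁻¹) : trc y⁻¹ = trc y := by
  obtain ⟨s, hs⟩ := hr
  obtain ⟨g, rfl⟩ := toQuot_surjective (P := P) s
  have hn1 : n - 1 + 1 = n := Nat.sub_add_cancel (Nat.one_le_iff_ne_zero.2 fun e => hn (e.symm ▸ dvd_zero 3))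
  have hinv : y⁻¹ = y ^ (n - 1) := inv_eq_of_mul_eq_one_right (by rw [← pow_succ', hn1, hy])
  rw [hinv, ← h.conj_exact hn hy (k := n - 1) (by rw [hs, ← map_inv, hinv, map_pow]), trc_conj]

/-- A real element of order divisible by three has only lifts of the same order. -/
theorem Hyp.real_pow_eq_one (h : Hyp P) {y : P} {n : ℕ} (hn : 3 ∣ n) (hy : toQuot P y ^ n = 1)
    (hr : ∃ s : Quot P, s * toQuot P y * s⁻¹ = (toQuot P y)⁻¹) : y ^ n = 1 := by
  obtain ⟨s, hs⟩ := hr
  obtain ⟨g, rfl⟩ := toQuot_surjective (P := P) s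
  set z := y * (g * y * g⁻¹) with hz
  have hz1 : toQuot P z = 1 := by
    rw [hz, map_mul, map_mul, map_mul, map_inv, hs, mul_inv_cancel]
  have e : g * y * g⁻¹ = y⁻¹ * z := by rw [hz, inv_mul_cancel_left]
  have hd : toQuot P (y ^ n) = 1 := by rw [map_pow, hy]
  have hzn : z ^ n = 1 := by
    obtain ⟨k, rfl⟩ := hn
    rw [pow_mul, h.kernel_cube hz1, one_pow]
  have h1 := congrArg (· ^ n) e
  simp only [conj_pow] at h1
  rw [Commute.mul_pow (show Commute y⁻¹ z from (kernel_comm hz1 _).symm), hzn, mul_one, inv_pow,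
    ← kernel_comm hd g, mul_inv_cancel_right] at h1
  exact eq_one_of_pow_coprime (show Nat.Coprime 2 3 by norm_num)
    (by rw [pow_two]; exact mul_eq_one_iff_eq_inv.2 h1) (h.kernel_cube hd)

section Frobenius

variable (p : ℕ) [Fact p.Prime] [CharP F p]

theorem trc_pow_char (x : P) : trc (x ^ p) = trc x ^ p := by
  simp only [trc, Subgroup.coe_pow, Units.val_pow_eq_pow_val]
  exact trace_pow_char p _

theorem three_pow_char : (3 : F) ^ p = 3 := by
  have := map_natCast (frobenius F p) 3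
  simpa [frobenius_def] using this

theorem trc_eq_three {x : P} (hx : x ^ p = 1) : trc x = 3 :=
  frobenius_inj F p (by simp only [frobenius_def]; rw [← trc_pow_char p, hx, trc_one, three_pow_char])

theorem cube_root_pow_one (hp : p % 3 = 1) {c : F} (hc : c ^ 3 = 1) : c ^ p = c := by
  rw [← Nat.div_add_mod p 3, hp, pow_succ, pow_mul, hc, one_pow, one_mul]

theorem cube_root_pow_two (hp : p % 3 = 2) {c : F} (hc : c ^ 3 = 1) : c ^ p = c ^ 2 := by
  rw [← Nat.div_add_mod p 3, hp, pow_add, pow_mul, hc, one_pow, one_mul]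

theorem cube_root_eq_one (hp : p = 3) {c : F} (hc : c ^ 3 = 1) : c = 1 :=
  frobenius_inj F p (by simp only [frobenius_def, one_pow]; rw [hp, hc])

variable {p}

/-- Being fixed by Frobenius does not depend on the lift. -/
theorem Hyp.fix_of_lift (h : Hyp P) (hp : p % 3 = 1) {x y : P} (hxy : toQuot P x = toQuot P y)
    (hy : trc y ^ p = trc y) : trc x ^ p = trc x := by
  obtain ⟨c, hc, e, -⟩ := h.exists_trc_eq hxy
  rw [e, mul_pow, cube_root_pow_one p hp hc, hy]

/-- Being inverted by Frobenius does not depend on the lift. -/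
theorem Hyp.inv_of_lift (h : Hyp P) (hp : p % 3 = 2) {x y : P} (hxy : toQuot P x = toQuot P y)
    (hy : trc y⁻¹ = trc y ^ p) : trc x⁻¹ = trc x ^ p := by
  obtain ⟨c, hc, e, e'⟩ := h.exists_trc_eq hxy
  rw [e, e', mul_pow, cube_root_pow_two p hp hc, hy]

variable [Fintype F]

theorem card_le_of_trc_pow (hF : Fact p.Prime) (h : Hyp P) (hsub : NoSubfield P) {k : ℕ} (hk : 0 < k)
    (hx : ∀ x : P, trc x ^ (p ^ k) = trc x) : Fintype.card F ≤ p ^ k := by
  classical
  let F₀ : Subfield F := RingHom.eqLocusField (iterateFrobenius F p k) (RingHom.id F)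
  have hmem : ∀ a : F, a ∈ F₀ ↔ a ^ (p ^ k) = a := fun a => by
    show iterateFrobenius F p k a = a ↔ _
    rw [iterateFrobenius_def]
  have htop : F₀ = ⊤ := by
    by_contra hne
    exact hsub F₀ hne (realisable_of_traces h.algOf_eq_top F₀ fun x hx' => (hmem _).2 (hx ⟨x, hx'⟩))
  have h1 : 1 < p ^ k := Nat.one_lt_pow hk.ne' hF.out.one_lt
  have hne := FiniteField.X_pow_card_sub_X_ne_zero F h1
  calc Fintype.card F ≤ (Polynomial.X ^ (p ^ k) - Polynomial.X : Polynomial F).roots.toFinset.card := by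
        rw [← Finset.card_univ]
        refine Finset.card_le_card fun a _ => ?_
        rw [Multiset.mem_toFinset, Polynomial.mem_roots hne]
        have := (hmem a).1 (htop ▸ Subfield.mem_top a)
        simp [this]
    _ ≤ _ := (Multiset.toFinset_card_le _).trans (Polynomial.card_roots' _)
    _ = p ^ k := FiniteField.X_pow_card_sub_X_natDegree_eq F h1

theorem card_eq_prime (h : Hyp P) (hsub : NoSubfield P) (hx : ∀ x : P, trc x ^ p = trc x) :
    Fintype.card F = p := by
  obtain ⟨n, hp, hn⟩ := FiniteField.card F p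
  have hle := card_le_of_trc_pow ⟨hp⟩ h hsub (k := 1) one_pos (by simpa using hx)
  rw [hn, Nat.pow_le_pow_iff_right hp.one_lt] at hle
  have := n.2
  rw [hn, show (n : ℕ) = 1 from le_antisymm hle this, pow_one]

theorem card_prime_or_sq (h : Hyp P) (hsub : NoSubfield P) (hx : ∀ x : P, trc x ^ (p ^ 2) = trc x) :
    Fintype.card F = p ∨ Fintype.card F = p ^ 2 := by
  obtain ⟨n, hp, hn⟩ := FiniteField.card F p
  have hle := card_le_of_trc_pow ⟨hp⟩ h hsub (k := 2) two_pos hx
  rw [hn, Nat.pow_le_pow_iff_right hp.one_lt] at hle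
  have := n.2
  rcases Nat.lt_or_eq_of_le hle with e' | e
  · have e : (n : ℕ) = 1 := le_antisymm (Nat.lt_succ_iff.1 e') this
    exact Or.inl (by rw [hn, e, pow_one])
  · exact Or.inr (by rw [hn, e])

theorem two_ne_zero_of_odd (hp : p ≠ 2) : (2 : F) ≠ 0 := by
  intro e
  have e' : ((2 : ℕ) : F) = 0 := by exact_mod_cast e
  exact hp ((Nat.prime_dvd_prime_iff_eq Fact.out Nat.prime_two).1 ((CharP.cast_eq_zero_iff F p 2).1 e'))

theorem quad_of_real (hp : p ≠ 2) (h : Hyp P) (hx : ∀ x : P, trc x⁻¹ = trc x) : QuadForm P :=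
  exists_quadratic_form h.algOf_eq_top (by decide) (two_ne_zero_of_odd hp) fun x hx' => hx ⟨x, hx'⟩

theorem quad_or_unit (hp : p ≠ 2) (h : Hyp P) (hsub : NoSubfield P)
    (hx : ∀ x : P, trc x⁻¹ = trc x ^ p) : QuadForm P ∨ (Fintype.card F = p ^ 2 ∧ UnitForm P) := by
  have h2 : ∀ x : P, trc x ^ (p ^ 2) = trc x := fun x => by
    rw [pow_two, pow_mul, ← hx x, ← hx x⁻¹, inv_inv]
  rcases card_prime_or_sq h hsub h2 with e | e
  · refine Or.inl (quad_of_real hp h fun x => ?_)
    have := FiniteField.pow_card (trc x)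
    rw [e] at this
    rw [hx x, this]
  · refine Or.inr ⟨e, frobeniusEquiv F p, ?_⟩
    refine exists_unitary_form h.algOf_eq_top _ ?_ ?_ fun x hx' => ?_
    · intro he
      have hfix : ∀ a : F, a ^ p = a := fun a => by
        have := RingEquiv.congr_fun he a
        simpa [frobeniusEquiv_def, frobenius_def] using this
      have := card_eq_prime h hsub fun x => hfix _
      rw [e] at this
      have hp1 := (Fact.out : p.Prime).one_lt
      nlinarith
    · intro a
      simp only [frobeniusEquiv_def, ← pow_mul, ← pow_two, ← e, FiniteField.pow_card]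
    · simpa [frobeniusEquiv_def, frobenius_def, trc] using hx ⟨x, hx'⟩

end Frobenius

theorem trc_inv_GU [Fintype F] {q : ℕ} (hF : Fintype.card F = q ^ 2) (hPU : P ≤ Cfsg.GU 3 F q) (x : P) :
    trc x⁻¹ = trc x ^ q := by
  obtain ⟨τ, hτ, -, -⟩ := CfsgLib.UnitaryEmbed.exists_conj hF
  have h1 := (CfsgLib.IsomConj.mem_GU_iff_ctr hF).1 (hPU x.2)
  have h2 : (((x⁻¹ : P) : GL (Fin 3) F) : Matrix (Fin 3) (Fin 3) F) =
      CfsgLib.IsomConj.ctr q ((x : GL (Fin 3) F) : Matrix (Fin 3) (Fin 3) F) := by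
    rw [Subgroup.coe_inv, Matrix.coe_units_inv]
    exact Matrix.inv_eq_left_inv h1
  simp only [trc]
  rw [h2, CfsgLib.IsomConj.ctr, Matrix.trace_transpose, ← hτ, Matrix.trace, Matrix.trace, map_sum]
  exact Finset.sum_congr rfl fun i _ => by simp [hτ]

theorem card_ne_prime_of_sq [Fintype F] {q p : ℕ} (hF : Fintype.card F = q ^ 2) (hp : p.Prime) :
    Fintype.card F ≠ p := fun e => hp.prime.not_isSquare ⟨q, by rw [← e, hF, pow_two]⟩

open scoped IsMulCommutative in
/-- A subgroup of index prime to three with abelian preimage kills the scalars. -/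
theorem Hyp.inj_of_abelian_index [Fintype F] (h : Hyp P) (E : Subgroup (Quot P)) (hE : ¬ 3 ∣ E.index)
    (hab : ∀ x y : P, toQuot P x ∈ E → toQuot P y ∈ E → x * y = y * x) :
    Function.Injective (toQuot P) := by
  rw [injective_iff_map_eq_one]
  intro z hz
  let H := E.comap (toQuot P)
  have : IsMulCommutative H := ⟨⟨fun a b => Subtype.ext (hab a b a.2 b.2)⟩⟩
  have key := MonoidHom.transfer_eq_pow (MonoidHom.id H) z fun k g₀ _ => by
    rw [mul_assoc, kernel_comm (z := z ^ k) (by rw [map_pow, hz, one_pow]) g₀, inv_mul_cancel_left]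
  have hker : (MonoidHom.transfer (MonoidHom.id H)) z = 1 := by
    have hperf := DimThreeSub.commutator_subtype_top h.perfect
    exact MonoidHom.mem_ker.1 (Abelianization.commutator_subset_ker _ (hperf ▸ Subgroup.mem_top z))
  rw [key, MonoidHom.id_apply] at hker
  have h1 : z ^ H.index = 1 := congrArg Subtype.val hker
  rw [Subgroup.index_comap_of_surjective _ toQuot_surjective] at h1
  exact eq_one_of_pow_coprime (coprime_of_not_dvd hE) h1 (h.kernel_cube hz)

theorem trc_inv_eq_of_equiv {T : Type*} [Group T] (e : P ≃* T) {x : P}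
    (hr : ∃ s : T, s * e x * s⁻¹ = (e x)⁻¹) : trc x⁻¹ = trc x := by
  obtain ⟨s, hs⟩ := hr
  rw [show x⁻¹ = e.symm s * x * (e.symm s)⁻¹ from e.injective (by simp [hs]), trc_conj]

end CfsgLib.Mitchell
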