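import Mathlib

/-!
The properties of involution centralisers which the geometry of a three-dimensional group without
transvections, in odd characteristic, provides.
-/

set_option autoImplicit false

namespace CfsgLib.Mitchell

universe u

variable {T : Type u} [Group T]

/-- The centraliser of an element. -/
abbrev Cen (t : T) : Subgroup T := Subgroup.centralizer ({t} : Set T)

/-- `C(t)` modulo `⟨t⟩` is `H`. -/
def QuotBy (t : T) (H : Type) [Group H] : Prop :=
  ∃ f : Cen t →* H, Function.Surjective f ∧ ∀ x, f x = 1 ↔ (x : T) = 1 ∨ (x : T) = t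

/-- The possible involution centralisers modulo the involution. -/
def Shape (t : T) : Prop :=
  (∃ n, 0 < n ∧ QuotBy t (Multiplicative (ZMod n))) ∨ (∃ n, 0 < n ∧ QuotBy t (DihedralGroup n)) ∨
    QuotBy t (alternatingGroup (Fin 4)) ∨ QuotBy t (Equiv.Perm (Fin 4)) ∨
    QuotBy t (alternatingGroup (Fin 5))

/-- The geometric facts on involution centralisers. -/
structure LocalData (T : Type u) [Group T] : Prop where
  shape : ∀ t : T, orderOf t = 2 → Shape t
  anticomm : ∀ t x y : T, orderOf t = 2 → x ∈ Cen t → y ∈ Cen t → (x * x = 1 ∨ x * x = t) →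
    (y * y = 1 ∨ y * y = t) → x ≠ 1 → x ≠ t → y ≠ 1 → y ≠ t → y ≠ x → y ≠ t * x → x * y ≠ y * x
  no_sqrt : ∀ t e y : T, orderOf t = 2 → orderOf e = 2 → e ≠ t → e * t = t * e → y * e = e * y →
    y * y = t → False
  ti : ∀ t s x y : T, orderOf t = 2 → s ∈ Cen t → x ∈ Cen t → x ≠ 1 → x ≠ t →
    s * x * s⁻¹ = x⁻¹ → y * x = x * y → x * x ≠ 1 → (∃ g, g * x = x * g ∧ g * y * g⁻¹ = y⁻¹) →
    y ∈ Cen t
  cube : ∀ t e s r x : T, orderOf t = 2 → orderOf e = 2 → e ≠ t → e * t = t * e → x * t = t * x →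
    x * e = e * x → Odd (orderOf x) → s ∈ Cen t → r ∈ Cen e → s * x * s⁻¹ = x⁻¹ →
    r * x * r⁻¹ = x⁻¹ → x ^ 3 = 1

end CfsgLib.Mitchell
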