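import Cfsg.Agent.Lib.Mitchell.AxisRep
import Cfsg.Agent.Lib.Mitchell.FieldsBase
import Cfsg.Agent.Lib.Mitchell.LocalData

/-!
Involution centralisers of a three-dimensional group without transvections in odd characteristic.
-/

set_option autoImplicit false
set_option linter.unusedSectionVars false

namespace CfsgLib.Mitchell

open Cfsg Cfsg.Geo Matrix CfsgLib.Geo.Asch CfsgLib.GeomClasses
open scoped MatrixGroups

variable {F : Type*} [Field F] [Fintype F] {P : Subgroup (GL (Fin 3) F)}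

theorem Hyp.exists_refl_lift (h : Hyp P) (h2 : (2 : F) ≠ 0) {t : Quot P} (ht : orderOf t = 2) :
    ∃ u φ : Fin 3 → F, ∃ hm : refl u φ ∈ P, φ ⬝ᵥ u = 1 ∧ toQuot P ⟨refl u φ, hm⟩ = t := by
  obtain ⟨g, hg, hg2⟩ := h.exists_exact (n := 2) (by norm_num) (t := t) (by rw [← ht, pow_orderOf_eq_one])
  have hgg : (g : GL (Fin 3) F) * g = 1 := by
    rw [sq] at hg2; exact congrArg Subtype.val hg2
  have hg1 : (g : GL (Fin 3) F) ≠ 1 := fun e => by
    rw [show g = 1 from Subtype.ext e, map_one] at hg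
    rw [← hg, orderOf_one] at ht
    norm_num at ht
  obtain ⟨u, φ, hu, e⟩ := exists_refl h2 hgg (h.det_eq_one g.2) hg1
  exact ⟨u, φ, e ▸ g.2, hu, by rw [← hg]; exact congrArg _ (Subtype.ext e.symm)⟩

/-- A lift of an involution as a reflection, with the action of its centraliser. -/
structure Geom (P : Subgroup (GL (Fin 3) F)) (t : Quot P) where
  u : Fin 3 → F
  φ : Fin 3 → F
  unit : φ ⬝ᵥ u = 1
  mem : refl u φ ∈ P
  img : toQuot P ⟨refl u φ, mem⟩ = t
  rep : AxisRep P u φ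

theorem Hyp.exists_geom (h : Hyp P) (h2 : (2 : F) ≠ 0) {t : Quot P} (ht : orderOf t = 2) :
    Nonempty (Geom P t) := by
  obtain ⟨u, φ, hm, hu, e⟩ := h.exists_refl_lift h2 ht
  obtain ⟨A⟩ := exists_axisRep (P := P) h2 hu
  exact ⟨⟨u, φ, hu, hm, e, A⟩⟩

namespace Geom

variable {t : Quot P} (G : Geom P t)

/-- The inclusion of the centraliser. -/
noncomputable def incl : reflCen P G.u G.φ →* P := Subgroup.inclusion inf_le_left

/-- The image in the simple quotient. -/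
noncomputable def σ : reflCen P G.u G.φ →* Quot P := (toQuot P).comp G.incl

/-- The action on the axis modulo scalars. -/
noncomputable def π : reflCen P G.u G.φ →* ProjGenLinGroup (Fin 2) F :=
  (ProjGenLinGroup.mk : GL (Fin 2) F →* ProjGenLinGroup (Fin 2) F).comp G.rep.ρ

/-- The reflection itself. -/
noncomputable def r : reflCen P G.u G.φ := ⟨refl G.u G.φ, mem_reflCen.2 ⟨G.mem, rfl⟩⟩

theorem σ_r : G.σ G.r = t := G.img

theorem π_eq_one {c : reflCen P G.u G.φ} :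
    G.π c = 1 ↔ ∃ s : F, (G.rep.ρ c : Matrix (Fin 2) (Fin 2) F) = s • (1 : Matrix (Fin 2) (Fin 2) F) := by
  rw [π, MonoidHom.comp_apply, ProjGenLinGroup.mk_eq_one, GeneralLinearGroup.center_eq_range_scalar]
  constructor
  · rintro ⟨s, hs⟩
    refine ⟨s, ?_⟩
    rw [← hs]
    simp [Matrix.smul_one_eq_diagonal]
  · rintro ⟨s, hs⟩
    have hs0 : s ≠ 0 := fun e => (G.rep.ρ c).ne_zero (by rw [hs, e, zero_smul])
    exact ⟨Units.mk0 s hs0, Units.ext (by rw [hs]; simp [Matrix.smul_one_eq_diagonal])⟩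

theorem scalar_of {c : reflCen P G.u G.φ} {s : F}
    (hρ : (G.rep.ρ c : Matrix (Fin 2) (Fin 2) F) = s • (1 : Matrix (Fin 2) (Fin 2) F))
    (hα : (G.rep.α c : F) = s) : (c : GL (Fin 3) F) ∈ scalars (Fin 3) F := by
  have hax := (G.rep.axis c s).1 hρ
  refine (mem_scalars_iff _).2 ⟨G.rep.α c, Matrix.ext_of_mulVec_single fun j => ?_⟩
  set x : Fin 3 → F := Pi.single j 1
  have hx := hax (x - (G.φ ⬝ᵥ x) • G.u)
    (by rw [dotProduct_sub, dotProduct_smul, G.unit, smul_eq_mul, mul_one, sub_self])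
  rw [Matrix.mulVec_sub, Matrix.mulVec_smul, G.rep.centre, hα, sub_eq_iff_eq_add] at hx
  rw [Matrix.smul_mulVec, Matrix.one_mulVec, hx, hα, smul_sub, smul_comm, sub_add_cancel]

theorem σ_eq_one {c : reflCen P G.u G.φ} :
    G.σ c = 1 ↔ (c : GL (Fin 3) F) ∈ scalars (Fin 3) F := toQuot_eq_one

theorem of_scalar {c : reflCen P G.u G.φ} (hc : G.σ c = 1) :
    (G.rep.ρ c : Matrix (Fin 2) (Fin 2) F) = (G.rep.α c : F) • (1 : Matrix (Fin 2) (Fin 2) F) := by
  obtain ⟨s, hs⟩ := (mem_scalars_iff _).1 (G.σ_eq_one.1 hc)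
  have hα : (G.rep.α c : F) = s := by
    have e := G.rep.centre c
    rw [hs, Matrix.smul_mulVec, Matrix.one_mulVec] at e
    have hu0 : G.u ≠ 0 := fun e' => by
      have := G.unit; rw [e', dotProduct_zero] at this; exact zero_ne_one this
    exact (smul_left_injective F hu0 e).symm
  rw [hα]
  exact (G.rep.axis c s).2 fun x _ => by rw [hs, Matrix.smul_mulVec, Matrix.one_mulVec]

theorem ρ_r : (G.rep.ρ G.r : Matrix (Fin 2) (Fin 2) F) = (-1 : F) • (1 : Matrix (Fin 2) (Fin 2) F) :=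
  (G.rep.axis G.r (-1)).2 fun x hx => by
    show (refl G.u G.φ : Matrix (Fin 3) (Fin 3) F) *ᵥ x = _
    rw [refl_mulVec G.unit, hx, mul_zero, zero_smul, zero_sub, neg_smul, one_smul]

theorem σ_mem (c : reflCen P G.u G.φ) : G.σ c ∈ Cen t := by
  have e := congrArg G.σ (show c * G.r = G.r * c from Subtype.ext (mem_reflCen.1 c.2).2)
  rw [map_mul, map_mul, G.σ_r] at e
  exact Subgroup.mem_centralizer_singleton_iff.2 e

theorem exists_lift_of (h : Hyp P) (k : P) (hk : toQuot P k ∈ Cen t) :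
    (k : GL (Fin 3) F) ∈ reflCen P G.u G.φ := by
  refine mem_reflCen.2 ⟨k.2, ?_⟩
  have e := h.conj_exact (g := k) (y := ⟨refl G.u G.φ, G.mem⟩) (n := 2) (k := 1) (by norm_num)
    (Subtype.ext (by rw [sq]; exact refl_sq G.unit)) (by
      rw [G.img, pow_one, Subgroup.mem_centralizer_singleton_iff.1 hk, mul_inv_cancel_right])
  rw [pow_one, mul_inv_eq_iff_eq_mul] at e
  exact congrArg Subtype.val e

theorem exists_lift (h : Hyp P) {x : Quot P} (hx : x ∈ Cen t) : ∃ c, G.σ c = x := by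
  obtain ⟨k, rfl⟩ := toQuot_surjective (P := P) x
  exact ⟨⟨k, G.exists_lift_of h k hx⟩, rfl⟩

variable (p : ℕ) [Fact p.Prime] [CharP F p]
include p G

/-- Elements scalar on the axis. -/
theorem kernel (h2 : (2 : F) ≠ 0) (h : Hyp P) (hP : NoRoot P) {c : reflCen P G.u G.φ} :
    G.π c = 1 ↔ G.σ c = 1 ∨ G.σ c = t := by
  constructor
  · intro hc
    obtain ⟨s, hs⟩ := G.π_eq_one.1 hc
    obtain ⟨hcP, hcr⟩ := mem_reflCen.1 c.2
    rcases homology_trivial p h2 h hP G.unit G.mem hcP hcr ((G.rep.axis c s).1 hs) with e | e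
    · exact Or.inl (G.σ_eq_one.2 e)
    · refine Or.inr ?_
      have e' : G.σ (c * G.r) = 1 := G.σ_eq_one.2 e
      rw [map_mul, G.σ_r] at e'
      have ht : t * t = 1 := by
        rw [← G.σ_r, ← map_mul, show G.r * G.r = 1 from Subtype.ext (refl_sq G.unit), map_one]
      calc G.σ c = G.σ c * t * t := by rw [mul_assoc, ht, mul_one]
        _ = t := by rw [e', one_mul]
  · rintro (e | e)
    · exact G.π_eq_one.2 ⟨_, G.of_scalar e⟩
    · have h1 : G.σ (c * G.r⁻¹) = 1 := by rw [map_mul, map_inv, e, G.σ_r, mul_inv_cancel]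
      have h3 : G.π (c * G.r⁻¹) = 1 := G.π_eq_one.2 ⟨_, G.of_scalar h1⟩
      rw [map_mul, map_inv, show G.π G.r = 1 from G.π_eq_one.2 ⟨_, G.ρ_r⟩, inv_one, mul_one] at h3
      exact h3

theorem no_p (h2 : (2 : F) ≠ 0) (hP : NoRoot P) (x : G.π.range) (hx : x ^ p = 1) : x = 1 := by
  obtain ⟨x, c, rfl⟩ := x
  refine Subtype.ext ?_
  have hx' : G.π c ^ p = 1 := congrArg Subtype.val hx
  have hpd : ¬ p ∣ orderOf c := fun hd => by
    set d := c ^ (orderOf c / p) with hd'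
    have hdp : d ^ p = 1 := by rw [hd', ← pow_mul, Nat.div_mul_cancel hd, pow_orderOf_eq_one]
    have h1 : d = 1 := Subtype.ext (eq_one_of_commute_refl p h2 hP G.unit (mem_reflCen.1 d.2).1
      (mem_reflCen.1 d.2).2 (congrArg Subtype.val hdp))
    have h3 := orderOf_pow_orderOf_div (orderOf_pos c).ne' hd
    rw [← hd', h1, orderOf_one] at h3
    exact (Fact.out : p.Prime).ne_one h3.symm
  exact orderOf_eq_one_iff.1 (Nat.eq_one_of_dvd_coprimes
    ((Fact.out : p.Prime).coprime_iff_not_dvd.2 hpd) (orderOf_dvd_of_pow_eq_one hx') (orderOf_map_dvd G.π c))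

theorem shape (h2 : (2 : F) ≠ 0) (h : Hyp P) (hP : NoRoot P) : Shape t := by
  let σ' : reflCen P G.u G.φ →* Cen t := G.σ.codRestrict (Cen t) G.σ_mem
  have hsurj : Function.Surjective σ' := fun x => by
    obtain ⟨c, hc⟩ := G.exists_lift h x.2
    exact ⟨c, Subtype.ext hc⟩
  have hker : σ'.ker ≤ G.π.rangeRestrict.ker := fun c hc => by
    rw [MonoidHom.ker_rangeRestrict, MonoidHom.mem_ker]
    exact (G.kernel p h2 h hP).2 (Or.inl (congrArg Subtype.val (MonoidHom.mem_ker.1 hc)))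
  let f : Cen t →* G.π.range := MonoidHom.liftOfSurjective σ' hsurj ⟨G.π.rangeRestrict, hker⟩
  have hf : ∀ c, f (σ' c) = G.π.rangeRestrict c := fun c =>
    MonoidHom.liftOfRightInverse_comp_apply σ' _ _ ⟨G.π.rangeRestrict, hker⟩ c
  have hfs : Function.Surjective f := fun y => by
    obtain ⟨c, hc⟩ := G.π.rangeRestrict_surjective y
    exact ⟨σ' c, by rw [hf, hc]⟩
  have hf1 : ∀ x, f x = 1 ↔ (x : Quot P) = 1 ∨ (x : Quot P) = t := fun x => by
    obtain ⟨c, rfl⟩ := hsurj x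
    rw [hf]
    exact ⟨fun e => (G.kernel p h2 h hP).1 (congrArg Subtype.val e),
      fun e => Subtype.ext ((G.kernel p h2 h hP).2 e)⟩
  have quot : ∀ (H : Type) [Group H], (G.π.range ≃* H) → QuotBy t H := fun H _ e =>
    ⟨e.toMonoidHom.comp f, e.surjective.comp hfs, fun x =>
      (EmbeddingLike.map_eq_one_iff (f := e)).trans (hf1 x)⟩
  rcases twoShape_of_pgl p G.π.range.subtype (Subgroup.subtype_injective _) (G.no_p p h2 hP) with
    hc | ⟨n, hn, ⟨e⟩⟩ | ⟨⟨e⟩⟩ | ⟨⟨e⟩⟩ | ⟨⟨e⟩⟩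
  · exact Or.inl ⟨Nat.card G.π.range, Nat.card_pos, quot _ (zmodCyclicMulEquiv hc).symm⟩
  · exact Or.inr (Or.inl ⟨n, hn, quot _ e⟩)
  · exact Or.inr (Or.inr (Or.inl (quot _ e)))
  · exact Or.inr (Or.inr (Or.inr (Or.inl (quot _ e))))
  · exact Or.inr (Or.inr (Or.inr (Or.inr (quot _ e))))

theorem anticomm (h2 : (2 : F) ≠ 0) (h : Hyp P) (hP : NoRoot P) {x y : Quot P} (hx : x ∈ Cen t)
    (hy : y ∈ Cen t) (hxx : x * x = 1 ∨ x * x = t) (hyy : y * y = 1 ∨ y * y = t) (hx1 : x ≠ 1) (hxt : x ≠ t)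
    (hy1 : y ≠ 1) (hyt : y ≠ t) (hyx : y ≠ x) (hytx : y ≠ t * x) : x * y ≠ y * x := by
  intro hcomm
  obtain ⟨c, rfl⟩ := G.exists_lift h hx
  obtain ⟨d, rfl⟩ := G.exists_lift h hy
  have ns : ∀ z, G.σ z ≠ 1 → G.σ z ≠ t → ∀ l : F,
      (G.rep.ρ z : Matrix (Fin 2) (Fin 2) F) ≠ l • (1 : Matrix (Fin 2) (Fin 2) F) := fun z h1 h3 l e =>
    ((G.kernel p h2 h hP).1 (G.π_eq_one.2 ⟨l, e⟩)).elim h1 h3
  have tr0 : ∀ z, (G.σ z * G.σ z = 1 ∨ G.σ z * G.σ z = t) → G.σ z ≠ 1 → G.σ z ≠ t →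
      (G.rep.ρ z : Matrix (Fin 2) (Fin 2) F).trace = 0 := fun z hzz h1 h3 => by
    rw [← map_mul] at hzz
    obtain ⟨s, hs⟩ := G.π_eq_one.1 ((G.kernel p h2 h hP).2 hzz)
    rw [map_mul, Units.val_mul] at hs
    exact trace_zero_of_sq hs (ns z h1 h3)
  -- the lifts commute exactly
  set z := c * d * c⁻¹ * d⁻¹ with hz
  have hz1 : G.σ z = 1 := by
    rw [hz, map_mul, map_mul, map_mul, map_inv, map_inv, hcomm, mul_inv_cancel_right, mul_inv_cancel]
  have hzα : (G.rep.α z : F) = 1 := by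
    rw [hz, map_mul, map_mul, map_mul, map_inv, map_inv, mul_comm (G.rep.α c), mul_inv_cancel_right,
      mul_inv_cancel, Units.val_one]
  have hzρ : G.rep.ρ z = 1 := Units.ext (by rw [G.of_scalar hz1, hzα, one_smul, Units.val_one])
  have hMN : G.rep.ρ c * G.rep.ρ d = G.rep.ρ d * G.rep.ρ c := by
    rw [hz, map_mul, map_mul, map_mul, map_inv, map_inv, mul_inv_eq_one, mul_inv_eq_iff_eq_mul] at hzρ
    exact hzρ
  obtain ⟨l, hl⟩ := proportional_of_traceless h2 (tr0 c hxx hx1 hxt) (tr0 d hyy hy1 hyt)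
    (G.rep.ρ c).ne_zero (by rw [← Units.val_mul, hMN, Units.val_mul])
  have h3 : G.π (c⁻¹ * d) = 1 := G.π_eq_one.2 ⟨l, by
    rw [map_mul, map_inv, Units.val_mul, hl, Matrix.mul_smul, ← Units.val_mul, inv_mul_cancel, Units.val_one]⟩
  rcases (G.kernel p h2 h hP).1 h3 with e | e <;> rw [map_mul, map_inv, inv_mul_eq_iff_eq_mul] at e
  · exact hyx (by rw [e, mul_one])
  · exact hytx (e.trans (Subgroup.mem_centralizer_singleton_iff.1 hx))

/-- An element inverted in the centraliser. -/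
theorem inverted_cases (h : Hyp P) {c : reflCen P G.u G.φ} {s : Quot P} (hs : s ∈ Cen t)
    (hsc : s * G.σ c * s⁻¹ = (G.σ c)⁻¹) :
    (G.rep.ρ c : Matrix (Fin 2) (Fin 2) F).det = (G.rep.α c : F) ^ 2 ∨ G.σ c * G.σ c = 1 := by
  obtain ⟨d, rfl⟩ := G.exists_lift h hs
  set z := d * c * d⁻¹ * c with hz
  have hz1 : G.σ z = 1 := by rw [hz, map_mul, map_mul, map_mul, map_inv, hsc, inv_mul_cancel]
  have hzα : (G.rep.α z : F) = (G.rep.α c : F) ^ 2 := by
    rw [hz, map_mul, map_mul, map_mul, map_inv, mul_comm (G.rep.α d), mul_inv_cancel_right, Units.val_mul, sq]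
  have hzρ := G.of_scalar hz1
  rw [hzα, hz, map_mul, map_mul, map_mul, map_inv, Units.val_mul, Units.val_mul, Units.val_mul] at hzρ
  rcases twisted_cases hzρ
    (by rw [Matrix.trace_mul_comm, ← mul_assoc, ← Units.val_mul, inv_mul_cancel, Units.val_one, one_mul])
    (by rw [Matrix.det_mul_right_comm, ← Units.val_mul, mul_inv_cancel, Units.val_one, one_mul]) with e | e
  · exact Or.inl e
  · refine Or.inr ?_
    rw [← map_mul, G.σ_eq_one]
    refine G.scalar_of (by rw [map_mul, Units.val_mul, e]) ?_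
    rw [map_mul, Units.val_mul, sq]

/-- A quadratic relation forcing a power of the characteristic. -/
theorem π_eq_one_of_nilpotent (h2 : (2 : F) ≠ 0) (hP : NoRoot P) {c : reflCen P G.u G.φ} {s : F}
    (hn : ((G.rep.ρ c : Matrix (Fin 2) (Fin 2) F) - s • (1 : Matrix (Fin 2) (Fin 2) F)) ^ 2 = 0) :
    G.π c = 1 := by
  have hp2 : 2 ≤ p := (Fact.out : p.Prime).two_le
  have h0 := pow_eq_zero_of_le hp2 hn
  rw [sub_pow_char_of_commute _ ((Commute.one_right _).smul_right s), smul_pow, one_pow, sub_eq_zero,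
    ← Units.val_pow_eq_pow_val, ← map_pow] at h0
  have h1 : G.π (c ^ p) = 1 := G.π_eq_one.2 ⟨_, h0⟩
  rw [map_pow] at h1
  exact congrArg Subtype.val (G.no_p p h2 hP ⟨_, c, rfl⟩ (Subtype.ext h1))

theorem ti (h2 : (2 : F) ≠ 0) (h : Hyp P) (hP : NoRoot P) {s x y : Quot P} (hs : s ∈ Cen t)
    (hx : x ∈ Cen t) (hx1 : x ≠ 1) (hxt : x ≠ t) (hsx : s * x * s⁻¹ = x⁻¹) (hyx : y * x = x * y)
    (hxx : x * x ≠ 1) (hg : ∃ g, g * x = x * g ∧ g * y * g⁻¹ = y⁻¹) : y ∈ Cen t := by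
  obtain ⟨c, rfl⟩ := G.exists_lift h hx
  obtain ⟨k, rfl⟩ := toQuot_surjective (P := P) y
  obtain ⟨g, hgx, hgy⟩ := hg
  obtain ⟨g, rfl⟩ := toQuot_surjective (P := P) g
  set cP : P := G.incl c with hcP
  -- the lifts commute exactly
  set w := k * cP * k⁻¹ * cP⁻¹ with hw
  have hw1 : toQuot P w = 1 := by
    rw [hw, map_mul, map_mul, map_mul, map_inv, map_inv, show toQuot P cP = G.σ c from rfl, hyx,
      mul_inv_cancel_right, mul_inv_cancel]
  have hcen : ∀ (a b : P), toQuot P a = toQuot P b → ∀ q, (b⁻¹ * a) * q = q * (b⁻¹ * a) := fun a b e =>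
    kernel_comm (by rw [map_mul, map_inv, e, inv_mul_cancel])
  have key : w = k⁻¹ * cP * k * cP⁻¹ := by
    set K := g * k * g⁻¹ with hK
    set C := g * cP * g⁻¹ with hC
    have ha := hcen K k⁻¹ (by rw [hK, map_mul, map_mul, map_inv, map_inv, hgy])
    have hb := hcen C cP (by
      rw [hC, map_mul, map_mul, map_inv, show toQuot P cP = G.σ c from rfl, hgx, mul_inv_cancel_right])
    set A := k⁻¹⁻¹ * K with hA
    set B := cP⁻¹ * C with hB
    calc w = g * w * g⁻¹ := by rw [← kernel_comm hw1 g, mul_inv_cancel_right]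
      _ = K * C * K⁻¹ * C⁻¹ := by rw [hK, hC, hw]; group
      _ = k⁻¹ * A * (cP * B) * (k⁻¹ * A)⁻¹ * (cP * B)⁻¹ := by
        rw [show k⁻¹ * A = K by rw [hA]; group, show cP * B = C by rw [hB]; group]
      _ = k⁻¹ * (A * (cP * B)) * A⁻¹ * k * B⁻¹ * cP⁻¹ := by group
      _ = k⁻¹ * cP * (B * k) * B⁻¹ * cP⁻¹ := by rw [ha (cP * B)]; group
      _ = k⁻¹ * cP * k * cP⁻¹ := by rw [hb k]; group
  have hinv : w = w⁻¹ := by
    calc w = k⁻¹ * cP * k * cP⁻¹ := key
      _ = k⁻¹ * w⁻¹ * k := by rw [hw]; group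
      _ = w⁻¹ := by rw [mul_assoc, kernel_comm (by rw [map_inv, hw1, inv_one]) k, inv_mul_cancel_left]
  have hw0 : w = 1 := eq_one_of_pow_coprime (n := 2) (m := 3) (by norm_num)
    (by rw [sq]; exact mul_eq_one_iff_eq_inv.2 hinv) (h.kernel_cube hw1)
  have hkc : (k : GL (Fin 3) F) * c = c * k := by
    rw [hw, mul_inv_eq_one, mul_inv_eq_iff_eq_mul] at hw0
    exact congrArg Subtype.val hw0
  rcases G.inverted_cases p h hs hsx with hD | hxx'
  swap
  · exact absurd hxx' hxx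
  set a := (G.rep.α c : F) with ha
  set M := (G.rep.ρ c : Matrix (Fin 2) (Fin 2) F) with hM
  by_cases hev : (M - a • (1 : Matrix (Fin 2) (Fin 2) F)).det = 0
  · exfalso
    rw [det_sub_smul_two, hD] at hev
    have htr : M.trace = 2 * a := mul_left_cancel₀ (G.rep.α c).ne_zero (by linear_combination -hev)
    have hn : (M - a • (1 : Matrix (Fin 2) (Fin 2) F)) ^ 2 = 0 := by
      rw [sq, sub_mul, mul_sub, mul_sub, cayley_two, htr, hD]
      simp only [Matrix.smul_mul, Matrix.mul_smul, one_mul, mul_one, smul_smul]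
      ext i j
      simp only [Matrix.sub_apply, Matrix.smul_apply, smul_eq_mul, Matrix.zero_apply]
      ring
    exact ((G.kernel p h2 h hP).1 (G.π_eq_one_of_nilpotent p h2 hP hn)).elim hx1 hxt
  -- the centre is fixed
  set l := G.φ ⬝ᵥ ((k : GL (Fin 3) F) : Matrix (Fin 3) (Fin 3) F) *ᵥ G.u with hl
  have hku : ((k : GL (Fin 3) F) : Matrix (Fin 3) (Fin 3) F) *ᵥ G.u = l • G.u := by
    by_contra hne
    refine hev (G.rep.eigen c _ a ?_ (sub_ne_zero.2 hne) ?_)
    · rw [dotProduct_sub, ← hl, dotProduct_smul, G.unit, smul_eq_mul, mul_one, sub_self]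
    · rw [Matrix.mulVec_sub, Matrix.mulVec_smul, ← gl_mul_mulVec, ← hkc, gl_mul_mulVec, G.rep.centre,
        Matrix.mulVec_smul, smul_sub, smul_comm]
  obtain ⟨e1, e3⟩ := conj_refl (k : GL (Fin 3) F) G.unit
  have hmem : (k : GL (Fin 3) F) * refl G.u G.φ * (k : GL (Fin 3) F)⁻¹ ∈ P :=
    P.mul_mem (P.mul_mem k.2 G.mem) (P.inv_mem k.2)
  rw [hku] at e1 e3
  rw [e3, refl_smul e1] at hmem
  rw [dotProduct_smul, ← smul_dotProduct] at e1
  have heq := refl_unique_centre h2 hP G.unit e1 G.mem hmem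
  have hk' : (k : GL (Fin 3) F) * refl G.u G.φ * (k : GL (Fin 3) F)⁻¹ = refl G.u G.φ := by
    rw [e3, refl_smul (by rw [dotProduct_smul, ← smul_dotProduct]; exact e1), ← heq]
  have := G.σ_mem ⟨k, mem_reflCen.2 ⟨k.2, mul_inv_eq_iff_eq_mul.1 hk'⟩⟩
  exact this

theorem cube (h2 : (2 : F) ≠ 0) (h : Hyp P) (hP : NoRoot P) {e s r x : Quot P} (he : orderOf e = 2)
    (het : e ≠ t) (hete : e * t = t * e) (hxt : x * t = t * x) (hxe : x * e = e * x)
    (hodd : Odd (orderOf x)) (hs : s ∈ Cen t) (hr : r ∈ Cen e) (hsx : s * x * s⁻¹ = x⁻¹)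
    (hrx : r * x * r⁻¹ = x⁻¹) : x ^ 3 = 1 := by
  obtain ⟨G'⟩ := h.exists_geom h2 he
  obtain ⟨k, rfl⟩ := toQuot_surjective (P := P) x
  have m1 := G.exists_lift_of h k (Subgroup.mem_centralizer_singleton_iff.2 hxt)
  have m2 := G'.exists_lift_of h k (Subgroup.mem_centralizer_singleton_iff.2 hxe)
  set c : reflCen P G.u G.φ := ⟨k, m1⟩
  set c' : reflCen P G'.u G'.φ := ⟨k, m2⟩
  have hsq : toQuot P k * toQuot P k = 1 → toQuot P k ^ 3 = 1 := fun e' => by
    have hd : orderOf (toQuot P k) ∣ 2 := orderOf_dvd_of_pow_eq_one (by rw [sq, e'])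
    obtain ⟨j, hj⟩ := hodd
    rcases (Nat.dvd_prime Nat.prime_two).1 hd with h1 | h1
    · rw [orderOf_eq_one_iff.1 h1, one_pow]
    · omega
  rcases G.inverted_cases p h (c := c) hs hsx with hD | hxx
  swap
  · exact hsq hxx
  rcases G'.inverted_cases p h (c := c') hr hrx with hD' | hxx
  swap
  · exact hsq hxx
  set a := (G.rep.α c : F) with ha
  set b := (G'.rep.α c' : F) with hb
  have hdet : ((k : GL (Fin 3) F) : Matrix (Fin 3) (Fin 3) F).det = 1 := h.det_eq_one k.2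
  have ha3 : a ^ 3 = 1 := by rw [← hdet, G.rep.det c, hD]; ring
  have hb3 : b ^ 3 = 1 := by rw [← hdet, G'.rep.det c', hD']; ring
  -- the second centre lies on the first axis
  have hv : G.φ ⬝ᵥ G'.u = 0 := by
    by_contra hne
    have hcm := mem_reflCen.1 (G'.exists_lift_of h ⟨refl G.u G.φ, G.mem⟩
      (by rw [G.img]; exact Subgroup.mem_centralizer_singleton_iff.2 hete.symm))
    obtain ⟨d, -, hd, -⟩ := eigen_of_commute_refl h2 G'.unit hcm.2
    rw [refl_mulVec G.unit, sub_eq_iff_eq_add, show d • G'.u + G'.u = (d + 1) • G'.u by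
      rw [add_smul, one_smul]] at hd
    have h2a : (2 * (G.φ ⬝ᵥ G'.u)) ≠ 0 := mul_ne_zero h2 hne
    have hu : G.u = ((2 * (G.φ ⬝ᵥ G'.u))⁻¹ * (d + 1)) • G'.u := by
      rw [← smul_smul, ← hd, smul_smul, inv_mul_cancel₀ h2a, one_smul]
    set μ := (2 * (G.φ ⬝ᵥ G'.u))⁻¹ * (d + 1)
    have hμ : μ ≠ 0 := fun e' => by
      have := G.unit; rw [hu, e', zero_smul, dotProduct_zero] at this; exact zero_ne_one this
    have hGu := G.unit
    have hGm := G.mem
    rw [hu] at hGu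
    rw [hu, refl_smul hGu] at hGm
    rw [dotProduct_smul, ← smul_dotProduct] at hGu
    have heq := refl_unique_centre h2 hP G'.unit hGu G'.mem hGm
    refine het ?_
    rw [← G'.img, ← G.img]
    refine congrArg _ (Subtype.ext ?_)
    show refl G'.u G'.φ = refl G.u G.φ
    rw [heq, ← refl_smul (by rw [dotProduct_smul, ← smul_dotProduct]; exact hGu), ← hu]
  have hu0 : G'.u ≠ 0 := fun e' => by
    have := G'.unit; rw [e', dotProduct_zero] at this; exact zero_ne_one this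
  have hev := G.rep.eigen c G'.u b hv hu0 (G'.rep.centre c')
  set M := (G.rep.ρ c : Matrix (Fin 2) (Fin 2) F) with hM
  rw [det_sub_smul_two, hD] at hev
  have hb0 : b ≠ 0 := (G'.rep.α c').ne_zero
  set d := a ^ 2 / b with hd
  have hbd : b * d = a ^ 2 := mul_div_cancel₀ _ hb0
  have htr : M.trace = b + d := mul_left_cancel₀ hb0 (by linear_combination -hev - hbd)
  have hd3 : d ^ 3 = 1 := by rw [hd, div_pow, hb3, div_one, ← pow_mul, mul_comm, pow_mul, ha3, one_pow]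
  set q := b ^ 2 + b * d + d ^ 2 with hq
  have hM3 : M ^ 3 - (1 : F) • (1 : Matrix (Fin 2) (Fin 2) F) = q • M - (b * q) • (1 : Matrix (Fin 2) (Fin 2) F) := by
    rw [pow_succ, sq, cayley_two, htr, hD, ← hbd, sub_mul, Matrix.smul_mul, cayley_two, htr, hD, ← hbd]
    simp only [Matrix.smul_mul, one_mul]
    ext i j
    simp only [Matrix.sub_apply, Matrix.smul_apply, smul_eq_mul, hq]
    linear_combination ((1 : Matrix (Fin 2) (Fin 2) F) i j) * hb3
  have hn : ((G.rep.ρ (c ^ 3) : Matrix (Fin 2) (Fin 2) F) - (1 : F) • (1 : Matrix (Fin 2) (Fin 2) F)) ^ 2 = 0 := by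
    have hq0 : q * (b - d) = 0 := by linear_combination hb3 - hd3
    rw [map_pow, Units.val_pow_eq_pow_val, ← hM, hM3, sq, sub_mul, mul_sub, mul_sub]
    simp only [Matrix.smul_mul, Matrix.mul_smul, one_mul, mul_one, smul_smul, cayley_two M, htr, hD, ← hbd,
      smul_sub]
    ext i j
    simp only [Matrix.sub_apply, Matrix.smul_apply, smul_eq_mul, Matrix.zero_apply]
    linear_combination (q * (b * (1 : Matrix (Fin 2) (Fin 2) F) i j - M i j)) * hq0
  have hσ : G.σ (c ^ 3) = toQuot P k ^ 3 := by rw [map_pow]; rfl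
  rcases (G.kernel p h2 h hP).1 (G.π_eq_one_of_nilpotent p h2 hP hn) with e' | e'
  · rw [← hσ, e']
  · exfalso
    rw [hσ] at e'
    have ht2 : orderOf t = 2 := by
      refine orderOf_eq_prime (by rw [sq, ← G.σ_r, ← map_mul,
        show G.r * G.r = 1 from Subtype.ext (refl_sq G.unit), map_one]) fun ht1 => ?_
      rw [← G.σ_r, G.σ_eq_one] at ht1
      have := G.ρ_r
      rw [G.of_scalar (G.σ_eq_one.2 ht1)] at this
      have hα : (G.rep.α G.r : F) = 1 := by
        have e1 := G.rep.centre G.r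
        rw [show ((G.r : GL (Fin 3) F) : Matrix (Fin 3) (Fin 3) F) = refl G.u G.φ from rfl, refl_mulVec G.unit,
          G.unit, mul_one, two_smul, add_sub_cancel_right] at e1
        exact smul_left_injective F (fun e0 => by
          have := G.unit; rw [e0, dotProduct_zero] at this; exact zero_ne_one this) (e1.symm.trans (one_smul _ _).symm)
      have h00 := congrFun (congrFun this 0) 0
      simp [hα] at h00
      exact h2 (by linear_combination h00)
    have h2d : (2 : ℕ) ∣ orderOf (toQuot P k) := by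
      rw [← ht2, ← e']
      exact orderOf_pow_dvd 3
    obtain ⟨j, hj⟩ := hodd
    omega

end Geom

/-- **Local data** of a group without transvections in odd characteristic. -/
theorem Hyp.localData (p : ℕ) [Fact p.Prime] [CharP F p] (hp : p ≠ 2) (h : Hyp P) (hP : NoRoot P) :
    LocalData (Quot P) := by
  have h2 : (2 : F) ≠ 0 := fun e => hp ((Nat.prime_dvd_prime_iff_eq Fact.out Nat.prime_two).1
    ((CharP.cast_eq_zero_iff F p 2).1 (by exact_mod_cast e)))
  have anti : ∀ t x y : Quot P, orderOf t = 2 → x ∈ Cen t → y ∈ Cen t → (x * x = 1 ∨ x * x = t) →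
      (y * y = 1 ∨ y * y = t) → x ≠ 1 → x ≠ t → y ≠ 1 → y ≠ t → y ≠ x → y ≠ t * x → x * y ≠ y * x := by
    intro t x y ht hx hy hxx hyy hx1 hxt hy1 hyt hyx hytx
    obtain ⟨G⟩ := h.exists_geom h2 ht
    exact G.anticomm p h2 h hP hx hy hxx hyy hx1 hxt hy1 hyt hyx hytx
  refine ⟨fun t ht => ?_, anti, ?_, ?_, ?_⟩
  · obtain ⟨G⟩ := h.exists_geom h2 ht
    exact G.shape p h2 h hP
  · intro t e y ht he het hete hye hyy
    have ht1 : t ≠ 1 := fun e' => by rw [e', orderOf_one] at ht; norm_num at ht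
    have he1 : e ≠ 1 := fun e' => by rw [e', orderOf_one] at he; norm_num at he
    have hee : e * e = 1 := by rw [← sq, ← he, pow_orderOf_eq_one]
    have htt : t * t = 1 := by rw [← sq, ← ht, pow_orderOf_eq_one]
    have hyt : y * t = t * y := by rw [← hyy, mul_assoc]
    refine anti t e y ht (Subgroup.mem_centralizer_singleton_iff.2 hete)
      (Subgroup.mem_centralizer_singleton_iff.2 hyt) (Or.inl hee) (Or.inr hyy) he1 het ?_ ?_ ?_ ?_ hye.symm
    · rintro rfl; exact ht1 (by rw [← hyy, mul_one])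
    · rintro rfl; exact ht1 (by rw [← hyy, htt])
    · rintro rfl; exact ht1 (by rw [← hyy, hee])
    · rintro rfl
      refine ht1 ?_
      rw [← hyy, ← mul_assoc, mul_assoc t e t, hete, ← mul_assoc, htt, one_mul, hee]
  · intro t s x y ht hs hx hx1 hxt hsx hyx hxx hg
    obtain ⟨G⟩ := h.exists_geom h2 ht
    exact G.ti p h2 h hP hs hx hx1 hxt hsx hyx hxx hg
  · intro t e s r x ht he het hete hxt hxe hodd hs hr hsx hrx
    obtain ⟨G⟩ := h.exists_geom h2 ht
    exact G.cube p h2 h hP he het hete hxt hxe hodd hs hr hsx hrx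

end CfsgLib.Mitchell
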