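import Mathlib
import Cfsg.Agent.Lib.Mitchell.LocalData
import Cfsg.Agent.Lib.InvChar.GLTwoThree
import Cfsg.Agent.Lib.SelfCentralSimple.Local

/-!
An involution centraliser with quotient `S₄` in a simple group with the local data is `GL₂(3)`.
-/

set_option autoImplicit false
set_option linter.style.haveILetI false

namespace CfsgLib.Mitchell

open Subgroup CfsgLib.InvChar
open scoped MatrixGroups

universe u

namespace SymFour

/-- Extend a pair of elements with the relations of the quaternion group. -/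
def quatFun {M : Type*} [Monoid M] (a x : M) : Q8Action.Q8 → M
  | .a i => a ^ i.val
  | .xa i => x * a ^ i.val

theorem quatFun_mul {M : Type*} [Monoid M] {a x : M} (ha : a ^ 4 = 1) (hx : x * x = a ^ 2)
    (hax : a * x = x * a ^ 3) :
    ∀ u v : Q8Action.Q8, quatFun a x (u * v) = quatFun a x u * quatFun a x v := by
  have hpow : ∀ i : ℕ, a ^ i * x = x * a ^ (3 * i) := by
    intro i
    induction i with
    | zero => simp
    | succ i ih =>
      rw [pow_succ a i, mul_assoc, hax, ← mul_assoc, ih, mul_assoc, ← pow_add]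
      congr 2
  have hmod : ∀ i j : ℕ, i % 4 = j % 4 → a ^ i = a ^ j := fun i j h => by
    rw [pow_eq_pow_mod i ha, pow_eq_pow_mod j ha, h]
  have key : ∀ i j : ZMod 4, (i + j).val % 4 = (i.val + j.val) % 4 ∧
      (j - i).val % 4 = (3 * i.val + j.val) % 4 ∧
      (2 + j - i).val % 4 = (2 + (3 * i.val + j.val)) % 4 := by decide +kernel
  rintro (i | i) (j | j) <;> simp only [QuaternionGroup.a_mul_a, QuaternionGroup.a_mul_xa,
    QuaternionGroup.xa_mul_a, QuaternionGroup.xa_mul_xa, quatFun]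
  · rw [← pow_add]; exact hmod _ _ (key i j).1
  · rw [← mul_assoc, hpow, mul_assoc, ← pow_add]; congr 1; exact hmod _ _ (key i j).2.1
  · rw [mul_assoc, ← pow_add]; congr 1; exact hmod _ _ (key i j).1
  · rw [mul_assoc, ← mul_assoc (a ^ i.val), hpow, mul_assoc, ← mul_assoc x x, hx, ← pow_add,
      ← pow_add]
    exact hmod _ _ (key i j).2.2

/-- A double transposition. -/
def pa : Equiv.Perm (Fin 4) := Equiv.swap 0 1 * Equiv.swap 2 3

/-- A three-cycle. -/
def pw : Equiv.Perm (Fin 4) := Equiv.swap 1 2 * Equiv.swap 2 3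

/-- A transposition. -/
def pr : Equiv.Perm (Fin 4) := Equiv.swap 2 3

/-- The second double transposition. -/
def px : Equiv.Perm (Fin 4) := pw * pa * pw⁻¹

theorem perm_facts :
    pa * pa = 1 ∧ pa ≠ 1 ∧ px * px = 1 ∧ px ≠ 1 ∧ px ≠ pa ∧ pw ^ 3 = 1 ∧ pw ≠ 1 ∧
      pw * px * pw⁻¹ = pa * px ∧ pr * pr = 1 ∧ pr * pw * pr⁻¹ = pw⁻¹ ∧ pr * pa * pr⁻¹ = pa := by
  refine ⟨?_, ?_, ?_, ?_, ?_, ?_, ?_, ?_, ?_, ?_, ?_⟩ <;> decide +kernel

theorem perm_invol : ∀ q : Equiv.Perm (Fin 4), q * q = 1 → q ≠ 1 →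
    ∃ h : Equiv.Perm (Fin 4), q = h * pa * h⁻¹ ∨ q = h * pr * h⁻¹ := by
  decide +kernel

theorem perm_inj : ∀ (u : Q8Action.Q8) (d : DihedralGroup 3),
    quatFun pa px u * Q8Action.dihFun pw pr d = 1 → (u = 1 ∨ u = Q8Action.zz) ∧ d = 1 := by
  decide +kernel

theorem card_eq {C : Type*} [Group C] [Finite C] (z : C) (hz : z ≠ 1) (hzz : z * z = 1)
    (f : C →* Equiv.Perm (Fin 4)) (hf : Function.Surjective f)
    (hker : ∀ g, f g = 1 ↔ g = 1 ∨ g = z) : Nat.card C = 48 := by
  haveI : Fact (Nat.Prime 2) := ⟨Nat.prime_two⟩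
  have hk : f.ker = zpowers z := by
    refine le_antisymm (fun g hg => ?_) (zpowers_le.2 (MonoidHom.mem_ker.2 ((hker z).2 (Or.inr rfl))))
    rcases (hker g).1 (MonoidHom.mem_ker.1 hg) with e | e <;> rw [e]
    · exact one_mem _
    · exact mem_zpowers z
  have h1 := f.ker.card_mul_index
  rw [Subgroup.index_ker, MonoidHom.range_eq_top.2 hf, Subgroup.card_top, hk, Nat.card_zpowers,
    orderOf_eq_prime (by rw [pow_two, hzz]) hz, Nat.card_perm, Nat.card_fin] at h1
  rw [← h1]
  rfl

/-- A double cover of `S₄` without commuting lifts of two distinct double transpositions and with an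
involution outside the kernel is `GL₂(3)`. -/
theorem nonempty_octa {C : Type*} [Group C] [Finite C] (z : C) (hz : z ≠ 1) (hzz : z * z = 1)
    (hzc : ∀ g, g * z = z * g) (f : C →* Equiv.Perm (Fin 4)) (hf : Function.Surjective f)
    (hker : ∀ g, f g = 1 ↔ g = 1 ∨ g = z)
    (hanti : ∀ a x, f a = pa → f x = px → a * x ≠ x * a)
    (hinv : ∃ v : C, v * v = 1 ∧ v ≠ 1 ∧ v ≠ z) :
    Nonempty (Q8Action.Octa ≃* C) := by
  obtain ⟨pa2, pa1, px2, px1, pxa, pw3, pw1, pwx, pr2, prw, pra⟩ := perm_facts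
  have amb : ∀ g h : C, f g = f h → g = h ∨ g = z * h := fun g h e => by
    rcases (hker (g * h⁻¹)).1 (by rw [map_mul, map_inv, e, mul_inv_cancel]) with e' | e'
    · exact Or.inl (mul_inv_eq_one.1 e')
    · exact Or.inr (by rw [← e', inv_mul_cancel_right])
  have hzl : ∀ g h : C, g * (z * h) = z * (g * h) := fun g h => by rw [← mul_assoc, hzc, mul_assoc]
  have hzz' : ∀ g : C, z * (z * g) = g := fun g => by rw [← mul_assoc, hzz, one_mul]
  have fz : f z = 1 := (hker z).2 (Or.inr rfl)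
  obtain ⟨w₀, hw₀⟩ := hf pw
  obtain ⟨w, hwdef⟩ : ∃ w : C, w = w₀ ^ 4 := ⟨_, rfl⟩
  have fw : f w = pw := by
    rw [hwdef, map_pow, hw₀, pow_succ, pw3, one_mul]
  have hw3 : w ^ 3 = 1 := by
    rcases (hker (w₀ ^ 3)).1 (by rw [map_pow, hw₀, pw3]) with e | e
    · rw [hwdef, ← pow_mul, show 4 * 3 = 3 * 4 from rfl, pow_mul, e, one_pow]
    · rw [hwdef, ← pow_mul, show 4 * 3 = 3 * 4 from rfl, pow_mul, e, show 4 = 2 * 2 from rfl,
        pow_mul, pow_two z, hzz, one_pow]
  obtain ⟨a, fa, hwx⟩ : ∃ a : C, f a = pa ∧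
      w * (w * a * w⁻¹) * w⁻¹ = a * (w * a * w⁻¹) := by
    obtain ⟨a, fa⟩ := hf pa
    have e : f (w * (w * a * w⁻¹) * w⁻¹) = f (a * (w * a * w⁻¹)) := by
      simp only [map_mul, map_inv, fw, fa]
      exact pwx
    rcases amb _ _ e with h | h
    · exact ⟨a, fa, h⟩
    · refine ⟨z * a, by rw [map_mul, fz, fa, one_mul], ?_⟩
      simp only [mul_assoc] at h ⊢
      simp only [hzl, hzz'] at h ⊢
      rw [h, hzz']
  obtain ⟨x, hxdef⟩ : ∃ x : C, x = w * a * w⁻¹ := ⟨_, rfl⟩
  rw [← hxdef] at hwx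
  have fx : f x = px := by simp only [hxdef, map_mul, map_inv, fw, fa]; rfl
  have hax : a * x = z * (x * a) := by
    rcases amb (a * x) (x * a) (by rw [map_mul, map_mul, fa, fx]; decide +kernel) with h | h
    · exact absurd h (hanti a x fa fx)
    · exact h
  have hxx : x * x = a * a := by
    have : a * a = 1 ∨ a * a = z := (hker _).1 (by rw [map_mul, fa, pa2])
    rcases this with e | e
    · calc x * x = w * (a * a) * w⁻¹ := by rw [hxdef]; group
        _ = a * a := by rw [e]; group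
    · calc x * x = w * (a * a) * w⁻¹ := by rw [hxdef]; group
        _ = a * a := by rw [e, hzc]; group
  have haa : a * a = z := by
    rcases (hker (a * a)).1 (by rw [map_mul, fa, pa2]) with e | e
    · exfalso
      have h1 : a * x * (a * x) = 1 := by
        rw [← hwx]
        calc w * x * w⁻¹ * (w * x * w⁻¹) = w * (x * x) * w⁻¹ := by group
          _ = 1 := by rw [hxx, e]; group
      have h2 : a * x * (a * x) = z := by
        calc a * x * (a * x) = a * x * (z * (x * a)) := by rw [hax]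
          _ = z * (a * (x * x) * a) := by rw [hzl]; group
          _ = z := by rw [hxx, e, mul_one, e, mul_one]
      exact hz (h2.symm.trans h1)
    · exact e
  have ha4 : a ^ 4 = 1 := by
    rw [show 4 = 2 * 2 from rfl, pow_mul, pow_two a, haa, pow_two, hzz]
  have hainv : a⁻¹ = z * a := inv_eq_of_mul_eq_one_right (by rw [hzl, haa, hzz])
  have hax3 : a * x = x * a ^ 3 := by
    rw [hax, pow_succ, pow_two, haa, hzl]
  have hx2 : x * x = a ^ 2 := by rw [hxx, pow_two]
  let φ : Q8Action.Q8 →* C := MonoidHom.mk' (quatFun a x) (quatFun_mul ha4 hx2 hax3)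
  have φa : φ Q8Action.qa = a := pow_one a
  have φx : φ Q8Action.qx = x := by simp [φ, quatFun]
  obtain ⟨r, fr⟩ := hf pr
  have hrw : r * w * r⁻¹ = w⁻¹ := by
    rcases amb (r * w * r⁻¹) w⁻¹ (by rw [map_mul, map_mul, map_inv, map_inv, fr, fw]; exact prw)
      with h | h
    · exact h
    · exfalso
      have h1 : (r * w * r⁻¹) ^ 3 = 1 := by rw [conj_pow, hw3]; group
      rw [h, (show Commute z w⁻¹ from (hzc w⁻¹).symm).mul_pow, inv_pow, hw3, inv_one, mul_one, pow_succ, pow_two, hzz,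
        one_mul] at h1
      exact hz h1
  have hrx : r * x * r⁻¹ = w⁻¹ * (r * a * r⁻¹) * w := by
    rw [hxdef, show r * (w * a * w⁻¹) * r⁻¹ = r * w * r⁻¹ * (r * a * r⁻¹) * (r * w * r⁻¹)⁻¹ by group,
      hrw, inv_inv]
  have hwa : w⁻¹ * a * w = a * x := by
    rw [← hwx, hxdef]
    have e : w⁻¹ = w * w := inv_eq_of_mul_eq_one_right (by rw [← mul_assoc, ← hw3, pow_succ, pow_two])
    calc w⁻¹ * a * w = w⁻¹ * a * w⁻¹⁻¹ := by rw [inv_inv]
      _ = (w * w) * a * (w * w)⁻¹ := by rw [← e]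
      _ = w * (w * a * w⁻¹) * w⁻¹ := by group
  have hra : r * a * r⁻¹ = z * a := by
    rcases amb (r * a * r⁻¹) a (by rw [map_mul, map_mul, map_inv, fr, fa]; exact pra) with h | h
    · exfalso
      have h1 : r * x * r⁻¹ = a * x := by rw [hrx, h, hwa]
      have h2 : r * (r * x * r⁻¹) * r⁻¹ = z * x := by
        rw [h1, show r * (a * x) * r⁻¹ = r * a * r⁻¹ * (r * x * r⁻¹) by group, h, h1, ← mul_assoc,
          haa]
      have h3 : r * (r * x * r⁻¹) * r⁻¹ = x := by
        rcases (hker (r * r)).1 (by rw [map_mul, fr, pr2]) with e | e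
        · calc r * (r * x * r⁻¹) * r⁻¹ = r * r * x * (r * r)⁻¹ := by group
            _ = x := by rw [e]; group
        · calc r * (r * x * r⁻¹) * r⁻¹ = r * r * x * (r * r)⁻¹ := by group
            _ = x := by rw [e, ← hzc]; group
      exact hz (mul_eq_right.1 (h2.symm.trans h3))
    · exact h
  have hrx' : r * x * r⁻¹ = z * (a * x) := by
    rw [hrx, hra, hzl, mul_assoc z, hwa]
  have hr2 : r * r = 1 := by
    rcases (hker (r * r)).1 (by rw [map_mul, fr, pr2]) with e | e
    · exact e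
    · exfalso
      obtain ⟨v, hv, hv1, hvz⟩ := hinv
      have fv : f v ≠ 1 := fun h => by
        rcases (hker v).1 h with h | h
        · exact hv1 h
        · exact hvz h
      obtain ⟨h, hh⟩ := perm_invol (f v) (by rw [← map_mul, hv, map_one]) fv
      obtain ⟨g, rfl⟩ := hf h
      have key : ∀ y : C, y * y = z → f v = f g * f y * (f g)⁻¹ → False := by
        intro y hy hvy
        have hvv : v * v = g * (y * y) * g⁻¹ := by
          rcases amb v (g * y * g⁻¹) (by rw [hvy, map_mul, map_mul, map_inv]) with h' | h'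
          · rw [h']; group
          · rw [h', mul_assoc z, hzl, hzz']; group
        rw [hv, hy, hzc, mul_assoc, mul_inv_cancel, mul_one] at hvv
        exact hz hvv.symm
      rcases hh with hh | hh
      · exact key a haa (by rw [fa]; exact hh)
      · exact key r e (by rw [fr]; exact hh)
  have hwt : w * r = r * w ^ 2 := by
    have h2 : w ^ 2 = w⁻¹ := (inv_eq_of_mul_eq_one_right (by rw [← pow_succ', hw3])).symm
    rw [h2, ← hrw, show r * (r * w * r⁻¹) = r * r * w * r⁻¹ by group, hr2, one_mul]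
    have : r⁻¹ = r := inv_eq_of_mul_eq_one_right hr2
    rw [this]
  have hα : ∀ u, w * φ u * w⁻¹ = φ (Q8Action.alphaFun u) := by
    have h := Q8Action.hom_ext ((MulAut.conj w).toMonoidHom.comp φ)
      (φ.comp Q8Action.alphaEquiv.toMonoidHom) ?_ ?_
    · exact fun u => DFunLike.congr_fun h u
    · change w * φ Q8Action.qa * w⁻¹ = φ (Q8Action.alphaFun Q8Action.qa)
      rw [Q8Action.alphaFun, (Q8Action.genFun_gens _ _).1, φa, φx, hxdef]
    · change w * φ Q8Action.qx * w⁻¹ = φ (Q8Action.alphaFun Q8Action.qx)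
      rw [Q8Action.alphaFun, (Q8Action.genFun_gens _ _).2, map_mul, φa, φx]
      exact hwx
  have hxinv : (a * x)⁻¹ = z * (a * x) := inv_eq_of_mul_eq_one_right (by
    rw [hzl, ← hwx, show w * x * w⁻¹ * (w * x * w⁻¹) = w * (x * x) * w⁻¹ by group, hxx, haa, hzc,
      mul_assoc z w, mul_inv_cancel, mul_one, hzz])
  have hβ : ∀ u, r * φ u * r⁻¹ = φ (Q8Action.betaFun u) := by
    have h := Q8Action.hom_ext ((MulAut.conj r).toMonoidHom.comp φ)
      (φ.comp Q8Action.betaEquiv.toMonoidHom) ?_ ?_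
    · exact fun u => DFunLike.congr_fun h u
    · change r * φ Q8Action.qa * r⁻¹ = φ (Q8Action.betaFun Q8Action.qa)
      rw [Q8Action.betaFun, (Q8Action.genFun_gens _ _).1, map_inv, φa, hra, hainv]
    · change r * φ Q8Action.qx * r⁻¹ = φ (Q8Action.betaFun Q8Action.qx)
      rw [Q8Action.betaFun, (Q8Action.genFun_gens _ _).2, map_inv, map_mul, φa, φx, hrx', hxinv]
  refine Q8Action.nonempty_equiv (card_eq z hz hzz f hf hker) φ w r hw3 hr2 hwt hα hβ
    fun u d hud => ?_
  have hfud : quatFun pa px u * Q8Action.dihFun pw pr d = 1 := by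
    have h := congrArg f hud
    have e1 : f (φ u) = quatFun pa px u := by
      cases u <;> simp [φ, quatFun, fa, fx]
    have e2 : f (Q8Action.dihFun w r d) = Q8Action.dihFun pw pr d := by
      cases d <;> simp [Q8Action.dihFun, fw, fr]
    rw [map_mul, map_one, e1, e2] at h
    exact h
  obtain ⟨hu, rfl⟩ := perm_inj u d hfud
  refine ⟨hu.resolve_right fun e => hz ?_, rfl⟩
  rw [e] at hud
  have e2 : Q8Action.dihFun w r (1 : DihedralGroup 3) = 1 := pow_zero w
  have e3 : φ Q8Action.zz = z := (pow_two a).trans haa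
  rwa [e2, e3, mul_one] at hud

end SymFour

/-- An involution centraliser with quotient `S₄` containing a Sylow 2-subgroup is `GL₂(3)`. -/
theorem gl23_of_sym_four {T : Type u} [Group T] [Finite T] [IsSimpleGroup T]
    (hna : ¬ IsMulCommutative T) (hd : LocalData T) {t : T} (ht : orderOf t = 2)
    (hS : ∃ S : Sylow 2 T, (S : Subgroup T) ≤ Cen t) (hq : QuotBy t (Equiv.Perm (Fin 4))) :
    Nonempty (Cen t ≃* GL (Fin 2) (ZMod 3)) := by
  obtain ⟨f, hf, hker⟩ := hq
  have htt : t * t = 1 := by rw [← pow_two, ← ht, pow_orderOf_eq_one]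
  have ht1 : t ≠ 1 := fun e => by simp [e] at ht
  let z : Cen t := ⟨t, mem_centralizer_singleton_iff.2 rfl⟩
  have hker' : ∀ g : Cen t, f g = 1 ↔ g = 1 ∨ g = z := fun g => by
    rw [hker g]
    exact ⟨fun h => h.imp (fun e => Subtype.ext e) (fun e => Subtype.ext e),
      fun h => h.imp (congrArg Subtype.val) (congrArg Subtype.val)⟩
  obtain ⟨e₁⟩ := SymFour.nonempty_octa z (fun e => ht1 (congrArg Subtype.val e))
    (Subtype.ext htt) (fun g => Subtype.ext (mem_centralizer_singleton_iff.1 g.2)) f hf hker'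
    (fun a x fa fx hcomm => by
      obtain ⟨pa2, pa1, px2, px1, pxa, -⟩ := SymFour.perm_facts
      have fz : f z = 1 := (hker' z).2 (Or.inr rfl)
      refine hd.anticomm t a x ht a.2 x.2 ?_ ?_ ?_ ?_ ?_ ?_ ?_ ?_ (congrArg Subtype.val hcomm)
      · exact (hker (a * a)).1 (by rw [map_mul, fa, pa2])
      · exact (hker (x * x)).1 (by rw [map_mul, fx, px2])
      · exact fun e => pa1 (fa.symm.trans ((hker a).2 (Or.inl e)))
      · exact fun e => pa1 (fa.symm.trans ((hker a).2 (Or.inr e)))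
      · exact fun e => px1 (fx.symm.trans ((hker x).2 (Or.inl e)))
      · exact fun e => px1 (fx.symm.trans ((hker x).2 (Or.inr e)))
      · exact fun e => pxa (by rw [← fx, ← fa, Subtype.ext e])
      · intro e
        have : x = z * a := Subtype.ext e
        exact pxa (by rw [← fx, this, map_mul, fz, fa, one_mul]))
    (by
      obtain ⟨S, hS⟩ := hS
      obtain ⟨s, v, hs, hv, hso, hvo, hsv, -⟩ :=
        CfsgLib.SelfCentralSimple.exists_four hna S
      obtain ⟨y, hy, hyo, hyt⟩ : ∃ y, y ∈ (S : Subgroup T) ∧ orderOf y = 2 ∧ y ≠ t := by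
        by_cases h : s = t
        · exact ⟨v, hv, hvo, fun e => hsv (h.trans e.symm)⟩
        · exact ⟨s, hs, hso, h⟩
      refine ⟨⟨y, hS hy⟩, Subtype.ext ?_, fun e => ?_, fun e => hyt (congrArg Subtype.val e)⟩
      · show y * y = 1
        rw [← pow_two, ← hyo, pow_orderOf_eq_one]
      · have : y = 1 := congrArg Subtype.val e
        simp [this] at hyo)
  obtain ⟨e₂⟩ := Q8Action.nonempty_equiv_GL23
  exact ⟨e₁.symm.trans e₂⟩

end CfsgLib.Mitchell
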