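import Cfsg.Agent.Lib.Mitchell.LocalRecogUnique
import Cfsg.Agent.Lib.Mitchell.LocalSymFour
import Cfsg.Agent.Lib.Small.OrderSixty
import Cfsg.Agent.S3278

/-!
Recognition of a simple group from the geometric facts on its involution centralisers.
-/

set_option autoImplicit false
set_option linter.style.haveILetI false

namespace CfsgLib.Mitchell

open Subgroup

universe u

variable {T : Type u} [Group T]

theorem klein_data_four : ∃ a b w : alternatingGroup (Fin 4), a * a = 1 ∧ b * b = 1 ∧ a ≠ 1 ∧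
    b ≠ 1 ∧ a ≠ b ∧ a * b = b * a ∧ w * a * w⁻¹ = b ∧ w * b * w⁻¹ = a * b ∧
      ∀ u : alternatingGroup (Fin 4), u * u = 1 → u ≠ 1 → ∃ g, g * a * g⁻¹ = u :=
  ⟨⟨Equiv.swap 0 1 * Equiv.swap 2 3, Equiv.Perm.mem_alternatingGroup.2 (by decide +kernel)⟩,
    ⟨Equiv.swap 0 2 * Equiv.swap 1 3, Equiv.Perm.mem_alternatingGroup.2 (by decide +kernel)⟩,
    ⟨Equiv.swap 1 2 * Equiv.swap 2 3, Equiv.Perm.mem_alternatingGroup.2 (by decide +kernel)⟩,
    by decide +kernel⟩

theorem klein_data_five : ∃ a b w : alternatingGroup (Fin 5), a * a = 1 ∧ b * b = 1 ∧ a ≠ 1 ∧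
    b ≠ 1 ∧ a ≠ b ∧ a * b = b * a ∧ w * a * w⁻¹ = b ∧ w * b * w⁻¹ = a * b ∧
      ∀ u : alternatingGroup (Fin 5), u * u = 1 → u ≠ 1 → ∃ g, g * a * g⁻¹ = u :=
  ⟨⟨Equiv.swap 0 1 * Equiv.swap 2 3, Equiv.Perm.mem_alternatingGroup.2 (by decide +kernel)⟩,
    ⟨Equiv.swap 0 2 * Equiv.swap 1 3, Equiv.Perm.mem_alternatingGroup.2 (by decide +kernel)⟩,
    ⟨Equiv.swap 1 2 * Equiv.swap 2 3, Equiv.Perm.mem_alternatingGroup.2 (by decide +kernel)⟩,
    by decide +kernel⟩

variable [Finite T]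

theorem cyclic_case [IsSimpleGroup T] (hd : LocalData T) {t : T} (ht : orderOf t = 2)
    (S : Sylow 2 T) (hS : (S : Subgroup T) ≤ Cen t) (htS : t ∈ (S : Subgroup T)) {v : T}
    (hv : orderOf v = 2) (hvS : v ∈ (S : Subgroup T)) (hvt : v ≠ t) {n : ℕ}
    (hq : QuotBy t (Multiplicative (ZMod n))) : RecogConcl T := by
  haveI := Fact.mk Nat.prime_two
  obtain ⟨f, -, hk⟩ := hq
  have hcomm : ∀ x ∈ Cen t, ∀ y ∈ Cen t, x * y = y * x := fun x hx y hy => by
    have h := commutative_of_cyclic_center_quotient f (fun z hz => Subgroup.mem_center_iff.2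
      fun w => Subtype.ext (by
        show (w : T) * z = z * w
        rcases (hk z).1 (MonoidHom.mem_ker.1 hz) with e | e <;> rw [e]
        · simp
        · exact mem_cen.1 w.2)) (⟨x, hx⟩ : Cen t) ⟨y, hy⟩
    exact congrArg Subtype.val h
  have hvC : v ∈ Cen t := hS hvS
  have htC : t ∈ Cen t := hS htS
  have hsq : ∀ y ∈ (S : Subgroup T), y * y = 1 := by
    intro y hy
    have h4 : ∀ y ∈ Cen t, y * y * (y * y) = 1 → y * y = 1 := by
      intro y hy h4
      by_contra h2
      by_cases h : t = y * y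
      · exact hd.no_four hv h4 h2 (fun h' => hvt (h'.trans h.symm)) (hcomm _ hy _ hvC)
      · exact hd.no_four ht h4 h2 h (hcomm _ hy _ htC)
    obtain ⟨k, hk⟩ := S.isPGroup' ⟨y, hy⟩
    have hk' : y ^ 2 ^ k = 1 := congrArg Subtype.val hk
    clear hk
    induction k generalizing y with
    | zero => rw [pow_zero, pow_one] at hk'; rw [hk', one_mul]
    | succ k ih =>
      exact h4 y (hS hy) (ih (y * y) (mul_mem hy hy)
        (by rw [← pow_two, ← pow_mul, ← pow_succ']; exact hk'))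
  have hc : Commute t v := hcomm _ htC _ hvC
  set V := CfsgLib.SelfCentralSimple.four (sq_eq_one_of_orderOf ht) (sq_eq_one_of_orderOf hv) hc
  have hVcard : Nat.card V = 4 :=
    (CfsgLib.SelfCentralSimple.four_facts ht hv (Ne.symm hvt) hc).1
  have hSV : (S : Subgroup T) = V := by
    refine le_antisymm (fun x hx => ?_) ?_
    · by_contra hxV
      have h : ¬ (x = 1 ∨ x = t ∨ x = v ∨ x = t * v) := hxV
      push Not at h
      exact hd.anticomm t v x ht hvC (hS hx) (Or.inl (sq_eq_one_of_orderOf hv)) (Or.inl (hsq x hx))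
        (ne_one_of_orderOf hv) hvt h.1 h.2.1 h.2.2.1 h.2.2.2 (hcomm _ hvC _ (hS hx))
    · rintro x (rfl | rfl | rfl | rfl)
      exacts [one_mem _, htS, hvS, mul_mem htS hvS]
  have hK : IsKleinFour (S : Subgroup T) := by
    have h4 : Nat.card (S : Subgroup T) = 4 := hSV.symm ▸ hVcard
    refine ⟨h4, Nat.dvd_antisymm (Monoid.exponent_dvd_of_forall_pow_eq_one fun g =>
      Subtype.ext (by rw [SubmonoidClass.coe_pow, pow_two, hsq g g.2]; rfl)) ?_⟩
    have h := Monoid.order_dvd_exponent (⟨t, htS⟩ : (S : Subgroup T))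
    rwa [Subgroup.orderOf_mk, ht] at h
  obtain ⟨e⟩ := Cfsg.Agent.S3278.result t ht (S : Subgroup T) hS hK
    (fun h => S.not_dvd_index (h.trans (relIndex_dvd_index_of_le hS)))
    ⟨fun x hx g => by
      rw [mem_subgroupOf] at hx ⊢
      push_cast
      rwa [hcomm _ g.2 _ (hS hx), mul_inv_cancel_right]⟩
  haveI : Fact (Nat.Prime 5) := ⟨Nat.prime_five⟩
  refine Or.inl ⟨ZMod 5, inferInstance, inferInstance, by rw [ZMod.card]; decide,
    CfsgLib.Small.nonempty_mulEquiv_psl_five ?_⟩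
  rw [Nat.card_congr e.toEquiv, nat_card_alternatingGroup, Nat.card_fin]
  rfl

/-- A nonabelian simple group with the geometric local data is one of the expected groups, or has
an involution centraliser `GL(2,3)`. -/
theorem local_recognition_of [IsSimpleGroup T] (hna : ¬ IsMulCommutative T) (hd : LocalData T)
    (hsym : ∀ t : T, orderOf t = 2 → (∃ S : Sylow 2 T, (S : Subgroup T) ≤ Cen t) →
      QuotBy t (Equiv.Perm (Fin 4)) →
        Nonempty (Cen t ≃* Matrix.GeneralLinearGroup (Fin 2) (ZMod 3))) :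
    RecogConcl T ∨ ∃ t : T, orderOf t = 2 ∧
      Nonempty (Cen t ≃* Matrix.GeneralLinearGroup (Fin 2) (ZMod 3)) := by
  haveI := Fact.mk Nat.prime_two
  obtain ⟨S⟩ := (inferInstance : Nonempty (Sylow 2 T))
  obtain ⟨t, v, htS, hvS, ht, hv, hne, hcen⟩ := CfsgLib.SelfCentralSimple.exists_four hna S
  have hS : (S : Subgroup T) ≤ Cen t := fun x hx => mem_cen.2 (hcen x hx).eq
  rcases hd.shape t ht with ⟨n, -, hq⟩ | ⟨n, hn, hq⟩ | hq | hq | hq
  · exact Or.inl (cyclic_case hd ht S hS htS hv hvS hne.symm hq)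
  · obtain ⟨A, ⟨D⟩⟩ := hq.exists_dih ht hn
    by_cases hA : ∀ u ∈ A, u * u = 1 → u = 1 ∨ u = t
    · exact Or.inl (dihedral_unique hna hd ht S hS htS hv hvS hne.symm D hA)
    · push Not at hA
      obtain ⟨e, heA, he2, he1, het⟩ := hA
      exact Or.inl (dihedral_four hna hd ht S hS D heA (orderOf_two_of_sq he2 he1) het)
  · exact (false_of_klein_quot hd ht hq klein_data_four hv (hS hvS) hne.symm).elim
  · exact Or.inr ⟨t, ht, hsym t ht ⟨S, hS⟩ hq⟩
  · exact (false_of_klein_quot hd ht hq klein_data_five hv (hS hvS) hne.symm).elim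

/-- A nonabelian simple group with the geometric local data: the five possibilities. -/
theorem local_recognition [IsSimpleGroup T] (hna : ¬ IsMulCommutative T) (hd : LocalData T) :
    (∃ (K : Type) (_ : Field K) (_ : Fintype K), Odd (Fintype.card K) ∧
        Nonempty (T ≃* Matrix.ProjectiveSpecialLinearGroup (Fin 2) K)) ∨
      Nonempty (T ≃* Matrix.SpecialLinearGroup (Fin 3) (ZMod 2)) ∨
      Nonempty (T ≃* alternatingGroup (Fin 6)) ∨ Nonempty (T ≃* alternatingGroup (Fin 7)) ∨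
      ∃ t : T, orderOf t = 2 ∧
        Nonempty (Cen t ≃* Matrix.GeneralLinearGroup (Fin 2) (ZMod 3)) := by
  rcases local_recognition_of hna hd
    (fun t ht hS hq => gl23_of_sym_four hna hd ht hS hq) with (h | h | h | h) | h
  exacts [Or.inl h, Or.inr (Or.inl h), Or.inr (Or.inr (Or.inl h)),
    Or.inr (Or.inr (Or.inr (Or.inl h))), Or.inr (Or.inr (Or.inr (Or.inr h)))]

end CfsgLib.Mitchell
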