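import Cfsg.Agent.Lib.Mitchell.Core
import Cfsg.Agent.Lib.Mitchell.LocalFromGeom
import Cfsg.Agent.Lib.Mitchell.LocalRecog

/-!
Mitchell's theorem on perfect subgroups of `SL₃`, with all hypotheses discharged, and its
consequences for maximal subgroups of the residual class.
-/

set_option autoImplicit false

namespace CfsgLib.Mitchell

open Cfsg Cfsg.Geo Matrix CfsgLib.DimThreeSub
open scoped MatrixGroups

universe u

theorem localGeom_holds : LocalGeom.{u} :=
  fun _ _ _ p _ _ _ hp h hP => h.localData p hp hP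

theorem localRecognition_holds : LocalRecognition.{u} :=
  fun _ _ _ _ hna hd => local_recognition hna hd

variable {F : Type u} [Field F] [Fintype F] {P : Subgroup (GL (Fin 3) F)}

/-- Mitchell's theorem, linear case. -/
theorem mitchell_linear (p : ℕ) [Fact p.Prime] [CharP F p] (h : Hyp P) (hsub : NoSubfield P) :
    P = specialLinear (Fin 3) F ∨ QuadForm P ∨ UnitForm P ∨ LinExc P p :=
  core_linear localGeom_holds localRecognition_holds p h hsub

/-- Mitchell's theorem, unitary case. -/
theorem mitchell_unitary (h : Hyp P) (hsub : NoSubfield P) {q : ℕ} (hF : Fintype.card F = q ^ 2)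
    (hq : 3 ≤ q) (hPU : P ≤ Cfsg.GU 3 F q) :
    P = Cfsg.GU 3 F q ⊓ specialLinear (Fin 3) F ∨ QuadForm P ∨ UnitExc P q :=
  core_unitary localGeom_holds localRecognition_holds h hsub hF hq hPU

theorem linCore_holds : DimThreeSub.LinCore.{u} := linCore localGeom_holds localRecognition_holds

theorem unitCore_holds : DimThreeSub.UnitCore.{u} := unitCore localGeom_holds localRecognition_holds

/-- Residual maximal subgroups of `SL₃`. -/
theorem residual_linear {H : Subgroup (GL (Fin 3) F)}
    (hH : IsMaximalIn (specialLinear (Fin 3) F) H) (hS : InLinearResidualClass H) :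
    ∃ (P : Subgroup (GL (Fin 3) F)) (p : ℕ), IsResidualCore H P ∧ p.Prime ∧ CharP F p ∧ LinExc P p := by
  obtain ⟨P, hP, hq, -, hu⟩ := hS
  obtain ⟨p, hchar⟩ := CharP.exists F
  have : Fact p.Prime := ⟨CharP.char_is_prime F p⟩
  obtain ⟨h, hsub⟩ := hyp_of_residualCore hP
  refine ⟨P, p, hP, Fact.out, hchar, ?_⟩
  rcases mitchell_linear p h hsub with e | e | e | e
  · exact absurd (le_antisymm hH.1.le (e ▸ hP.le)) hH.1.ne
  · exact absurd e hq
  · exact absurd e hu
  · exact e

/-- Residual maximal subgroups of `SU₃`. -/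
theorem residual_unitary {q : ℕ} (hF : Fintype.card F = q ^ 2) (hq : 3 ≤ q)
    {H : Subgroup (GL (Fin 3) F)} (hH : IsMaximalIn (Cfsg.GU 3 F q ⊓ specialLinear (Fin 3) F) H)
    (hS : InUnitaryResidualClass H) :
    ∃ P : Subgroup (GL (Fin 3) F), IsResidualCore H P ∧ UnitExc P q ∧
      ¬ (∃ Q : (Fin 3 → F) → F, IsNondegenerateQuadraticForm Q ∧ FixesQuadForm (matrixSet P) Q) := by
  obtain ⟨P, hP, hQ, -⟩ := hS
  obtain ⟨h, hsub⟩ := hyp_of_residualCore hP
  have hPU : P ≤ Cfsg.GU 3 F q := (hP.le.trans hH.1.le).trans inf_le_left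
  refine ⟨P, hP, ?_, hQ⟩
  rcases mitchell_unitary h hsub hF hq hPU with e | e | e
  · exact absurd (le_antisymm hH.1.le (e ▸ hP.le)) hH.1.ne
  · exact absurd e hQ
  · exact e

end CfsgLib.Mitchell
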