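import Mathlib

/-!
A configuration of 105 lines in three-space over the field with 25 elements, invariant under the
group generated by six explicit unitary matrices.
-/

set_option autoImplicit false
set_option maxRecDepth 100000

namespace CfsgLib.Mitchell.SevenFive

open Matrix
open scoped MatrixGroups

/-- `a + b z` with `z² + z + 2 = 0`, by the residues `a`, `b` modulo five. -/
abbrev K5 : Type := ℕ × ℕ
abbrev V5 : Type := K5 × K5 × K5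
abbrev M5 : Type := V5 × V5 × V5

def mulK (x y : K5) : K5 :=
  ((x.1 * y.1 + 3 * (x.2 * y.2)) % 5, (x.1 * y.2 + x.2 * y.1 + 4 * (x.2 * y.2)) % 5)

def addK (x y : K5) : K5 := ((x.1 + y.1) % 5, (x.2 + y.2) % 5)

/-- The norm to the prime field, not zero modulo five. -/
def nzK (x : K5) : Bool := !Nat.beq ((x.1 * x.1 + 4 * (x.1 * x.2) + 2 * (x.2 * x.2)) % 5) 0

def beqK (x y : K5) : Bool := Nat.beq x.1 y.1 && Nat.beq x.2 y.2

def beqV (x y : V5) : Bool := beqK x.1 y.1 && beqK x.2.1 y.2.1 && beqK x.2.2 y.2.2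

def smulV (c : K5) (v : V5) : V5 := (mulK c v.1, mulK c v.2.1, mulK c v.2.2)

def dotV (r v : V5) : K5 := addK (addK (mulK r.1 v.1) (mulK r.2.1 v.2.1)) (mulK r.2.2 v.2.2)

def mulV (g : M5) (v : V5) : V5 := (dotV g.1 v, dotV g.2.1 v, dotV g.2.2 v)

/-- Representatives of the lines of the invariant configuration. -/
def lines : List V5 :=
  [((1, 0), (0, 0), (0, 0)),
   ((0, 0), (1, 0), (0, 0)),
   ((1, 0), (4, 0), (0, 4)),
   ((0, 0), (0, 0), (1, 0)),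
   ((1, 0), (4, 0), (0, 1)),
   ((1, 0), (3, 3), (2, 2)),
   ((1, 0), (2, 3), (4, 3)),
   ((1, 0), (1, 0), (0, 0)),
   ((1, 0), (2, 2), (3, 3)),
   ((1, 0), (2, 3), (1, 2)),
   ((1, 0), (0, 1), (4, 0)),
   ((1, 0), (2, 4), (0, 3)),
   ((1, 0), (0, 4), (1, 0)),
   ((1, 0), (0, 0), (1, 0)),
   ((1, 0), (3, 1), (0, 3)),
   ((1, 0), (4, 2), (4, 4)),
   ((1, 0), (4, 2), (1, 1)),
   ((1, 0), (2, 0), (4, 1)),
   ((0, 0), (1, 0), (1, 0)),
   ((1, 0), (3, 2), (0, 0)),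
   ((1, 0), (0, 4), (4, 0)),
   ((1, 0), (3, 1), (0, 2)),
   ((1, 0), (0, 1), (1, 0)),
   ((1, 0), (2, 4), (0, 2)),
   ((1, 0), (3, 0), (3, 2)),
   ((1, 0), (1, 1), (1, 3)),
   ((1, 0), (2, 2), (2, 2)),
   ((1, 0), (4, 4), (1, 3)),
   ((1, 0), (0, 3), (3, 1)),
   ((1, 0), (1, 2), (2, 3)),
   ((1, 0), (1, 4), (1, 0)),
   ((1, 0), (1, 0), (0, 4)),
   ((1, 0), (4, 4), (4, 2)),
   ((1, 0), (0, 0), (4, 0)),
   ((1, 0), (0, 0), (4, 2)),
   ((0, 0), (1, 0), (4, 0)),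
   ((1, 0), (0, 2), (3, 1)),
   ((1, 0), (4, 3), (3, 2)),
   ((1, 0), (2, 1), (4, 2)),
   ((1, 0), (3, 0), (2, 3)),
   ((1, 0), (0, 2), (2, 4)),
   ((1, 0), (2, 0), (1, 4)),
   ((1, 0), (1, 4), (2, 0)),
   ((0, 0), (1, 0), (2, 3)),
   ((0, 0), (1, 0), (3, 2)),
   ((1, 0), (1, 3), (0, 0)),
   ((1, 0), (4, 0), (1, 4)),
   ((1, 0), (3, 3), (3, 3)),
   ((1, 0), (4, 3), (2, 3)),
   ((1, 0), (4, 1), (3, 0)),
   ((1, 0), (1, 0), (0, 1)),
   ((1, 0), (1, 1), (4, 2)),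
   ((1, 0), (0, 3), (2, 4)),
   ((1, 0), (1, 2), (3, 2)),
   ((1, 0), (3, 4), (2, 1)),
   ((1, 0), (1, 3), (3, 4)),
   ((1, 0), (4, 1), (4, 0)),
   ((1, 0), (3, 2), (4, 3)),
   ((0, 0), (1, 0), (4, 2)),
   ((1, 0), (3, 2), (1, 2)),
   ((1, 0), (1, 4), (4, 0)),
   ((1, 0), (1, 0), (1, 4)),
   ((1, 0), (4, 0), (0, 0)),
   ((1, 0), (0, 0), (1, 3)),
   ((1, 0), (2, 3), (0, 0)),
   ((1, 0), (0, 0), (3, 2)),
   ((0, 0), (1, 0), (1, 3)),
   ((1, 0), (1, 3), (1, 1)),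
   ((1, 0), (2, 1), (1, 3)),
   ((1, 0), (2, 3), (3, 0)),
   ((1, 0), (2, 0), (3, 2)),
   ((1, 0), (4, 2), (2, 1)),
   ((1, 0), (4, 1), (1, 0)),
   ((1, 0), (3, 4), (1, 3)),
   ((1, 0), (1, 4), (3, 0)),
   ((1, 0), (2, 1), (3, 4)),
   ((1, 0), (3, 4), (4, 2)),
   ((1, 0), (3, 2), (2, 0)),
   ((1, 0), (0, 0), (2, 3)),
   ((1, 0), (4, 0), (4, 1)),
   ((1, 0), (4, 1), (2, 0)),
   ((1, 0), (1, 3), (4, 4)),
   ((1, 0), (3, 4), (3, 4)),
   ((1, 0), (3, 0), (4, 1)),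
   ((1, 0), (2, 1), (2, 1)),
   ((1, 0), (2, 3), (4, 0)),
   ((1, 0), (4, 2), (4, 2)),
   ((1, 0), (3, 2), (3, 0)),
   ((1, 0), (1, 0), (4, 1)),
   ((1, 0), (1, 0), (2, 3)),
   ((1, 0), (4, 2), (0, 0)),
   ((1, 0), (4, 0), (2, 3)),
   ((1, 0), (4, 2), (1, 3)),
   ((1, 0), (2, 0), (2, 3)),
   ((1, 0), (4, 2), (3, 4)),
   ((1, 0), (1, 3), (2, 1)),
   ((1, 0), (3, 0), (1, 4)),
   ((1, 0), (1, 3), (4, 2)),
   ((1, 0), (2, 3), (2, 0)),
   ((1, 0), (2, 3), (1, 0)),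
   ((1, 0), (3, 2), (4, 0)),
   ((1, 0), (4, 0), (3, 2)),
   ((1, 0), (1, 0), (3, 2)),
   ((1, 0), (3, 2), (1, 0)),
   ((1, 0), (1, 3), (1, 3))]


/-- One recorded image. -/
def checkLine (g : M5) (p : V5 × K5 × ℕ) : Bool :=
  beqV (mulV g p.1) (smulV p.2.1 (lines.getD p.2.2 ((0, 0), (0, 0), (0, 0)))) && nzK p.2.1 &&
    Nat.blt p.2.2 105

/-- The matrix `g` permutes the lines as recorded. -/
abbrev Certified (g : M5) (cert : List (K5 × ℕ)) : Prop :=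
  lines.length = 105 ∧ cert.length = 105 ∧ (lines.zip cert).all (checkLine g) = true

def shiftK : M5 := (((0, 0), (0, 0), (1, 0)), ((1, 0), (0, 0), (0, 0)), ((0, 0), (1, 0), (0, 0)))

def shiftKCert : List (K5 × ℕ) :=
  [((1, 0), 1), ((1, 0), 3), ((0, 4), 5), ((1, 0), 0), ((0, 1), 8), ((2, 2), 10), ((4, 3), 14),
   ((1, 0), 18), ((3, 3), 20), ((1, 2), 23), ((4, 0), 2), ((0, 3), 27), ((1, 0), 31), ((1, 0), 7),
   ((0, 3), 32), ((4, 4), 28), ((1, 1), 40), ((4, 1), 38), ((1, 0), 13), ((1, 0), 44), ((4, 0), 4),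
   ((0, 2), 25), ((1, 0), 50), ((0, 2), 51), ((3, 2), 55), ((1, 3), 57), ((2, 2), 22), ((1, 3), 59),
   ((3, 1), 48), ((2, 3), 16), ((1, 0), 61), ((0, 4), 47), ((4, 2), 6), ((4, 0), 62), ((4, 2), 64),
   ((4, 0), 33), ((3, 1), 37), ((3, 2), 67), ((4, 2), 69), ((2, 3), 71), ((2, 4), 29), ((1, 4), 73),
   ((2, 0), 24), ((2, 3), 34), ((3, 2), 63), ((1, 0), 66), ((1, 4), 54), ((3, 3), 12), ((2, 3), 15),
   ((3, 0), 70), ((0, 1), 26), ((4, 2), 9), ((2, 4), 53), ((3, 2), 81), ((2, 1), 56), ((3, 4), 42),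
   ((4, 0), 46), ((4, 3), 21), ((4, 2), 78), ((1, 2), 11), ((4, 0), 79), ((1, 4), 82), ((1, 0), 35),
   ((1, 3), 19), ((1, 0), 43), ((3, 2), 45), ((1, 3), 65), ((1, 1), 36), ((1, 3), 77), ((3, 0), 17),
   ((3, 2), 95), ((2, 1), 80), ((1, 0), 88), ((1, 3), 87), ((3, 0), 93), ((3, 4), 60), ((4, 2), 98),
   ((2, 0), 83), ((2, 3), 90), ((4, 1), 75), ((2, 0), 39), ((4, 4), 52), ((3, 4), 30), ((4, 1), 68),
   ((2, 1), 72), ((4, 0), 101), ((4, 2), 99), ((3, 0), 41), ((4, 1), 84), ((2, 3), 86), ((1, 0), 58),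
   ((2, 3), 92), ((1, 3), 100), ((2, 3), 94), ((3, 4), 74), ((2, 1), 49), ((1, 4), 76), ((4, 2), 85),
   ((2, 0), 96), ((1, 0), 89), ((4, 0), 91), ((3, 2), 97), ((3, 2), 104), ((1, 0), 102), ((1, 3), 103)]

theorem shiftK_ok : Certified shiftK shiftKCert := by decide +kernel

def signA : M5 := (((1, 0), (0, 0), (0, 0)), ((0, 0), (4, 0), (0, 0)), ((0, 0), (0, 0), (4, 0)))

def signACert : List (K5 × ℕ) :=
  [((1, 0), 0), ((4, 0), 1), ((1, 0), 50), ((4, 0), 3), ((1, 0), 31), ((1, 0), 8), ((1, 0), 59),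
   ((1, 0), 62), ((1, 0), 5), ((1, 0), 57), ((1, 0), 12), ((1, 0), 21), ((1, 0), 10), ((1, 0), 33),
   ((1, 0), 23), ((1, 0), 67), ((1, 0), 81), ((1, 0), 96), ((4, 0), 18), ((1, 0), 64), ((1, 0), 22),
   ((1, 0), 11), ((1, 0), 20), ((1, 0), 14), ((1, 0), 93), ((1, 0), 32), ((1, 0), 47), ((1, 0), 51),
   ((1, 0), 40), ((1, 0), 37), ((1, 0), 56), ((1, 0), 4), ((1, 0), 25), ((1, 0), 13), ((1, 0), 63),
   ((4, 0), 35), ((1, 0), 52), ((1, 0), 29), ((1, 0), 73), ((1, 0), 70), ((1, 0), 28), ((1, 0), 83),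
   ((1, 0), 49), ((4, 0), 43), ((4, 0), 44), ((1, 0), 90), ((1, 0), 88), ((1, 0), 26), ((1, 0), 53),
   ((1, 0), 42), ((1, 0), 2), ((1, 0), 27), ((1, 0), 36), ((1, 0), 48), ((1, 0), 75), ((1, 0), 71),
   ((1, 0), 30), ((1, 0), 9), ((4, 0), 58), ((1, 0), 6), ((1, 0), 72), ((1, 0), 79), ((1, 0), 7),
   ((1, 0), 34), ((1, 0), 19), ((1, 0), 78), ((4, 0), 66), ((1, 0), 15), ((1, 0), 76), ((1, 0), 77),
   ((1, 0), 39), ((1, 0), 55), ((1, 0), 60), ((1, 0), 38), ((1, 0), 80), ((1, 0), 54), ((1, 0), 68),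
   ((1, 0), 69), ((1, 0), 65), ((1, 0), 61), ((1, 0), 74), ((1, 0), 16), ((1, 0), 84), ((1, 0), 41),
   ((1, 0), 82), ((1, 0), 103), ((1, 0), 104), ((1, 0), 98), ((1, 0), 46), ((1, 0), 101), ((1, 0), 45),
   ((1, 0), 102), ((1, 0), 97), ((1, 0), 24), ((1, 0), 95), ((1, 0), 94), ((1, 0), 17), ((1, 0), 92),
   ((1, 0), 87), ((1, 0), 100), ((1, 0), 99), ((1, 0), 89), ((1, 0), 91), ((1, 0), 85), ((1, 0), 86)]

theorem signA_ok : Certified signA signACert := by decide +kernel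

def signB : M5 := (((4, 0), (0, 0), (0, 0)), ((0, 0), (1, 0), (0, 0)), ((0, 0), (0, 0), (4, 0)))

def signBCert : List (K5 × ℕ) :=
  [((4, 0), 0), ((1, 0), 1), ((4, 0), 31), ((4, 0), 3), ((4, 0), 50), ((4, 0), 26), ((4, 0), 57),
   ((4, 0), 62), ((4, 0), 47), ((4, 0), 59), ((4, 0), 20), ((4, 0), 14), ((4, 0), 22), ((4, 0), 13),
   ((4, 0), 11), ((4, 0), 81), ((4, 0), 67), ((4, 0), 83), ((1, 0), 35), ((4, 0), 64), ((4, 0), 10),
   ((4, 0), 23), ((4, 0), 12), ((4, 0), 21), ((4, 0), 70), ((4, 0), 27), ((4, 0), 5), ((4, 0), 25),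
   ((4, 0), 36), ((4, 0), 48), ((4, 0), 72), ((4, 0), 2), ((4, 0), 51), ((4, 0), 33), ((4, 0), 34),
   ((1, 0), 18), ((4, 0), 28), ((4, 0), 53), ((4, 0), 76), ((4, 0), 93), ((4, 0), 52), ((4, 0), 96),
   ((4, 0), 80), ((1, 0), 44), ((1, 0), 43), ((4, 0), 90), ((4, 0), 61), ((4, 0), 8), ((4, 0), 29),
   ((4, 0), 74), ((4, 0), 4), ((4, 0), 32), ((4, 0), 40), ((4, 0), 37), ((4, 0), 84), ((4, 0), 94),
   ((4, 0), 60), ((4, 0), 6), ((1, 0), 66), ((4, 0), 9), ((4, 0), 56), ((4, 0), 46), ((4, 0), 7),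
   ((4, 0), 63), ((4, 0), 19), ((4, 0), 65), ((1, 0), 58), ((4, 0), 16), ((4, 0), 73), ((4, 0), 87),
   ((4, 0), 24), ((4, 0), 95), ((4, 0), 30), ((4, 0), 68), ((4, 0), 49), ((4, 0), 82), ((4, 0), 38),
   ((4, 0), 98), ((4, 0), 78), ((4, 0), 88), ((4, 0), 42), ((4, 0), 15), ((4, 0), 75), ((4, 0), 17),
   ((4, 0), 54), ((4, 0), 100), ((4, 0), 97), ((4, 0), 69), ((4, 0), 79), ((4, 0), 91), ((4, 0), 45),
   ((4, 0), 89), ((4, 0), 104), ((4, 0), 39), ((4, 0), 55), ((4, 0), 71), ((4, 0), 41), ((4, 0), 86),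
   ((4, 0), 77), ((4, 0), 103), ((4, 0), 85), ((4, 0), 102), ((4, 0), 101), ((4, 0), 99), ((4, 0), 92)]

theorem signB_ok : Certified signB signBCert := by decide +kernel

def swapD : M5 := (((0, 0), (4, 0), (0, 0)), ((4, 0), (0, 0), (0, 0)), ((0, 0), (0, 0), (4, 0)))

def swapDCert : List (K5 × ℕ) :=
  [((4, 0), 1), ((4, 0), 0), ((1, 0), 4), ((4, 0), 3), ((1, 0), 2), ((2, 2), 20), ((3, 2), 15),
   ((4, 0), 7), ((3, 3), 10), ((3, 2), 16), ((0, 4), 8), ((3, 1), 53), ((0, 1), 47), ((4, 0), 18),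
   ((2, 4), 48), ((1, 3), 6), ((1, 3), 9), ((3, 0), 39), ((4, 0), 13), ((2, 3), 45), ((0, 1), 5),
   ((2, 4), 37), ((0, 4), 26), ((3, 1), 29), ((2, 0), 41), ((4, 4), 36), ((3, 3), 22), ((1, 1), 52),
   ((0, 2), 32), ((4, 3), 23), ((4, 1), 82), ((4, 0), 31), ((1, 1), 28), ((4, 0), 35), ((4, 0), 58),
   ((4, 0), 33), ((0, 3), 25), ((1, 2), 21), ((3, 4), 80), ((2, 0), 17), ((0, 3), 51), ((3, 0), 24),
   ((4, 1), 73), ((4, 0), 78), ((4, 0), 65), ((4, 2), 19), ((1, 0), 79), ((2, 2), 12), ((1, 2), 14),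
   ((1, 4), 68), ((4, 0), 50), ((4, 4), 40), ((0, 2), 27), ((4, 3), 11), ((2, 1), 60), ((4, 2), 87),
   ((1, 4), 75), ((2, 3), 67), ((4, 0), 34), ((2, 3), 81), ((4, 1), 54), ((4, 0), 61), ((1, 0), 62),
   ((4, 0), 66), ((3, 2), 90), ((4, 0), 44), ((4, 0), 63), ((4, 2), 57), ((3, 4), 49), ((3, 2), 71),
   ((3, 0), 83), ((1, 3), 69), ((1, 4), 84), ((2, 1), 42), ((4, 1), 76), ((3, 4), 56), ((2, 1), 74),
   ((2, 3), 95), ((4, 0), 43), ((1, 0), 46), ((1, 4), 38), ((4, 2), 59), ((2, 1), 30), ((2, 0), 70),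
   ((3, 4), 72), ((3, 2), 92), ((1, 3), 99), ((2, 3), 55), ((4, 0), 88), ((4, 0), 89), ((1, 3), 64),
   ((1, 0), 101), ((1, 3), 85), ((3, 0), 96), ((1, 3), 98), ((4, 2), 77), ((2, 0), 93), ((4, 2), 100),
   ((3, 2), 94), ((3, 2), 86), ((2, 3), 97), ((1, 0), 91), ((4, 0), 102), ((2, 3), 104), ((4, 2), 103)]

theorem swapD_ok : Certified swapD swapDCert := by decide +kernel

def clockK : M5 := (((1, 0), (0, 0), (0, 0)), ((0, 0), (1, 3), (0, 0)), ((0, 0), (0, 0), (3, 2)))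

def clockKCert : List (K5 × ℕ) :=
  [((1, 0), 0), ((1, 3), 1), ((1, 0), 15), ((3, 2), 3), ((1, 0), 16), ((1, 0), 28), ((1, 0), 4),
   ((1, 0), 45), ((1, 0), 40), ((1, 0), 2), ((1, 0), 48), ((1, 0), 47), ((1, 0), 53), ((1, 0), 65),
   ((1, 0), 8), ((1, 0), 9), ((1, 0), 6), ((1, 0), 75), ((1, 3), 66), ((1, 0), 7), ((1, 0), 29),
   ((1, 0), 26), ((1, 0), 37), ((1, 0), 5), ((1, 0), 73), ((1, 0), 22), ((1, 0), 36), ((1, 0), 12),
   ((1, 0), 23), ((1, 0), 32), ((1, 0), 70), ((1, 0), 81), ((1, 0), 20), ((1, 0), 78), ((1, 0), 33),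
   ((1, 3), 58), ((1, 0), 21), ((1, 0), 25), ((1, 0), 60), ((1, 0), 76), ((1, 0), 14), ((1, 0), 84),
   ((1, 0), 41), ((1, 3), 35), ((1, 3), 18), ((1, 0), 19), ((1, 0), 71), ((1, 0), 52), ((1, 0), 51),
   ((1, 0), 83), ((1, 0), 67), ((1, 0), 10), ((1, 0), 11), ((1, 0), 27), ((1, 0), 80), ((1, 0), 87),
   ((1, 0), 39), ((1, 0), 50), ((1, 3), 43), ((1, 0), 31), ((1, 0), 93), ((1, 0), 95), ((1, 0), 90),
   ((1, 0), 13), ((1, 0), 62), ((1, 0), 63), ((1, 3), 44), ((1, 0), 57), ((1, 0), 30), ((1, 0), 79),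
   ((1, 0), 68), ((1, 0), 98), ((1, 0), 24), ((1, 0), 72), ((1, 0), 17), ((1, 0), 74), ((1, 0), 56),
   ((1, 0), 61), ((1, 0), 34), ((1, 0), 94), ((1, 0), 96), ((1, 0), 59), ((1, 0), 49), ((1, 0), 82),
   ((1, 0), 42), ((1, 0), 91), ((1, 0), 85), ((1, 0), 88), ((1, 0), 55), ((1, 0), 97), ((1, 0), 64),
   ((1, 0), 86), ((1, 0), 99), ((1, 0), 38), ((1, 0), 69), ((1, 0), 77), ((1, 0), 54), ((1, 0), 100),
   ((1, 0), 46), ((1, 0), 101), ((1, 0), 89), ((1, 0), 92), ((1, 0), 104), ((1, 0), 102), ((1, 0), 103)]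

theorem clockK_ok : Certified clockK clockKCert := by decide +kernel

def invoT : M5 := (((2, 0), (3, 0), (2, 2)), ((3, 0), (2, 0), (2, 2)), ((0, 3), (0, 3), (0, 0)))

def invoTCert : List (K5 × ℕ) :=
  [((2, 0), 2), ((3, 0), 4), ((3, 0), 0), ((2, 2), 7), ((2, 0), 1), ((2, 3), 13), ((4, 2), 17),
   ((0, 1), 3), ((2, 2), 10), ((2, 1), 24), ((0, 1), 8), ((1, 2), 30), ((4, 4), 33), ((4, 2), 5),
   ((4, 3), 38), ((1, 4), 39), ((2, 3), 41), ((2, 3), 6), ((0, 2), 20), ((1, 1), 46), ((1, 1), 18),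
   ((3, 3), 49), ((4, 0), 22), ((0, 2), 54), ((4, 1), 9), ((0, 4), 58), ((4, 0), 26), ((4, 4), 52),
   ((4, 0), 28), ((2, 0), 60), ((2, 4), 11), ((4, 0), 31), ((4, 0), 32), ((0, 3), 12), ((2, 3), 36),
   ((1, 3), 47), ((4, 2), 34), ((2, 0), 68), ((3, 1), 14), ((3, 4), 15), ((1, 3), 66), ((4, 2), 16),
   ((4, 1), 56), ((0, 4), 77), ((1, 1), 55), ((0, 4), 79), ((0, 2), 19), ((3, 2), 35), ((1, 3), 80),
   ((0, 4), 21), ((1, 0), 50), ((0, 1), 63), ((0, 3), 27), ((3, 2), 82), ((1, 1), 23), ((0, 2), 44),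
   ((2, 1), 42), ((2, 4), 85), ((3, 3), 25), ((0, 3), 86), ((3, 0), 29), ((1, 2), 89), ((4, 0), 62),
   ((2, 2), 51), ((3, 4), 91), ((0, 1), 87), ((3, 2), 40), ((3, 1), 92), ((3, 0), 37), ((4, 0), 69),
   ((1, 1), 97), ((4, 0), 71), ((1, 0), 76), ((1, 4), 75), ((1, 3), 84), ((3, 4), 73), ((1, 0), 72),
   ((3, 3), 43), ((4, 4), 95), ((3, 3), 45), ((3, 2), 48), ((2, 2), 99), ((1, 3), 53), ((0, 3), 100),
   ((3, 2), 74), ((1, 2), 57), ((4, 4), 59), ((2, 2), 65), ((4, 3), 102), ((2, 4), 61), ((4, 1), 101),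
   ((1, 4), 64), ((4, 3), 67), ((0, 4), 103), ((4, 2), 98), ((0, 3), 78), ((2, 2), 104), ((0, 2), 70),
   ((2, 3), 94), ((0, 1), 81), ((4, 4), 83), ((2, 1), 90), ((3, 1), 88), ((3, 3), 93), ((0, 1), 96)]

theorem invoT_ok : Certified invoT invoTCert := by decide +kernel

/-- The first row and column of a special unitary matrix moving the configuration. -/
def moved : V5 := ((0, 1), (3, 0), (0, 0))

/-- The line `l` is not proportional to `moved`. -/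
def checkMoved (l : V5) : Bool :=
  nzK (addK (mulK moved.1 l.2.1) (mulK (4, 0) (mulK moved.2.1 l.1))) ||
    nzK (addK (mulK moved.1 l.2.2) (mulK (4, 0) (mulK moved.2.2 l.1))) ||
    nzK (addK (mulK moved.2.1 l.2.2) (mulK (4, 0) (mulK moved.2.2 l.2.1)))

theorem moved_ne : lines.all checkMoved = true := by decide +kernel

theorem first_mem : (((1, 0), (0, 0), (0, 0)) : V5) ∈ lines := List.mem_cons_self

section Transfer

variable {F : Type*} [Field F] [CharP F 5]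

/-- A root of `X² + X + 2`. -/
structure Root5 (z : F) : Prop where
  eq : z ^ 2 + z + 2 = 0

/-- The model field inside `F`. -/
def toF (z : F) (x : K5) : F := (x.1 : F) + (x.2 : F) * z

def toVec (z : F) (v : V5) : Fin 3 → F := ![toF z v.1, toF z v.2.1, toF z v.2.2]

def toMat (z : F) (g : M5) : Matrix (Fin 3) (Fin 3) F := Matrix.of ![toVec z g.1, toVec z g.2.1, toVec z g.2.2]

variable {z : F}

theorem cast_mod_five (n : ℕ) : ((n % 5 : ℕ) : F) = (n : F) := by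
  rw [← CharP.cast_eq_mod]

theorem toF_add (x y : K5) : toF z (addK x y) = toF z x + toF z y := by
  simp only [toF, addK, cast_mod_five, Nat.cast_add]; ring

theorem five_eq_zero : (5 : F) = 0 := by
  have h := CharP.cast_eq_zero F 5
  exact_mod_cast h

theorem toF_mul (hz : Root5 z) (x y : K5) : toF z (mulK x y) = toF z x * toF z y := by
  simp only [toF, mulK, cast_mod_five, Nat.cast_add, Nat.cast_mul, Nat.cast_ofNat]
  linear_combination -((x.2 : F) * (y.2 : F)) * hz.eq + ((x.2 : F) * (y.2 : F) * (1 + z)) * five_eq_zero (F := F)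

theorem toF_ne_zero (hz : Root5 z) {x : K5} (h : nzK x = true) : toF z x ≠ 0 := by
  obtain ⟨a, b⟩ := x
  intro h0
  simp only [toF] at h0
  have e : ((a * a + 4 * (a * b) + 2 * (b * b) : ℕ) : F) = 0 := by
    push_cast
    linear_combination ((a : F) - b - b * z) * h0 + ((b : F) * b) * hz.eq + ((a : F) * b) * five_eq_zero (F := F)
  rw [CharP.cast_eq_zero_iff F 5] at e
  have h' := Nat.mod_eq_zero_of_dvd e
  simp [nzK, h'] at h

theorem toVec_smul (hz : Root5 z) (c : K5) (v : V5) : toVec z (smulV c v) = toF z c • toVec z v := by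
  funext i
  fin_cases i <;> simp [toVec, smulV, toF_mul hz]

theorem toMat_mulVec (hz : Root5 z) (g : M5) (v : V5) : toMat z g *ᵥ toVec z v = toVec z (mulV g v) := by
  funext i
  fin_cases i <;>
    simp [toMat, toVec, mulV, dotV, toF_add, toF_mul hz, Matrix.mulVec, dotProduct, Fin.sum_univ_three]

/-- The union of the lines of the configuration, without zero. -/
def config (z : F) : Set (Fin 3 → F) := {u | ∃ c : F, c ≠ 0 ∧ ∃ l ∈ lines, u = c • toVec z l}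

/-- The stabiliser of the configuration. -/
def configStab (z : F) : Subgroup (GL (Fin 3) F) where
  carrier := {g | ∀ u, u ∈ config z ↔ g.val *ᵥ u ∈ config z}
  one_mem' u := by simp
  mul_mem' := fun {a b} ha hb u => by rw [hb u, ha, Matrix.mulVec_mulVec, Units.val_mul]
  inv_mem' := fun {a} ha u => by
    rw [ha ((a⁻¹ : GL (Fin 3) F).val *ᵥ u), Matrix.mulVec_mulVec, ← Units.val_mul, mul_inv_cancel, Units.val_one,
      Matrix.one_mulVec]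

theorem mem_configStab [Finite F] (hz : Root5 z) {g : GL (Fin 3) F} {m : M5} {cert : List (K5 × ℕ)}
    (hg : g.val = toMat z m) (hc : Certified m cert) : g ∈ configStab z := by
  have hfwd : Set.MapsTo (fun u => g.val *ᵥ u) (config z) (config z) := by
    rintro _ ⟨c, hc0, l, hl, rfl⟩
    obtain ⟨h1, h2, h3⟩ := hc
    obtain ⟨p, hp, hpl⟩ : ∃ p ∈ lines.zip cert, p.1 = l := by
      rw [← List.map_fst_zip (l₁ := lines) (l₂ := cert) (by omega)] at hl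
      obtain ⟨p, hp, hpl⟩ := List.mem_map.1 hl
      exact ⟨p, hp, hpl⟩
    have hk := List.all_eq_true.1 h3 p hp
    simp only [checkLine, Bool.and_eq_true, beqV, beqK, Nat.blt_eq] at hk
    obtain ⟨⟨hb, hnz⟩, hlt⟩ := hk
    have he : mulV m p.1 = smulV p.2.1 (lines.getD p.2.2 ((0, 0), (0, 0), (0, 0))) :=
      Prod.ext (Prod.ext (Nat.eq_of_beq_eq_true hb.1.1.1) (Nat.eq_of_beq_eq_true hb.1.1.2))
        (Prod.ext (Prod.ext (Nat.eq_of_beq_eq_true hb.1.2.1) (Nat.eq_of_beq_eq_true hb.1.2.2))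
          (Prod.ext (Nat.eq_of_beq_eq_true hb.2.1) (Nat.eq_of_beq_eq_true hb.2.2)))
    rw [hpl] at he
    refine ⟨c * toF z p.2.1, mul_ne_zero hc0 (toF_ne_zero hz hnz),
      lines.getD p.2.2 ((0, 0), (0, 0), (0, 0)), ?_, ?_⟩
    · rw [List.getD_eq_getElem _ _ (by omega)]; exact List.getElem_mem _
    · show g.val *ᵥ (c • toVec z l) = _
      rw [Matrix.mulVec_smul, hg, toMat_mulVec hz, he, toVec_smul hz, smul_smul]
  have hinj : Function.Injective (fun u => g.val *ᵥ u) := Matrix.mulVec_injective_iff_isUnit.2 g.isUnit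
  intro u
  refine ⟨fun hu => hfwd hu, fun hu => ?_⟩
  have hbij := ((Set.toFinite (config z)).surjOn_iff_bijOn_of_mapsTo hfwd).2
    ((Set.toFinite (config z)).injOn_iff_bijOn_of_mapsTo hfwd |>.1 hinj.injOn)
  obtain ⟨u', hu', he⟩ := hbij hu
  rwa [← hinj he]

theorem scalar_mem_configStab {g : GL (Fin 3) F} {c : F} (hc : c ≠ 0) (hg : ∀ u, g.val *ᵥ u = c • u) :
    g ∈ configStab z := by
  intro u
  rw [hg]
  constructor
  · rintro ⟨d, hd, l, hl, rfl⟩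
    exact ⟨c * d, mul_ne_zero hc hd, l, hl, smul_smul _ _ _⟩
  · rintro ⟨d, hd, l, hl, h⟩
    exact ⟨c⁻¹ * d, mul_ne_zero (inv_ne_zero hc) hd, l, hl, by rw [← smul_smul, ← h, inv_smul_smul₀ hc]⟩

theorem moved_notMem (hz : Root5 z) : toVec z moved ∉ config z := by
  rintro ⟨c, -, l, hl, h⟩
  have h0 := congrFun h 0
  have h1 := congrFun h 1
  have h2 := congrFun h 2
  simp [toVec] at h0 h1 h2
  have hk := List.all_eq_true.1 moved_ne l hl
  simp only [checkMoved, Bool.or_eq_true] at hk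
  have h4 : toF z ((4, 0) : K5) = -1 := by
    simp [toF]; linear_combination five_eq_zero (F := F)
  rcases hk with (hk | hk) | hk <;>
    exact toF_ne_zero hz hk (by
      simp only [toF_add, toF_mul hz, h0, h1, h2, h4]; ring)

theorem e_zero_mem : (Pi.single 0 1 : Fin 3 → F) ∈ config z := by
  refine ⟨1, one_ne_zero, _, first_mem, ?_⟩
  funext i
  fin_cases i <;> simp [toVec, toF]

end Transfer

end CfsgLib.Mitchell.SevenFive
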