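import Cfsg.Agent.Lib.Mitchell.Fields
import Cfsg.Agent.Lib.Mitchell.SevenFiveModel
import Cfsg.Agent.Lib.DimThreeMax.AutCard
import Cfsg.Agent.Lib.DimThreeMax.UnitNormal

/-!
# The group of order 168 is not maximal in `SU₃(5)`

A perfect subgroup with quotient `PSL₃(2)` of `SU₃(5)` has, in a suitable orthonormal basis, the signed
permutations and one further explicit involution as generators, and so leaves invariant a configuration of
105 lines, whose stabiliser is larger than the normaliser of the group.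
-/

set_option autoImplicit false
set_option linter.unusedSectionVars false

namespace CfsgLib.Mitchell

open Cfsg Cfsg.Geo Matrix CfsgLib.Geo.Asch CfsgLib.GeomClasses CfsgLib.DimThreeMax
open scoped MatrixGroups

namespace SevenFive

/-! ### The group of order 168 -/

abbrev SL32 : Type := Matrix.SpecialLinearGroup (Fin 3) (ZMod 2)

def ga : SL32 := ⟨!![0, 0, 1; 0, 1, 0; 1, 0, 0], by decide +kernel⟩
def gb : SL32 := ⟨!![1, 1, 0; 0, 1, 0; 0, 1, 1], by decide +kernel⟩
def gc : SL32 := ⟨!![0, 0, 1; 1, 0, 1; 1, 1, 0], by decide +kernel⟩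
def gd : SL32 := ⟨!![1, 0, 0; 1, 0, 1; 1, 1, 0], by decide +kernel⟩
def gt : SL32 := ⟨!![1, 0, 0; 0, 0, 1; 0, 1, 0], by decide +kernel⟩
def gg : SL32 := ⟨!![0, 0, 1; 0, 1, 1; 1, 1, 1], by decide +kernel⟩

theorem sl_relations :
    ga * ga = 1 ∧ gb * gb = 1 ∧ ga * gb = gb * ga ∧ gc * gc * gc = 1 ∧ gc * ga = gb * gc ∧
    gc * gb = ga * gb * gc ∧ gd * gd = 1 ∧ gd * ga = gb * gd ∧ gd * gb = ga * gd ∧ gc * gd * gc = gd ∧
    gt * gt = 1 ∧ gt * gd = gd * gt ∧ gt * ga * (gt * ga) * (gt * ga) = 1 ∧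
    gt * gb * (gt * gb) * (gt * gb) = 1 ∧ gt * gc * (gt * gc) * (gt * gc) = 1 :=
  ⟨Subtype.ext (by decide +kernel), Subtype.ext (by decide +kernel), Subtype.ext (by decide +kernel), Subtype.ext (by decide +kernel),
    Subtype.ext (by decide +kernel), Subtype.ext (by decide +kernel), Subtype.ext (by decide +kernel), Subtype.ext (by decide +kernel),
    Subtype.ext (by decide +kernel), Subtype.ext (by decide +kernel), Subtype.ext (by decide +kernel), Subtype.ext (by decide +kernel),
    Subtype.ext (by decide +kernel), Subtype.ext (by decide +kernel), Subtype.ext (by decide +kernel)⟩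

theorem sl_ne :
    ga.1 ≠ 1 ∧ gb.1 ≠ 1 ∧ ga.1 ≠ gb.1 ∧ gt.1 ≠ 1 ∧ (gt * ga).1 ≠ 1 ∧ (gt * gb).1 ≠ 1 ∧ (gt * gc).1 ≠ 1 ∧
    gc.1 ≠ 1 ∧ ((ga * gd) ^ 2).1 ≠ 1 ∧ (ga * gc * gt).1 ≠ 1 := by
  refine ⟨?_, ?_, ?_, ?_, ?_, ?_, ?_, ?_, ?_, ?_⟩ <;> decide +kernel

theorem sl_orders : ((ga * gd) ^ 4).1 = 1 ∧ ((ga * gc * gt) ^ 7).1 = 1 := by
  constructor <;> decide +kernel

/-- The inverse of the transpose. -/
def transInv : SL32 ≃* SL32 where
  toFun g := ⟨g⁻¹.1ᵀ, by rw [Matrix.det_transpose]; exact g⁻¹.2⟩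
  invFun g := ⟨g⁻¹.1ᵀ, by rw [Matrix.det_transpose]; exact g⁻¹.2⟩
  left_inv g := by
    apply Subtype.ext
    show (Matrix.adjugate (Matrix.adjugate g.1)ᵀ)ᵀ = g.1
    rw [← Matrix.adjugate_transpose, Matrix.transpose_transpose, Matrix.adjugate_adjugate _ (by simp), g.2]
    simp
  right_inv g := by
    apply Subtype.ext
    show (Matrix.adjugate (Matrix.adjugate g.1)ᵀ)ᵀ = g.1
    rw [← Matrix.adjugate_transpose, Matrix.transpose_transpose, Matrix.adjugate_adjugate _ (by simp), g.2]
    simp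
  map_mul' g h := by
    apply Subtype.ext
    show (g * h)⁻¹.1ᵀ = g⁻¹.1ᵀ * h⁻¹.1ᵀ
    rw [_root_.mul_inv_rev, Matrix.SpecialLinearGroup.coe_mul, Matrix.transpose_mul]

theorem transInv_conj : transInv (ga * gc * gt) = gg * (ga * gc * gt)⁻¹ * gg⁻¹ := Subtype.ext (by decide +kernel)

/-- The quotient by the trivial centre. -/
noncomputable def slEquiv : SL32 ≃* L32 := by
  haveI : Finite SL32 := inferInstance
  refine MulEquiv.ofBijective (QuotientGroup.mk' _) ((Nat.bijective_iff_surjective_and_card _).2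
    ⟨QuotientGroup.mk'_surjective _, ?_⟩)
  rw [card_sl32]
  exact card_l32.symm

theorem transInv_not_inner (g : SL32) : (transInv : MulAut SL32) ≠ MulAut.conj g := by
  intro h
  have e := congrArg (fun y : SL32 => y.1.trace) (DFunLike.congr_fun h (ga * gc * gt))
  have ht : (transInv (ga * gc * gt)).1.trace ≠ (ga * gc * gt).1.trace := by decide +kernel
  apply ht
  simp only [MulAut.conj_apply, Matrix.SpecialLinearGroup.coe_mul] at e
  rw [e, Matrix.trace_mul_comm, ← mul_assoc, ← Matrix.SpecialLinearGroup.coe_mul, inv_mul_cancel,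
    Matrix.SpecialLinearGroup.coe_one, one_mul]
  simp only [Matrix.SpecialLinearGroup.coe_mul]

/-- Inner automorphisms have index two. -/
theorem inner_or (φ : MulAut SL32) :
    (∃ g, φ = MulAut.conj g) ∨ ∃ g, φ = MulAut.conj g * transInv := by
  by_cases hφ : ∃ g, φ = MulAut.conj g
  · exact Or.inl hφ
  right
  set N := (MulAut.conj : SL32 →* MulAut SL32).range
  have hinj : Function.Injective (MulAut.conj : SL32 →* MulAut SL32) := by
    rw [← MonoidHom.ker_eq_bot_iff, eq_bot_iff]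
    intro g hg
    rw [Subgroup.mem_bot]
    apply slEquiv.injective
    rw [map_one]
    refine (QuotientGroup.eq_one_iff g).2 (Subgroup.mem_center_iff.2 fun k => ?_)
    have := DFunLike.congr_fun (MonoidHom.mem_ker.1 hg) k
    rw [MulAut.conj_apply, MulAut.one_apply, mul_inv_eq_iff_eq_mul] at this
    exact this.symm
  have hidx : N.index = 2 := by
    have h1 := N.card_mul_index
    rw [← Nat.card_congr (MonoidHom.ofInjective hinj).toEquiv, card_sl32,
      Nat.card_congr (MulAut.congr slEquiv).toEquiv, card_mulAut_l32] at h1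
    omega
  have hφ' : φ ∉ N := fun ⟨g, hg⟩ => hφ ⟨g, hg.symm⟩
  have hτ' : (transInv : MulAut SL32)⁻¹ ∉ N := fun hm => by
    obtain ⟨g, hg⟩ := N.inv_mem hm
    exact transInv_not_inner g (by rw [hg, inv_inv])
  obtain ⟨g, hg⟩ := (Subgroup.mul_mem_iff_of_index_two hidx).2 (iff_of_false hφ' hτ')
  exact ⟨g, by rw [hg, inv_mul_cancel_right]⟩

/-- The five elements generate. -/
theorem eq_top_of_mem {X : Subgroup SL32} (ha : ga ∈ X) (hc : gc ∈ X) (hd : gd ∈ X) (ht : gt ∈ X)
    (hs : IsSimpleGroup SL32) : X = ⊤ := by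
  obtain ⟨-, -, -, hc3, -⟩ := sl_relations
  obtain ⟨-, -, -, -, -, -, -, hcne, had2, hne7⟩ := sl_ne
  obtain ⟨had4, h7⟩ := sl_orders
  haveI : Fact (Nat.Prime 2) := ⟨Nat.prime_two⟩
  haveI : Fact (Nat.Prime 3) := ⟨Nat.prime_three⟩
  haveI : Fact (Nat.Prime 7) := ⟨by norm_num⟩
  have o4 : orderOf (ga * gd) = 4 := orderOf_eq_prime_pow (p := 2) (n := 1)
    (fun h => had2 (by rw [pow_one] at h; rw [h]; rfl)) (Subtype.ext had4)
  have o3 : orderOf gc = 3 := orderOf_eq_prime (by rw [pow_succ, pow_two, hc3]) fun h => hcne (by rw [h]; rfl)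
  have o7 : orderOf (ga * gc * gt) = 7 := orderOf_eq_prime (Subtype.ext h7) fun h => hne7 (by rw [h]; rfl)
  have key : ∀ {g : SL32}, g ∈ X → orderOf g ∣ Nat.card X := fun hg => by
    rw [← Nat.card_zpowers]; exact Subgroup.card_dvd_of_le (Subgroup.zpowers_le.2 hg)
  have d4 := o4 ▸ key (X.mul_mem ha hd)
  have d3 := o3 ▸ key hc
  have d7 := o7 ▸ key (X.mul_mem (X.mul_mem ha hc) ht)
  have d84 : 84 ∣ Nat.card X := (Nat.Coprime.mul_dvd_of_dvd_of_dvd (by norm_num)
    (Nat.Coprime.mul_dvd_of_dvd_of_dvd (by norm_num) d4 d3) d7)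
  obtain ⟨k, hk⟩ := d84
  have h1 := X.card_mul_index
  rw [card_sl32, hk, mul_assoc] at h1
  have h2 : k * X.index = 2 := by omega
  rcases (Nat.dvd_prime Nat.prime_two).1 ⟨k, by rw [mul_comm, h2]⟩ with hi | hi
  · exact Subgroup.index_eq_one.1 hi
  · rcases (Subgroup.normal_of_index_eq_two hi).eq_bot_or_eq_top with hb | ht'
    · exact absurd (Subgroup.mem_bot.1 (hb ▸ ha)) fun h => sl_ne.1 (by rw [h]; rfl)
    · exact ht'

/-! ### Normal form of the five elements -/

section Normal

variable {F : Type*} [Field F] [Fintype F]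

local notation "SU₅" => (Cfsg.GU 3 F 5 ⊓ Cfsg.Geo.specialLinear (Fin 3) F)

theorem trace_involution (h2 : (2 : F) ≠ 0) {M : Matrix (Fin 3) (Fin 3) F} (hd : M.det = 1) (hM : M * M = 1)
    (h1 : M ≠ 1) : M.trace = -1 := by
  have hCH := cayley_fields M
  rw [hd, hM, one_mul, one_smul] at hCH
  by_contra ht
  have ht' : -M.trace - 1 ≠ 0 := fun e => ht (by linear_combination -e)
  have e : (1 + M.adjugate.trace) • M + (-M.trace - 1) • (1 : Matrix (Fin 3) (Fin 3) F) = 0 := by
    rw [← hCH]; module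
  by_cases hs : 1 + M.adjugate.trace = 0
  · rw [hs, zero_smul, zero_add] at e
    exact ht' (by simpa using congrFun (congrFun e 0) 0)
  obtain ⟨c, hc⟩ : ∃ c : F, M = c • (1 : Matrix (Fin 3) (Fin 3) F) := by
    refine ⟨-(-M.trace - 1) / (1 + M.adjugate.trace), ?_⟩
    have := eq_neg_of_add_eq_zero_left e
    rw [← neg_smul] at this
    rw [div_eq_inv_mul, ← smul_smul, ← this, inv_smul_smul₀ hs]
  rw [hc, Matrix.det_smul, Matrix.det_one, mul_one, Fintype.card_fin] at hd
  rw [hc, Matrix.smul_mul, one_mul, smul_smul] at hM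
  have hcc : c * c = 1 := by simpa using congrFun (congrFun hM 0) 0
  have : c = 1 := by linear_combination hd - c * hcc
  exact h1 (by rw [hc, this, one_smul])

theorem trace_order_three {M : Matrix (Fin 3) (Fin 3) F} (hd : M.det = 1) (hM : M * M * M = 1)
    (hs : ∀ c : F, M ≠ c • (1 : Matrix (Fin 3) (Fin 3) F)) : M.trace = 0 := by
  have hCH := cayley_fields M
  rw [hd, hM, one_smul, show (1 : Matrix (Fin 3) (Fin 3) F) - M.trace • (M * M) + M.adjugate.trace • M - 1 =
    M * (M.adjugate.trace • (1 : Matrix (Fin 3) (Fin 3) F) - M.trace • M) by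
      rw [mul_sub, Matrix.mul_smul, Matrix.mul_smul, mul_one]; abel] at hCH
  by_contra ht
  have h := congrArg (M * M * ·) hCH
  simp only [← mul_assoc, hM, one_mul, mul_zero] at h
  apply hs (M.adjugate.trace / M.trace)
  rw [div_eq_inv_mul, ← smul_smul, sub_eq_zero.1 h, inv_smul_smul₀ ht]

/-- An orthonormal basis in which the first three elements are signs and the cyclic permutation. -/
theorem exists_frame (hF : Fintype.card F = 5 ^ 2) (h2 : (2 : F) ≠ 0) {A B C : GL (Fin 3) F}
    (hA : A ∈ Cfsg.GU 3 F 5) (hB : B ∈ Cfsg.GU 3 F 5) (hC : C ∈ Cfsg.GU 3 F 5)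
    (hA2 : A * A = 1) (hB2 : B * B = 1) (hAB : A * B = B * A) (hne : A ≠ B) (hC3 : C * C * C = 1)
    (hCA : C * A = B * C) (hCB : C * B = A * B * C) :
    ∃ Q ∈ Cfsg.GU 3 F 5, (Q⁻¹ * A * Q).val = !![1, 0, 0; 0, -1, 0; 0, 0, -1] ∧
      (Q⁻¹ * B * Q).val = !![-1, 0, 0; 0, 1, 0; 0, 0, -1] ∧
      (Q⁻¹ * C * Q).val = !![0, 0, 1; 1, 0, 0; 0, 1, 0] := by
  classical
  have hf := UnitPow.isUnitaryForm_hermForm hF 3
  have hA' : A.val * A.val = 1 := by rw [← Units.val_mul, hA2, Units.val_one]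
  have hB' : B.val * B.val = 1 := by rw [← Units.val_mul, hB2, Units.val_one]
  have hAB' : A.val * B.val = B.val * A.val := by rw [← Units.val_mul, ← Units.val_mul, hAB]
  -- a common eigenvector
  obtain ⟨x, hx⟩ : ∃ x, ((1 + A.val) * (1 - B.val)) *ᵥ x ≠ 0 := by
    by_contra hc
    push Not at hc
    have h0 : (1 + A.val) * (1 - B.val) = 0 := Matrix.ext_of_mulVec_single fun i => by
      rw [hc, Matrix.zero_mulVec]
    have h1 : (1 + B.val) * (1 - A.val * B.val) = 0 := by
      have e : C.val * ((1 + A.val) * (1 - B.val)) = (1 + B.val) * (1 - A.val * B.val) * C.val := by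
        have k1 : C.val * A.val = B.val * C.val := by rw [← Units.val_mul, hCA, Units.val_mul]
        have k2 : C.val * B.val = A.val * B.val * C.val := by rw [← Units.val_mul, hCB, Units.val_mul, Units.val_mul]
        rw [← mul_assoc, mul_add, mul_one, k1, ← one_add_mul, mul_assoc, mul_sub, mul_one, k2, ← one_sub_mul,
          ← mul_assoc]
      rw [h0, mul_zero] at e
      have e' := congrArg (· * (C⁻¹ : GL (Fin 3) F).val) e
      simpa [mul_assoc] using e'.symm
    have k : B.val * (A.val * B.val) = A.val := by rw [hAB', ← mul_assoc, hB', one_mul]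
    simp only [mul_sub, add_mul, mul_one, one_mul] at h0
    simp only [mul_sub, add_mul, mul_one, one_mul, k] at h1
    have hsum : (2 : F) • ((1 : Matrix (Fin 3) (Fin 3) F) - A.val * B.val) = 0 := by
      have h01 : (1 + A.val - (B.val + A.val * B.val)) + (1 + B.val - (A.val * B.val + A.val)) = 0 := by
        rw [h0, h1, add_zero]
      rw [← h01]
      module
    have hab : A.val * B.val = 1 := (sub_eq_zero.1 ((smul_eq_zero.1 hsum).resolve_left h2)).symm
    apply hne
    apply Units.ext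
    calc A.val = A.val * (B.val * B.val) := by rw [hB', mul_one]
      _ = B.val := by rw [← mul_assoc, hab, one_mul]
  set v := ((1 + A.val) * (1 - B.val)) *ᵥ x with hv
  have hAv : A.val *ᵥ v = v := by
    rw [hv, Matrix.mulVec_mulVec, ← mul_assoc, mul_add, mul_one, hA', add_comm]
  have hBv : B.val *ᵥ v = -v := by
    rw [hv, Matrix.mulVec_mulVec, ← mul_assoc, mul_add, mul_one, ← hAB', ← one_add_mul, mul_assoc, mul_sub, mul_one,
      hB', ← neg_sub (1 : Matrix (Fin 3) (Fin 3) F), mul_neg, Matrix.neg_mulVec]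
  set v₁ := C.val *ᵥ v with hv1
  set v₂ := C.val *ᵥ v₁ with hv2
  have cA : C.val * A.val = B.val * C.val := by rw [← Units.val_mul, hCA, Units.val_mul]
  have cB : C.val * B.val = A.val * B.val * C.val := by rw [← Units.val_mul, hCB, Units.val_mul, Units.val_mul]
  have stepB : ∀ y, B.val *ᵥ (C.val *ᵥ y) = C.val *ᵥ (A.val *ᵥ y) := fun y => by
    rw [Matrix.mulVec_mulVec, Matrix.mulVec_mulVec, cA]
  have stepA : ∀ y, A.val *ᵥ (C.val *ᵥ y) = C.val *ᵥ (A.val *ᵥ (B.val *ᵥ y)) := fun y => by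
    simp only [Matrix.mulVec_mulVec]
    congr 1
    rw [← mul_assoc, cA, mul_assoc, cB, ← mul_assoc, ← mul_assoc, ← hAB', mul_assoc A.val, hB', mul_one]
  have hAv1 : A.val *ᵥ v₁ = -v₁ := by rw [hv1, stepA, hBv, mulVec_neg, hAv, mulVec_neg]
  have hBv1 : B.val *ᵥ v₁ = v₁ := by rw [hv1, stepB, hAv]
  have hAv2 : A.val *ᵥ v₂ = -v₂ := by rw [hv2, stepA, hBv1, hAv1, mulVec_neg]
  have hBv2 : B.val *ᵥ v₂ = -v₂ := by rw [hv2, stepB, hAv1, mulVec_neg]
  have hC3' : C.val * C.val * C.val = 1 := by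
    show ((C * C * C : GL (Fin 3) F)).val = 1
    rw [hC3, Units.val_one]
  have hCv2 : C.val *ᵥ v₂ = v := by
    rw [hv2, hv1, Matrix.mulVec_mulVec, Matrix.mulVec_mulVec, hC3', Matrix.one_mulVec]
  have orth : ∀ {g : GL (Fin 3) F}, g ∈ Cfsg.GU 3 F 5 → ∀ {y y' : Fin 3 → F},
      g.val *ᵥ y = y → g.val *ᵥ y' = -y' → Cfsg.hermForm 3 F 5 y y' = 0 ∧ Cfsg.hermForm 3 F 5 y' y = 0 := by
    intro g hg y y' hy hy'
    have h := UnitPow.mem_GU.1 hg y y'
    rw [hy, hy', ← neg_one_smul F y', Unit.smul_right hf, map_neg, map_one] at h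
    have h0 : (2 : F) * Cfsg.hermForm 3 F 5 y y' = 0 := by linear_combination -h
    have h0' := (mul_eq_zero.1 h0).resolve_left h2
    exact ⟨h0', Unit.eq_zero_comm hf h0'⟩
  have hvne : v ≠ 0 := hx
  have hv1ne : v₁ ≠ 0 := gl_mulVec_ne_zero C hvne
  have hv2ne : v₂ ≠ 0 := gl_mulVec_ne_zero C hv1ne
  have hind : LinearIndependent F ![v, v₁, v₂] := by
    rw [Fintype.linearIndependent_iff]
    intro g hg
    simp only [Fin.sum_univ_three, Matrix.cons_val_zero, Matrix.cons_val_one, Matrix.cons_val] at hg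
    have kA := congrArg (A.val *ᵥ ·) hg
    have kB := congrArg (B.val *ᵥ ·) hg
    simp only [mulVec_add, mulVec_smul, hAv, hAv1, hAv2, hBv, hBv1, hBv2, Matrix.mulVec_zero, smul_neg] at kA kB
    have e0 : (2 * g 0) • v = 0 := by rw [← add_zero (0 : Fin 3 → F)]; nth_rewrite 1 [← kA]; rw [← hg]; module
    have e1 : (2 * g 1) • v₁ = 0 := by rw [← add_zero (0 : Fin 3 → F)]; nth_rewrite 1 [← kB]; rw [← hg]; module
    have g0 : g 0 = 0 := (mul_eq_zero.1 ((smul_eq_zero.1 e0).resolve_right hvne)).resolve_left h2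
    have g1 : g 1 = 0 := (mul_eq_zero.1 ((smul_eq_zero.1 e1).resolve_right hv1ne)).resolve_left h2
    rw [g0, g1, zero_smul, zero_smul, zero_add, zero_add] at hg
    intro i
    fin_cases i
    · exact g0
    · exact g1
    · exact (smul_eq_zero.1 hg).resolve_right hv2ne
  have hvv : Cfsg.hermForm 3 F 5 v v ≠ 0 := by
    intro h0
    obtain ⟨y, hy⟩ := (hf.nondegenerate v hvne).1
    apply hy
    have hspan : Submodule.span F (Set.range ![v, v₁, v₂]) = ⊤ := hind.span_eq_top_of_card_eq_finrank (by simp)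
    obtain ⟨c, hc⟩ := (Submodule.mem_span_range_iff_exists_fun F).1 (hspan ▸ Submodule.mem_top : y ∈ _)
    simp only [Fin.sum_univ_three, Matrix.cons_val_zero, Matrix.cons_val_one, Matrix.cons_val] at hc
    rw [← hc, Unit.add_left hf, Unit.add_left hf, Unit.smul_left hf, Unit.smul_left hf, Unit.smul_left hf, h0,
      (orth hA hAv hAv1).2, (orth hA hAv hAv2).2]
    ring
  obtain ⟨s, hs0, hs⟩ := exists_normalized hf hvv
  set e : Fin 3 → (Fin 3 → F) := ![s • v, s • v₁, s • v₂] with he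
  have iso := fun y y' => UnitPow.mem_GU.1 hC y y'
  have horth : ∀ i j, Cfsg.hermForm 3 F 5 (e i) (e j) = if i = j then 1 else 0 := by
    have h11 : Cfsg.hermForm 3 F 5 (s • v₁) (s • v₁) = 1 := by rw [hv1, ← mulVec_smul, iso, hs]
    have h22 : Cfsg.hermForm 3 F 5 (s • v₂) (s • v₂) = 1 := by rw [hv2, ← mulVec_smul, iso, h11]
    have o01 := orth hA hAv hAv1
    have o02 := orth hA hAv hAv2
    have o12 := orth hB hBv1 hBv2
    intro i j
    fin_cases i <;> fin_cases j <;>
      simp [he, hs, h11, h22, Unit.smul_left hf, Unit.smul_right hf, o01.1, o01.2, o02.1, o02.2, o12.1, o12.2] <;>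
      simpa [Unit.smul_left hf, Unit.smul_right hf] using (by assumption)
  obtain ⟨Q, hQ⟩ := exists_columns (orthonormal_independent hf horth)
  have hQU : Q ∈ Cfsg.GU 3 F 5 := UnitPow.mem_GU.2 fun x y => by
    rw [hQ, hQ, (Unit.sesq hf).sum_left]
    simp only [(Unit.sesq hf).sum_right, (Unit.sesq hf).smul_left, (Unit.sesq hf).smul_right, horth]
    simp [Cfsg.hermForm, UnitPow.conj_apply]
  have coords : ∀ (g : GL (Fin 3) F) (M : Matrix (Fin 3) (Fin 3) F),
      (∀ y : Fin 3 → F, g.val *ᵥ (Q.val *ᵥ y) = Q.val *ᵥ (M *ᵥ y)) → (Q⁻¹ * g * Q).val = M := fun g M h =>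
    Matrix.ext_of_mulVec_single fun i => by
      rw [gl_mul_mulVec, gl_mul_mulVec, h, gl_inv_mulVec_mulVec]
  refine ⟨Q, hQU, coords _ _ fun y => ?_, coords _ _ fun y => ?_, coords _ _ fun y => ?_⟩ <;>
    simp only [hQ, Fin.sum_univ_three, mulVec_add, mulVec_smul, he, Matrix.cons_val_zero, Matrix.cons_val_one,
      Matrix.cons_val] <;>
    simp [hAv, hAv1, hAv2, hBv, hBv1, hBv2, hCv2, ← hv1, ← hv2, Matrix.mulVec, dotProduct, Fin.sum_univ_three] <;>
    try module

theorem swap_form (h2 : (2 : F) ≠ 0) {D : Matrix (Fin 3) (Fin 3) F} (hd : D.det = 1) (hD : D * D = 1)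
    (hA : D * !![1, 0, 0; 0, -1, 0; 0, 0, -1] = !![-1, 0, 0; 0, 1, 0; 0, 0, -1] * D)
    (hB : D * !![-1, 0, 0; 0, 1, 0; 0, 0, -1] = !![1, 0, 0; 0, -1, 0; 0, 0, -1] * D)
    (hC : !![0, 0, 1; 1, 0, 0; 0, 1, 0] * D * !![0, 0, 1; 1, 0, 0; 0, 1, 0] = D) :
    D = !![0, -1, 0; -1, 0, 0; 0, 0, -1] := by
  have h := fun i j => congrFun (congrFun hA i) j
  have h' := fun i j => congrFun (congrFun hB i) j
  have z : ∀ x : F, x = -x → x = 0 := fun x hx =>
    (mul_eq_zero.1 (show 2 * x = 0 by linear_combination hx)).resolve_left h2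
  have z00 : D 0 0 = 0 := by
    have e := h 0 0
    simp [Matrix.mul_apply, Fin.sum_univ_three] at e
    exact z _ (by first | exact e | exact e.symm)
  have z02 : D 0 2 = 0 := by
    have e := h' 0 2
    simp [Matrix.mul_apply, Fin.sum_univ_three] at e
    exact z _ (by first | exact e | exact e.symm)
  have z11 : D 1 1 = 0 := by
    have e := h 1 1
    simp [Matrix.mul_apply, Fin.sum_univ_three] at e
    exact z _ (by first | exact e | exact e.symm)
  have z12 : D 1 2 = 0 := by
    have e := h 1 2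
    simp [Matrix.mul_apply, Fin.sum_univ_three] at e
    exact z _ (by first | exact e | exact e.symm)
  have z20 : D 2 0 = 0 := by
    have e := h 2 0
    simp [Matrix.mul_apply, Fin.sum_univ_three] at e
    exact z _ (by first | exact e | exact e.symm)
  have z21 : D 2 1 = 0 := by
    have e := h' 2 1
    simp [Matrix.mul_apply, Fin.sum_univ_three] at e
    exact z _ (by first | exact e | exact e.symm)
  have c01 := congrFun (congrFun hC 0) 1
  have c10 := congrFun (congrFun hC 1) 0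
  simp [Matrix.mul_apply, Matrix.vecMul, dotProduct, Fin.sum_univ_three] at c01 c10
  have d01 := congrFun (congrFun hD 0) 0
  simp [Matrix.mul_apply, Fin.sum_univ_three, z00, z02] at d01
  rw [Matrix.det_fin_three, z00, z02, z11, z12, z20, z21] at hd
  have w : D 2 2 = -1 := by linear_combination -hd - D 2 2 * d01
  ext i j
  fin_cases i <;> fin_cases j <;> simp [z00, z02, z11, z12, z20, z21, w]
  · rw [← c01, w]
  · first | (rw [← c10, ← c01, w]) | linear_combination (norm := ring_nf) c10 - c01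

/-- The entries of the fourth generator. -/
theorem invol_form (h5 : (5 : F) = 0) {T : Matrix (Fin 3) (Fin 3) F} (hherm : ∀ i j, T j i = T i j ^ 5)
    (htr : T.trace = -1) (hTT : T * T = 1)
    (hTA : (T * !![1, 0, 0; 0, -1, 0; 0, 0, -1]).trace = 0)
    (hTB : (T * !![-1, 0, 0; 0, 1, 0; 0, 0, -1]).trace = 0)
    (hTC : (T * !![0, 0, 1; 1, 0, 0; 0, 1, 0]).trace = 0)
    (hTD : T * !![0, -1, 0; -1, 0, 0; 0, 0, -1] = !![0, -1, 0; -1, 0, 0; 0, 0, -1] * T) :
    ∃ b : F, b ^ 2 - 2 * b + 3 = 0 ∧ b ^ 5 = 2 - b ∧ T = !![2, 3, b; 3, 2, b; 2 - b, 2 - b, 0] := by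
  simp [Matrix.trace_fin_three, Matrix.mul_apply, Fin.sum_univ_three] at htr hTA hTB hTC
  have h2 : (2 : F) ≠ 0 := fun h => one_ne_zero (α := F) (by linear_combination h5 - 2 * h)
  have t00 : T 0 0 = 2 := mul_left_cancel₀ h2 (by linear_combination htr + hTA - h5)
  have t11 : T 1 1 = 2 := mul_left_cancel₀ h2 (by linear_combination htr + hTB - h5)
  have t22 : T 2 2 = 0 := by linear_combination htr - t00 - t11 - h5
  have d02 := congrFun (congrFun hTD 0) 2
  have d00 := congrFun (congrFun hTD 0) 0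
  simp [Matrix.mul_apply, Fin.sum_univ_three] at d02 d00
  have h12 : T 1 2 = T 0 2 := by linear_combination -d02
  have h10 : T 1 0 = T 0 1 := by linear_combination -d00
  have h20 : T 2 0 = T 0 2 ^ 5 := hherm 0 2
  have h21 : T 2 1 = T 0 2 ^ 5 := by rw [hherm 1 2, h12]
  have e22 := congrFun (congrFun hTT 2) 2
  have e02 := congrFun (congrFun hTT 0) 2
  simp [Matrix.mul_apply, Fin.sum_univ_three] at e22 e02
  rw [h20, h21, h12, t22] at e22
  rw [h12, t00, t22] at e02
  have hb0 : T 0 2 ≠ 0 := fun h => by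
    rw [h] at e22
    exact zero_ne_one (α := F) (by linear_combination e22)
  have t01 : T 0 1 = 3 := by
    apply mul_right_cancel₀ hb0
    linear_combination e02 - T 0 2 * h5
  have hbb : T 0 2 ^ 5 = 2 - T 0 2 := by
    have := hTC
    rw [t01, h12, h20] at this
    linear_combination this - h5
  refine ⟨T 0 2, ?_, hbb, ?_⟩
  · rw [hbb] at e22
    linear_combination 2 * e22 + (T 0 2 ^ 2 - 2 * T 0 2 + 1) * h5
  · ext i j
    fin_cases i <;> fin_cases j <;> simp [t00, t11, t22, t01, h10, h12, h20, h21, hbb]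

end Normal

end SevenFive

open SevenFive

/-- `PSL₃(2)` is no socle of a maximal subgroup of `SU₃(5)`. -/
theorem false_of_seven_five {F : Type*} [Field F] [Fintype F] (hF : Fintype.card F = 25)
    {H P : Subgroup (GL (Fin 3) F)} (hH : IsMaximalIn (Cfsg.GU 3 F 5 ⊓ specialLinear (Fin 3) F) H)
    (hP : IsResidualCore H P)
    (hT : Nonempty (Quot P ≃* Matrix.ProjectiveSpecialLinearGroup (Fin 3) (ZMod 2))) : False := by
  classical
  have hF' : Fintype.card F = 5 ^ 2 := hF.trans (by norm_num)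
  haveI : Fact (Nat.Prime 5) := ⟨by norm_num⟩
  haveI : CharP F 5 := by
    obtain ⟨p, hc⟩ := CharP.exists F
    have hp := CharP.char_is_prime F p
    have h0 : ((5 ^ 2 : ℕ) : F) = 0 := by rw [← hF']; exact FiniteField.cast_card_eq_zero F
    rwa [← (Nat.prime_dvd_prime_iff_eq hp (by norm_num)).1 (hp.dvd_of_dvd_pow ((CharP.cast_eq_zero_iff F p _).1 h0))]
  have h5 : (5 : F) = 0 := SevenFive.five_eq_zero
  have h2 : (2 : F) ≠ 0 := fun h => one_ne_zero (α := F) (by linear_combination h5 - 2 * h)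
  have hf := UnitPow.isUnitaryForm_hermForm hF' 3
  obtain ⟨h, -⟩ := hyp_of_residualCore hP
  have hPS : P ≤ Cfsg.GU 3 F 5 ⊓ specialLinear (Fin 3) F := hP.le.trans hH.1.le
  -- the group itself is `SL₃(2)`
  obtain ⟨e₀⟩ := hT
  have hcard : Nat.card (Quot P) = 168 := by rw [Nat.card_congr e₀.toEquiv]; exact card_l32
  have hinj := h.inj_of_card (by rw [hcard]; norm_num) (by rw [hcard]; norm_num)
  let e : P ≃* SL32 := ((equivQuot hinj).trans e₀).trans slEquiv.symm
  have hsimple : IsSimpleGroup SL32 := by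
    haveI := h.simple
    haveI : Nontrivial SL32 := ⟨ga, 1, fun hh => sl_ne.1 (by rw [hh]; rfl)⟩
    exact IsSimpleGroup.isSimpleGroup_of_surjective (((equivQuot hinj).symm.trans e).toMonoidHom)
      ((equivQuot hinj).symm.trans e).surjective
  let im : SL32 → GL (Fin 3) F := fun g => (e.symm g : GL (Fin 3) F)
  have him : ∀ g k, im (g * k) = im g * im k := fun g k => by simp [im]
  have him1 : im 1 = 1 := by simp [im]
  have iminj : Function.Injective im := fun g k hgk => e.symm.injective (Subtype.ext hgk)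
  have imP : ∀ g, im g ∈ P := fun g => (e.symm g).2
  have noscal : ∀ g, im g ∈ scalars (Fin 3) F → g = 1 := fun g hg => by
    apply e.symm.injective
    rw [map_one]
    apply hinj
    rw [map_one]
    exact toQuot_eq_one.2 hg
  obtain ⟨hA2, hB2, hAB, hC3, hCA, hCB, hD2, hDA, hDB, hCDC, hT2, hTD, hTA, hTB, hTC⟩ := sl_relations
  obtain ⟨na, -, nab, nt, nta, ntb, ntc, -, -, -⟩ := sl_ne
  have imne : ∀ {g k : SL32}, g.1 ≠ k.1 → im g ≠ im k := fun hgk hh => hgk (congrArg Subtype.val (iminj hh))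
  obtain ⟨Q, hQ, vA, vB, vC⟩ := exists_frame hF' h2 (hPS (imP ga)).1 (hPS (imP gb)).1 (hPS (imP gc)).1
    (by rw [← him, hA2, him1]) (by rw [← him, hB2, him1]) (by rw [← him, ← him, hAB]) (imne nab)
    (by rw [← him, ← him, hC3, him1]) (by rw [← him, ← him, hCA]) (by rw [← him, ← him, ← him, hCB])
  -- coordinates
  let co : SL32 → GL (Fin 3) F := fun g => Q⁻¹ * im g * Q
  have hco : ∀ g k, (co (g * k)).val = (co g).val * (co k).val := fun g k => by
    rw [← Units.val_mul]; simp only [co, him]; congr 1; group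
  have hco1 : (co 1).val = 1 := by simp only [co, him1, mul_one, inv_mul_cancel, Units.val_one]
  have hcoS : ∀ g, co g ∈ Cfsg.GU 3 F 5 ∧ (co g).val.det = 1 := fun g => by
    refine ⟨Subgroup.mul_mem _ (Subgroup.mul_mem _ (Subgroup.inv_mem _ hQ) (hPS (imP g)).1) hQ, ?_⟩
    have := mem_specialLinear.1 (hPS (imP g)).2
    rw [show (co g).val = (Q⁻¹ : GL (Fin 3) F).val * (im g).val * Q.val by simp [co], Matrix.det_mul, Matrix.det_mul,
      this, mul_one, ← Matrix.det_mul, Units.inv_mul, Matrix.det_one]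
  have coscal : ∀ g (c : F), (co g).val = c • (1 : Matrix (Fin 3) (Fin 3) F) → g = 1 := fun g c hg => by
    have hc : c ≠ 0 := fun hc => (co g).ne_zero (by rw [hg, hc, zero_smul])
    refine noscal g ((mem_scalars_iff _).2 ⟨Units.mk0 c hc, ?_⟩)
    have e1 : im g = Q * co g * Q⁻¹ := by simp only [co]; group
    rw [e1, Units.val_mul, Units.val_mul, hg, Matrix.mul_smul, Matrix.smul_mul, mul_one, Units.mul_inv, Units.val_mk0]
  have ord3 : ∀ g : SL32, g.1 ≠ 1 → g * g * g = 1 → (co g).val.trace = 0 := fun g hg hg3 =>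
    trace_order_three (hcoS g).2 (by rw [← hco, ← hco, hg3, hco1]) fun c hc =>
      hg (by rw [coscal g c hc]; rfl)
  have vD : (co gd).val = !![0, -1, 0; -1, 0, 0; 0, 0, -1] := by
    refine swap_form h2 (hcoS gd).2 (by rw [← hco, hD2, hco1]) ?_ ?_ ?_
    · rw [← vA, ← vB, ← hco, hDA, hco]
    · rw [← vA, ← vB, ← hco, hDB, hco]
    · rw [← vC, ← hco, ← hco, hCDC]
  obtain ⟨b, hb, hb5, vT⟩ : ∃ b : F, b ^ 2 - 2 * b + 3 = 0 ∧ b ^ 5 = 2 - b ∧
      (co gt).val = !![2, 3, b; 3, 2, b; 2 - b, 2 - b, 0] := by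
    have hTT : (co gt).val * (co gt).val = 1 := by rw [← hco, hT2, hco1]
    refine invol_form h5 (fun i j => ?_) (trace_involution h2 (hcoS gt).2 hTT fun hh => ?_) hTT ?_ ?_ ?_ ?_
    · have hiso := UnitPow.mem_GU.1 (hcoS gt).1 (Pi.single i 1) ((co gt).val *ᵥ Pi.single j 1)
      rw [Matrix.mulVec_mulVec, hTT, Matrix.one_mulVec] at hiso
      simp [Cfsg.hermForm, Matrix.mulVec_single, Fin.sum_univ_three, Pi.single_apply] at hiso
      fin_cases i <;> fin_cases j <;> simp at hiso ⊢ <;> exact hiso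
    · exact nt (by rw [coscal gt 1 (by rw [hh, one_smul])]; rfl)
    · rw [← vA, ← hco]; exact ord3 _ nta hTA
    · rw [← vB, ← hco]; exact ord3 _ ntb hTB
    · rw [← vC, ← hco]; exact ord3 _ ntc hTC
    · rw [← vD, ← hco, hTD, hco]
  -- the configuration
  have hb0 : b ≠ 0 := fun h0 => by
    rw [h0] at hb
    exact one_ne_zero (α := F) (by linear_combination 2 * hb - h5)
  set z := b⁻¹ with hzd
  have hzb : z * b = 1 := inv_mul_cancel₀ hb0
  have hz : Root5 z := ⟨by
    linear_combination 2 * z ^ 2 * hb - 2 * (z * b + 1 - 2 * z) * hzb - (z ^ 2 - z) * h5⟩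
  have hbz : b = 2 + 2 * z := by
    linear_combination (2 + 2 * z) * hzb - 2 * b * hz.eq + b * h5
  have mval : ∀ (m : M5) (M : Matrix (Fin 3) (Fin 3) F), (∀ i j, toMat z m i j = M i j) → M = toMat z m :=
    fun m M hm => (Matrix.ext hm).symm
  have four : (4 : F) = -1 := by linear_combination h5
  have cA : co ga ∈ configStab z := mem_configStab hz (vA.trans (mval signA _ fun i j => by
    fin_cases i <;> fin_cases j <;> simp [toMat, toVec, toF, signA, four])) signA_ok
  have cC : co gc ∈ configStab z := mem_configStab hz (vC.trans (mval shiftK _ fun i j => by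
    fin_cases i <;> fin_cases j <;> simp [toMat, toVec, toF, shiftK])) shiftK_ok
  have cD : co gd ∈ configStab z := mem_configStab hz (vD.trans (mval swapD _ fun i j => by
    fin_cases i <;> fin_cases j <;> simp [toMat, toVec, toF, swapD, four])) swapD_ok
  have cT : co gt ∈ configStab z := mem_configStab hz (vT.trans (mval invoT _ fun i j => by
    fin_cases i <;> fin_cases j <;> simp [toMat, toVec, toF, invoT, hbz] <;>
      linear_combination z * h5)) invoT_ok
  set Ω := Cfsg.GU 3 F 5 ⊓ specialLinear (Fin 3) F with hΩ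
  set M := (configStab z).map (conjMap Q) with hM
  have hmemM : ∀ g, g ∈ M ↔ Q⁻¹ * g * Q ∈ configStab z := fun g => mem_map_conjMap
  have hPM : P ≤ M := by
    let φ : SL32 →* GL (Fin 3) F := { toFun := co, map_one' := Units.ext hco1, map_mul' := fun g k => Units.ext (hco g k) }
    have htop := eq_top_of_mem (X := (configStab z).comap φ) cA cC cD cT hsimple
    intro x hx
    rw [hmemM]
    have hmem : e ⟨x, hx⟩ ∈ (configStab z).comap φ := htop ▸ Subgroup.mem_top _
    have e1 : co (e ⟨x, hx⟩) = Q⁻¹ * x * Q := by simp [co, im]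
    rw [← e1]; exact hmem
  have hscal : ∀ g ∈ scalars (Fin 3) F, g ∈ M := by
    intro g hg
    rw [hmemM, show Q⁻¹ * g * Q = g by rw [mul_assoc, scalars_comm hg Q, inv_mul_cancel_left]]
    obtain ⟨c, hc⟩ := (mem_scalars_iff _).1 hg
    exact scalar_mem_configStab c.ne_zero fun u => by rw [hc, Matrix.smul_mulVec, Matrix.one_mulVec]
  -- the elements of `H` act on `P` as inner automorphisms
  have hdec : ∀ g ∈ H, ∃ p ∈ P, p⁻¹ * g ∈ scalars (Fin 3) F := by
    intro g hg
    let cg : P ≃* P :=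
      { toFun := fun x => ⟨g * x * g⁻¹, hP.normal _ hg _ x.2⟩
        invFun := fun x => ⟨g⁻¹ * x * g, by
          have := hP.normal _ (H.inv_mem hg) _ x.2
          rwa [inv_inv] at this⟩
        left_inv := fun x => Subtype.ext (by simp [mul_assoc])
        right_inv := fun x => Subtype.ext (by simp [mul_assoc])
        map_mul' := fun x y => Subtype.ext (by simp [mul_assoc]) }
    set φ : MulAut SL32 := (e.symm.trans cg).trans e with hφ
    have hφim : ∀ k, im (φ k) = g * im k * g⁻¹ := fun k => by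
      simp [im, hφ, cg]
    -- the outer class changes the trace of an element of order seven
    have hτ : ∀ k, φ ≠ MulAut.conj k * transInv := by
      intro k hk
      set x := ga * gc * gt with hx
      have e1 : φ x = k * gg * x⁻¹ * (k * gg)⁻¹ := by
        rw [hk, MulAut.mul_apply]
        show MulAut.conj k (transInv x) = _
        rw [transInv_conj, MulAut.conj_apply, ← hx]
        clear_value x
        group
      have imi : ∀ y, im y⁻¹ = (im y)⁻¹ := fun y => by simp [im]
      have e2 : g * im x * g⁻¹ = im (k * gg) * (im x)⁻¹ * (im (k * gg))⁻¹ := by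
        rw [← hφim, e1, him, him, imi, imi]
      have e3 := congrArg (fun y : GL (Fin 3) F => y.val.trace) e2
      simp only [Units.val_mul, Matrix.trace_units_conj] at e3
      have hcx : ∀ y, (co y).val.trace = (im y).val.trace := fun y => by
        simp only [co, Units.val_mul, Matrix.trace_units_conj']
      have e4 : (co x).val.trace = (co x⁻¹).val.trace := by rw [hcx, hcx, e3, imi]
      have hxi : x⁻¹ = gt * (gc * gc) * ga := by
        apply inv_eq_of_mul_eq_one_right
        have hca : gc * (gc * gc) = 1 := by rw [← mul_assoc, hC3]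
        simp only [hx, mul_assoc]
        rw [← mul_assoc gt gt, hT2, one_mul, ← mul_assoc gc gc ga, ← mul_assoc gc (gc * gc) ga, hca, one_mul, hA2]
      rw [hxi, hx] at e4
      simp only [hco] at e4
      rw [vT, show (co gc).val = _ from vC, show (co ga).val = _ from vA] at e4
      simp [Matrix.trace_fin_three, Matrix.mul_apply, Fin.sum_univ_three] at e4
      have hb1 : b = 1 := mul_left_cancel₀ (mul_ne_zero h2 h2) (by first | linear_combination e4 | linear_combination -e4)
      rw [hb1] at hb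
      exact h2 (by linear_combination hb)
    have hinner : ∃ k, φ = MulAut.conj k := (inner_or φ).resolve_right fun ⟨k, hk⟩ => hτ k hk
    obtain ⟨k, hk⟩ := hinner
    refine ⟨im k, imP k, hP.centralizer_scalar _ (H.mul_mem (H.inv_mem (hP.le (imP k))) hg) fun x hx => ?_⟩
    have h1 := hφim (e ⟨x, hx⟩)
    rw [hk, MulAut.conj_apply, him, him] at h1
    have imi : im k⁻¹ = (im k)⁻¹ := by simp [im]
    have imx : im (e ⟨x, hx⟩) = x := by simp [im]
    rw [imi, imx] at h1
    have h2' : (im k)⁻¹ * g * x * ((im k)⁻¹ * g)⁻¹ = x := by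
      calc (im k)⁻¹ * g * x * ((im k)⁻¹ * g)⁻¹ = (im k)⁻¹ * (g * x * g⁻¹) * im k := by group
        _ = x := by rw [← h1]; group
    rw [h2', mul_inv_cancel]
    exact one_mem _
  have hHM : H ≤ M ⊓ Ω := fun g hg => ⟨by
    obtain ⟨p, hp, hs⟩ := hdec g hg
    have := M.mul_mem (hPM hp) (hscal _ hs)
    rwa [mul_inv_cancel_left] at this, hH.1.le hg⟩
  rcases hH.2 _ hHM inf_le_right with hMH | hMΩ
  · -- the cube roots of unity on the diagonal are not in `H`
    set w : F := 1 + 3 * z with hw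
    have hw3 : w ^ 3 = 1 := by
      rw [hw]; linear_combination (27 * z) * hz.eq + (-9 * z) * h5
    have hw1 : w ≠ 1 := fun hh => by
      have h3z : (3 : F) * z = 0 := by rw [hw] at hh; linear_combination hh
      rcases mul_eq_zero.1 h3z with h3 | h3
      · exact one_ne_zero (α := F) (by linear_combination 2 * h3 - h5)
      · exact inv_ne_zero hb0 h3
    have hw0 : w ≠ 0 := fun hh => by rw [hh] at hw3; simp at hw3
    set u : Fˣ := Units.mk0 w hw0
    have hu : CubeRoot u := ⟨hw3, hw1⟩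
    have hw6 : w ^ 6 = 1 := by rw [show 6 = 3 * 2 from rfl, pow_mul, hw3, one_pow]
    have hcl : clock u ∈ configStab z := mem_configStab hz (mval clockK (clock u).val fun i j => by
      rw [clock, dg_val]
      fin_cases i <;> fin_cases j <;> simp [toMat, toVec, toF, clockK, u, hw]
      linear_combination -(9 : F) * hz.eq + (4 : F) * h5 + z * h5) clockK_ok
    have hclU : clock u ∈ Ω := by
      refine ⟨(mem_GU_iff_isometry hF').2 fun x y => ?_, mem_specialLinear.2 ?_⟩
      · simp only [stdHerm, clock, dg_mulVec, Fin.sum_univ_three, map_mul, UnitPow.conj_apply]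
        simp [u]
        linear_combination (x 1 * y 1 ^ 5) * hw6 + (x 2 * y 2 ^ 5 * (w ^ 6 + 1)) * hw6
      · rw [clock, dg_det]; simp [u]; linear_combination hw3
    have mem : ∀ g, g ∈ configStab z → g ∈ Ω → Q * g * Q⁻¹ ∈ H := fun g hg hg' => by
      rw [← hMH]
      refine ⟨⟨g, hg, rfl⟩, Subgroup.mul_mem _ (Subgroup.mul_mem _ hQ hg'.1) (Subgroup.inv_mem _ hQ), ?_⟩
      exact (MonoidHom.normal_ker _ : (specialLinear (Fin 3) F).Normal).conj_mem g hg'.2 Q
    have hsh : shift F = co gc := Units.ext (by rw [shift_val, vC]; rfl)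
    obtain ⟨p, hp, hps⟩ := hdec _ (mem _ hcl hclU)
    obtain ⟨r, hr, hrs⟩ := hdec _ (mem _ (hsh ▸ cC) ⟨(hsh ▸ hcoS gc).1, shift_mem_specialLinear⟩)
    set X := Q * clock u * Q⁻¹
    set Y := Q * shift F * Q⁻¹
    have hc : X * Y * X⁻¹ * Y⁻¹ = omega u := by
      calc X * Y * X⁻¹ * Y⁻¹ = Q * (clock u * shift F * (shift F * clock u)⁻¹) * Q⁻¹ := by simp only [X, Y]; group
        _ = Q * omega u * Q⁻¹ := by rw [shift_clock hu, mul_inv_cancel_right]
        _ = omega u := by rw [← scalars_comm (omega_mem u) Q, mul_inv_cancel_right]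
    have hc' : X * Y * X⁻¹ * Y⁻¹ ∈ P := by
      have hX : X = p * (p⁻¹ * X) := (mul_inv_cancel_left _ _).symm
      have hY : Y = r * (r⁻¹ * Y) := (mul_inv_cancel_left _ _).symm
      have k1 := fun y => scalars_comm hps y
      have k2 := fun y => scalars_comm hrs y
      have : X * Y * X⁻¹ * Y⁻¹ = p * r * p⁻¹ * r⁻¹ := by
        conv_lhs => rw [hX, hY]
        generalize p⁻¹ * X = s at k1 ⊢
        generalize r⁻¹ * Y = t at k2 ⊢
        calc p * s * (r * t) * (p * s)⁻¹ * (r * t)⁻¹ = p * (s * (r * t)) * s⁻¹ * p⁻¹ * t⁻¹ * r⁻¹ := by group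
          _ = p * r * (t * p⁻¹) * t⁻¹ * r⁻¹ := by rw [k1 (r * t)]; group
          _ = p * r * p⁻¹ * r⁻¹ := by rw [k2 p⁻¹]; group
      rw [this]
      exact P.mul_mem (P.mul_mem (P.mul_mem hp hr) (P.inv_mem hp)) (P.inv_mem hr)
    rw [hc] at hc'
    have h1 : (⟨omega u, hc'⟩ : P) = 1 := hinj (by rw [map_one]; exact toQuot_eq_one.2 (omega_mem u))
    have h00 := congrArg (fun y : P => (y : GL (Fin 3) F).val 0 0) h1
    simp [omega, dg_val, u] at h00
    exact hw1 h00
  · -- an explicit element moving the configuration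
    set R : Matrix (Fin 3) (Fin 3) F := !![z, 2, 0; -2, -1 - z, 0; 0, 0, 1] with hR
    have hRdet : R.det = 1 := by
      rw [Matrix.det_fin_three]; simp [hR]; linear_combination -hz.eq + h5
    let g : GL (Fin 3) F := Matrix.GeneralLinearGroup.mkOfDetNeZero R (by rw [hRdet]; exact one_ne_zero)
    have hz5 : z ^ 5 = -1 - z := by
      rw [hzd, inv_pow, hb5, ← hzd]
      apply inv_eq_of_mul_eq_one_right
      linear_combination hbz + hzb
    have hgU : g ∈ Cfsg.GU 3 F 5 := (mem_GU_iff_isometry hF').2 fun x y => by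
      set σ := UnitPow.conj hF'
      have s2 : σ (2 : F) = 2 := map_ofNat σ 2
      have sz : σ z = -1 - z := hz5
      show stdHerm σ (R *ᵥ x) (R *ᵥ y) = _
      simp [stdHerm, hR, Matrix.mulVec, dotProduct, Fin.sum_univ_three, map_add, map_mul, map_sub, map_neg, s2, sz]
      linear_combination (x 0 * σ (y 0) + x 1 * σ (y 1)) * (-hz.eq + h5)
    have hgM : Q * g * Q⁻¹ ∈ M ⊓ Ω := by
      rw [hMΩ]
      exact ⟨Subgroup.mul_mem _ (Subgroup.mul_mem _ hQ hgU) (Subgroup.inv_mem _ hQ),
        (MonoidHom.normal_ker _ : (specialLinear (Fin 3) F).Normal).conj_mem g (mem_specialLinear.2 hRdet) Q⟩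
    have hgc := (hmemM _).1 hgM.1
    rw [show Q⁻¹ * (Q * g * Q⁻¹) * Q = g by group] at hgc
    refine moved_notMem hz ?_
    have := (hgc (Pi.single 0 1)).1 (e_zero_mem (z := z))
    have e : g.val *ᵥ (Pi.single 0 1 : Fin 3 → F) = toVec z moved := by
      show R *ᵥ _ = _
      funext i
      fin_cases i <;> simp [hR, toVec, toF, moved, Matrix.mulVec, dotProduct, Fin.sum_univ_three]
      linear_combination -h5
    rwa [e] at this

end CfsgLib.Mitchell
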