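import Cfsg.Agent.Lib.Mitchell.Homology

/-!
The action of the centraliser of a reflection on its axis, and facts on two by two matrices.
-/

set_option autoImplicit false
set_option linter.unusedSectionVars false

namespace CfsgLib.Mitchell

open Cfsg Cfsg.Geo Matrix CfsgLib.Geo.Asch CfsgLib.GeomClasses
open scoped MatrixGroups

variable {F : Type*} [Field F]

/-- The elements of `P` commuting with a reflection. -/
noncomputable def reflCen (P : Subgroup (GL (Fin 3) F)) (u φ : Fin 3 → F) : Subgroup (GL (Fin 3) F) :=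
  P ⊓ Subgroup.centralizer {refl u φ}

theorem mem_reflCen {P : Subgroup (GL (Fin 3) F)} {u φ : Fin 3 → F} {g : GL (Fin 3) F} :
    g ∈ reflCen P u φ ↔ g ∈ P ∧ g * refl u φ = refl u φ * g :=
  and_congr_right fun _ => by simp [Subgroup.mem_centralizer_singleton_iff, eq_comm]

/-- A description of the centraliser of a reflection on the centre and on the axis. -/
structure AxisRep (P : Subgroup (GL (Fin 3) F)) (u φ : Fin 3 → F) where
  ρ : reflCen P u φ →* GL (Fin 2) F
  α : reflCen P u φ →* Fˣ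
  centre : ∀ c : reflCen P u φ, ((c : GL (Fin 3) F) : Matrix (Fin 3) (Fin 3) F) *ᵥ u = (α c : F) • u
  det : ∀ c : reflCen P u φ, ((c : GL (Fin 3) F) : Matrix (Fin 3) (Fin 3) F).det =
    (α c : F) * (ρ c : Matrix (Fin 2) (Fin 2) F).det
  axis : ∀ (c : reflCen P u φ) (s : F), (ρ c : Matrix (Fin 2) (Fin 2) F) = s • (1 : Matrix (Fin 2) (Fin 2) F) ↔
    ∀ x, φ ⬝ᵥ x = 0 → ((c : GL (Fin 3) F) : Matrix (Fin 3) (Fin 3) F) *ᵥ x = s • x
  eigen : ∀ (c : reflCen P u φ) (x : Fin 3 → F) (b : F), φ ⬝ᵥ x = 0 → x ≠ 0 →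
    ((c : GL (Fin 3) F) : Matrix (Fin 3) (Fin 3) F) *ᵥ x = b • x →
    ((ρ c : Matrix (Fin 2) (Fin 2) F) - b • (1 : Matrix (Fin 2) (Fin 2) F)).det = 0

theorem exists_axisRep (h2 : (2 : F) ≠ 0) {P : Subgroup (GL (Fin 3) F)} {u φ : Fin 3 → F}
    (hu : φ ⬝ᵥ u = 1) : Nonempty (AxisRep P u φ) := by
  classical
  obtain ⟨e1, he1, hφ1, -⟩ := exists_common_zero φ φ
  obtain ⟨i, hi⟩ := Function.ne_iff.1 he1
  set χ : Fin 3 → F := Pi.single i (e1 i)⁻¹ with hχ
  have hχ1 : χ ⬝ᵥ e1 = 1 := by rw [hχ, single_dotProduct]; exact inv_mul_cancel₀ hi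
  obtain ⟨e2, he2, hφ2, hχ2⟩ := exists_common_zero φ χ
  set Bm : Matrix (Fin 3) (Fin 3) F := Matrix.of fun i j => (![u, e1, e2] : Fin 3 → Fin 3 → F) j i with hBm
  have hBmul : ∀ z : Fin 3 → F, Bm *ᵥ z = z 0 • u + z 1 • e1 + z 2 • e2 := fun z => by
    funext i
    simp [hBm, Matrix.mulVec, dotProduct, Fin.sum_univ_three]
    ring
  have hz0 : ∀ z : Fin 3 → F, φ ⬝ᵥ (Bm *ᵥ z) = z 0 := fun z => by
    simp [hBmul, dotProduct_add, dotProduct_smul, hu, hφ1, hφ2]
  have hBu : IsUnit Bm := by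
    rw [← Matrix.mulVec_injective_iff_isUnit]
    intro c c' hcc
    rw [← sub_eq_zero]
    set d := c - c' with hd
    have hB0 : Bm *ᵥ d = 0 := by rw [hd, Matrix.mulVec_sub, hcc, sub_self]
    have h0 : d 0 = 0 := by rw [← hz0 d, hB0, dotProduct_zero]
    rw [hBmul, h0, zero_smul, zero_add] at hB0
    have h1 : d 1 = 0 := by
      have e := congrArg (χ ⬝ᵥ ·) hB0
      simpa [dotProduct_add, dotProduct_smul, hχ1, hχ2] using e
    rw [h1, zero_smul, zero_add, smul_eq_zero] at hB0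
    funext j
    fin_cases j
    · exact h0
    · exact h1
    · exact hB0.resolve_right he2
  set Bi := Bm⁻¹ with hBi
  have hdBm := (Matrix.isUnit_iff_isUnit_det _).1 hBu
  have hBB : Bm * Bi = 1 := Matrix.mul_nonsing_inv _ hdBm
  have hBB' : Bi * Bm = 1 := Matrix.nonsing_inv_mul _ hdBm
  let B : GL (Fin 3) F := ⟨Bm, Bi, hBB, hBB'⟩
  let cf : GL (Fin 3) F →* GL (Fin 3) F := (MulAut.conj B⁻¹).toMonoidHom
  have cfv : ∀ g : GL (Fin 3) F, (cf g : Matrix (Fin 3) (Fin 3) F) =
      Bi * (g : Matrix (Fin 3) (Fin 3) F) * Bm := fun g => by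
    simp [cf, MulAut.conj_apply, B]
  have hconj : ∀ (g : GL (Fin 3) F) (z : Fin 3 → F),
      Bm *ᵥ ((cf g : Matrix (Fin 3) (Fin 3) F) *ᵥ z) = (g : Matrix (Fin 3) (Fin 3) F) *ᵥ (Bm *ᵥ z) :=
    fun g z => by simp only [cfv, Matrix.mulVec_mulVec, ← mul_assoc, hBB, one_mul]
  have hBinj : Function.Injective fun z : Fin 3 → F => Bm *ᵥ z :=
    Matrix.mulVec_injective_iff_isUnit.2 hBu
  choose a ha0 hau haφ using fun c : reflCen P u φ =>
    eigen_of_commute_refl h2 hu (mem_reflCen.1 c.2).2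
  -- the block shape
  have hblk : ∀ c : reflCen P u φ,
      (cf c : Matrix (Fin 3) (Fin 3) F) 0 0 = a c ∧ (cf c : Matrix (Fin 3) (Fin 3) F) 1 0 = 0 ∧
      (cf c : Matrix (Fin 3) (Fin 3) F) 2 0 = 0 ∧ (cf c : Matrix (Fin 3) (Fin 3) F) 0 1 = 0 ∧
      (cf c : Matrix (Fin 3) (Fin 3) F) 0 2 = 0 := by
    intro c
    have hcol : (cf c : Matrix (Fin 3) (Fin 3) F) *ᵥ Pi.single 0 1 = a c • Pi.single 0 1 := by
      refine hBinj ?_
      simp only [hconj, Matrix.mulVec_smul]
      rw [show Bm *ᵥ Pi.single 0 1 = u by simp [hBmul], hau]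
    have hrow : ∀ z, ((cf c : Matrix (Fin 3) (Fin 3) F) *ᵥ z) 0 = a c * z 0 := fun z => by
      rw [← hz0 ((cf c : Matrix (Fin 3) (Fin 3) F) *ᵥ z), hconj, dotProduct_mulVec, haφ, smul_dotProduct, hz0, smul_eq_mul]
    have c0 := congrFun hcol 0
    have c1 := congrFun hcol 1
    have c2 := congrFun hcol 2
    have r1 := hrow (Pi.single 1 1)
    have r2 := hrow (Pi.single 2 1)
    simp [Matrix.mulVec_single_one] at c0 c1 c2 r1 r2
    exact ⟨c0, c1, c2, r1, r2⟩
  let top : Matrix (Fin 3) (Fin 3) F → Matrix (Fin 2) (Fin 2) F := fun X => !![X 1 1, X 1 2; X 2 1, X 2 2]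
  let ρ : reflCen P u φ →* GL (Fin 2) F := MonoidHom.toHomUnits
    { toFun := fun c => top (cf c : Matrix (Fin 3) (Fin 3) F)
      map_one' := by
        simp [top]
        ext i j
        fin_cases i <;> fin_cases j <;> simp
      map_mul' := fun c c' => by
        obtain ⟨-, a1, a2, -, -⟩ := hblk c
        show top (cf ((c : GL (Fin 3) F) * c') : Matrix (Fin 3) (Fin 3) F) = _
        rw [map_mul, Units.val_mul]
        ext i j
        fin_cases i <;> fin_cases j <;>
          simp [top, Matrix.mul_apply, Fin.sum_univ_three, a1, a2] }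
  have ρv : ∀ c, (ρ c : Matrix (Fin 2) (Fin 2) F) = top (cf c : Matrix (Fin 3) (Fin 3) F) := fun _ => rfl
  let α : reflCen P u φ →* Fˣ := MonoidHom.toHomUnits
    { toFun := fun c => (cf c : Matrix (Fin 3) (Fin 3) F) 0 0
      map_one' := by simp
      map_mul' := fun c c' => by
        obtain ⟨-, -, -, a3, a4⟩ := hblk c
        show (cf ((c : GL (Fin 3) F) * c') : Matrix (Fin 3) (Fin 3) F) 0 0 = _
        rw [map_mul, Units.val_mul]
        simp [Matrix.mul_apply, Fin.sum_univ_three, a3, a4] }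
  have αv : ∀ c, (α c : F) = a c := fun c => (hblk c).1
  have hcfmul : ∀ (c : reflCen P u φ) (z : Fin 3 → F), z 0 = 0 →
      (cf c : Matrix (Fin 3) (Fin 3) F) *ᵥ z =
        ![0, ((ρ c : Matrix (Fin 2) (Fin 2) F) *ᵥ ![z 1, z 2]) 0,
          ((ρ c : Matrix (Fin 2) (Fin 2) F) *ᵥ ![z 1, z 2]) 1] := by
    intro c z hz
    obtain ⟨-, -, -, a3, a4⟩ := hblk c
    rw [ρv]
    funext j
    fin_cases j <;> simp [top, Matrix.mulVec, dotProduct, Fin.sum_univ_three, hz, a3, a4]
  have hBx : ∀ x, φ ⬝ᵥ x = 0 → ∃ z, z 0 = 0 ∧ Bm *ᵥ z = x := fun x hx => by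
    have e : Bm *ᵥ (Bi *ᵥ x) = x := by rw [Matrix.mulVec_mulVec, hBB, Matrix.one_mulVec]
    exact ⟨Bi *ᵥ x, by rw [← hz0 (Bi *ᵥ x), e, hx], e⟩
  refine ⟨⟨ρ, α, fun c => ?_, fun c => ?_, fun c s => ⟨fun hs x hx => ?_, fun hs => ?_⟩,
    fun c x b hx hx0 hxb => ?_⟩⟩
  · rw [αv, hau]
  · obtain ⟨a0, a1, a2, a3, a4⟩ := hblk c
    have : (cf c : Matrix (Fin 3) (Fin 3) F).det = ((c : GL (Fin 3) F) : Matrix (Fin 3) (Fin 3) F).det := by
      rw [cfv, Matrix.det_mul_right_comm, hBB', one_mul]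
    rw [← this, ρv, αv, Matrix.det_fin_three, Matrix.det_fin_two, a0, a1, a2, a3, a4]
    simp [top]
    ring
  · obtain ⟨z, hz, rfl⟩ := hBx x hx
    rw [← hconj, hcfmul c z hz, hs, ← Matrix.mulVec_smul]
    congr 1
    funext j
    fin_cases j <;> simp [hz, Matrix.smul_mulVec]
  · refine Matrix.ext_of_mulVec_single fun j => ?_
    set z : Fin 3 → F := ![0, (Pi.single j 1 : Fin 2 → F) 0, (Pi.single j 1 : Fin 2 → F) 1] with hz
    have e := hs (Bm *ᵥ z) (by rw [hz0]; simp [hz])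
    rw [← hconj, ← Matrix.mulVec_smul] at e
    have e' := hBinj e
    rw [hcfmul c z (by simp [hz])] at e'
    have e1' := congrFun e' 1
    have e2' := congrFun e' 2
    have hz' : ![z 1, z 2] = (Pi.single j 1 : Fin 2 → F) := by
      funext k; fin_cases k <;> simp [hz]
    rw [hz'] at e1' e2'
    rw [Matrix.smul_mulVec, Matrix.one_mulVec]
    funext k
    fin_cases k
    · simpa [hz] using e1'
    · simpa [hz] using e2'
  · obtain ⟨z, hz, rfl⟩ := hBx x hx
    rw [← hconj, ← Matrix.mulVec_smul] at hxb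
    have e' := hBinj hxb
    rw [hcfmul c z hz] at e'
    refine Matrix.exists_mulVec_eq_zero_iff.1 ⟨![z 1, z 2], fun e => hx0 ?_, ?_⟩
    · have q1 := congrFun e 0
      have q2 := congrFun e 1
      simp at q1 q2
      rw [hBmul, hz, q1, q2]
      simp
    · rw [Matrix.sub_mulVec, sub_eq_zero, Matrix.smul_mulVec, Matrix.one_mulVec]
      funext k
      have q1 := congrFun e' 1
      have q2 := congrFun e' 2
      fin_cases k
      · simpa using q1
      · simpa using q2

/-! ### Two by two matrices -/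

theorem cayley_two (M : Matrix (Fin 2) (Fin 2) F) :
    M * M = M.trace • M - M.det • (1 : Matrix (Fin 2) (Fin 2) F) := by
  ext i j
  fin_cases i <;> fin_cases j <;>
    simp [Matrix.mul_apply, Fin.sum_univ_two, Matrix.trace_fin_two, Matrix.det_fin_two] <;> ring

theorem det_sub_smul_two (M : Matrix (Fin 2) (Fin 2) F) (b : F) :
    (M - b • (1 : Matrix (Fin 2) (Fin 2) F)).det = b ^ 2 - b * M.trace + M.det := by
  simp [Matrix.trace_fin_two, Matrix.det_fin_two]
  ring

/-- A non-scalar matrix with scalar square has trace zero. -/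
theorem trace_zero_of_sq {M : Matrix (Fin 2) (Fin 2) F} {s : F}
    (hs : M * M = s • (1 : Matrix (Fin 2) (Fin 2) F))
    (hns : ∀ l : F, M ≠ l • (1 : Matrix (Fin 2) (Fin 2) F)) : M.trace = 0 := by
  by_contra ht
  refine hns (M.trace⁻¹ * (s + M.det)) ?_
  have e := cayley_two M
  rw [hs, eq_sub_iff_add_eq, ← add_smul] at e
  rw [← smul_smul, e, smul_smul, inv_mul_cancel₀ ht, one_smul]

/-- Commuting traceless matrices are proportional. -/
theorem proportional_of_traceless {M N : Matrix (Fin 2) (Fin 2) F} (h2 : (2 : F) ≠ 0) (hM : M.trace = 0)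
    (hN : N.trace = 0) (hM0 : M ≠ 0) (hc : M * N = N * M) : ∃ l : F, N = l • M := by
  rw [Matrix.trace_fin_two, add_eq_zero_iff_eq_neg'] at hM hN
  have q00 := congrFun (congrFun hc 0) 0
  have q01 := congrFun (congrFun hc 0) 1
  have q10 := congrFun (congrFun hc 1) 0
  simp [Matrix.mul_apply, Fin.sum_univ_two, hM, hN] at q00 q01 q10
  have k1 : M 0 0 * N 0 1 = N 0 0 * M 0 1 := mul_left_cancel₀ h2 (by linear_combination q01)
  have k2 : M 1 0 * N 0 0 = N 1 0 * M 0 0 := mul_left_cancel₀ h2 (by linear_combination q10)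
  have k3 : M 0 1 * N 1 0 = N 0 1 * M 1 0 := by linear_combination q00
  by_cases hy : M 0 1 = 0
  · by_cases hz : M 1 0 = 0
    · have hx : M 0 0 ≠ 0 := fun hx => hM0 (by
        ext i j; fin_cases i <;> fin_cases j <;> simp [hx, hy, hz, hM])
      have n01 : N 0 1 = 0 := (mul_eq_zero.1 (by rw [k1, hy, mul_zero] : M 0 0 * N 0 1 = 0)).resolve_left hx
      have n10 : N 1 0 = 0 := (mul_eq_zero.1 (by rw [← k2, hz, zero_mul] : N 1 0 * M 0 0 = 0)).resolve_right hx
      refine ⟨N 0 0 / M 0 0, ?_⟩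
      ext i j
      fin_cases i <;> fin_cases j <;> simp [hy, hz, hM, hN, n01, n10, hx]
    · refine ⟨N 1 0 / M 1 0, ?_⟩
      ext i j
      fin_cases i <;> fin_cases j <;> simp [hM, hN] <;> field_simp
      · linear_combination k2
      · linear_combination -k3
      · linear_combination k2
  · refine ⟨N 0 1 / M 0 1, ?_⟩
    ext i j
    fin_cases i <;> fin_cases j <;> simp [hM, hN] <;> field_simp
    · linear_combination -k1
    · linear_combination k3
    · linear_combination -k1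

/-- A matrix conjugate to a multiple of its inverse. -/
theorem twisted_cases {M M' : Matrix (Fin 2) (Fin 2) F} {a : F}
    (hmul : M' * M = a ^ 2 • (1 : Matrix (Fin 2) (Fin 2) F)) (htr : M'.trace = M.trace)
    (hdet : M'.det = M.det) :
    M.det = a ^ 2 ∨ M * M = a ^ 2 • (1 : Matrix (Fin 2) (Fin 2) F) := by
  have hD : (M.det - a ^ 2) * (M.det + a ^ 2) = 0 := by
    have h := congrArg Matrix.det hmul
    rw [Matrix.det_mul, hdet, Matrix.det_smul, Matrix.det_one, mul_one, Fintype.card_fin] at h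
    linear_combination h
  have ht : (M.det - a ^ 2) * M.trace = 0 := by
    have h := congrArg (fun X => (M' * X).trace) (cayley_two M)
    simp only [← mul_assoc, hmul, Matrix.smul_mul, one_mul, Matrix.mul_sub, Matrix.mul_smul, mul_one,
      Matrix.trace_smul, Matrix.trace_sub, htr, Matrix.trace_one, Fintype.card_fin, smul_eq_mul] at h
    push_cast at h
    linear_combination h
  rcases eq_or_ne M.det (a ^ 2) with e | e
  · exact Or.inl e
  refine Or.inr ?_
  have e' := sub_ne_zero.2 e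
  rw [cayley_two, (mul_eq_zero.1 ht).resolve_left e', zero_smul, zero_sub, ← neg_smul]
  congr 1
  linear_combination -((mul_eq_zero.1 hD).resolve_left e')

end CfsgLib.Mitchell
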