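import Cfsg.Agent.Lib.Mitchell.Dichotomy

/-!
Standing hypotheses: a perfect absolutely irreducible subgroup of `GL₃(F)`, simple modulo scalars.
-/

set_option autoImplicit false
set_option linter.unusedSectionVars false

namespace CfsgLib.Mitchell

open Cfsg Cfsg.Geo Matrix CfsgLib.Geo.Asch CfsgLib.GeomClasses
open scoped MatrixGroups commutatorElement

variable {F : Type*} [Field F]

/-- The group modulo its scalars. -/
abbrev Quot (P : Subgroup (GL (Fin 3) F)) : Type _ := P ⧸ (scalars (Fin 3) F).subgroupOf P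

/-- A perfect, absolutely irreducible group that is non-abelian simple modulo scalars. -/
structure Hyp (P : Subgroup (GL (Fin 3) F)) : Prop where
  perfect : ⁅P, P⁆ = P
  simple : IsSimpleGroup (Quot P)
  nonabelian : ¬ IsMulCommutative (Quot P)
  absIrred : ActsAbsolutelyIrreducibly (matrixSet P)

/-- `P` can be written over no proper subfield. -/
def NoSubfield (P : Subgroup (GL (Fin 3) F)) : Prop :=
  ∀ F₀ : Subfield F, F₀ ≠ ⊤ → ¬ RealisableOver F₀ (matrixSet P)

theorem hyp_of_residualCore {H P : Subgroup (GL (Fin 3) F)} (h : IsResidualCore H P) :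
    Hyp P ∧ NoSubfield P :=
  ⟨⟨h.perfect, h.simple, h.nonabelian, h.absIrred⟩, h.no_subfield⟩

variable {P : Subgroup (GL (Fin 3) F)}

theorem Hyp.irreducible (h : Hyp P) : ActsIrreducibly (matrixSet P) := h.absIrred.1

theorem Hyp.le_specialLinear (h : Hyp P) : P ≤ specialLinear (Fin 3) F := by
  conv_lhs => rw [← h.perfect]
  rw [Subgroup.commutator_le]
  intro x _ y _
  rw [specialLinear, MonoidHom.mem_ker, commutatorElement_def, map_mul, map_mul, map_mul, map_inv, map_inv]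
  rw [mul_comm (GeneralLinearGroup.det x), mul_inv_cancel_right, mul_inv_cancel]

theorem Hyp.det_eq_one (h : Hyp P) {g : GL (Fin 3) F} (hg : g ∈ P) :
    (g : Matrix (Fin 3) (Fin 3) F).det = 1 := mem_specialLinear.1 (h.le_specialLinear hg)

theorem Hyp.not_comm (h : Hyp P) : ¬ ∀ x ∈ P, ∀ y ∈ P, x * y = y * x := by
  intro hc
  refine h.nonabelian ⟨⟨fun a b => ?_⟩⟩
  obtain ⟨x, rfl⟩ := QuotientGroup.mk'_surjective _ a
  obtain ⟨y, rfl⟩ := QuotientGroup.mk'_surjective _ b
  rw [← map_mul, ← map_mul]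
  exact congrArg _ (Subtype.ext (hc _ x.2 _ y.2))

theorem Hyp.algOf_eq_top [Fintype F] (h : Hyp P) : algOf P = ⊤ :=
  algOf_eq_top_of_prime (by rw [Fintype.card_fin]; exact Nat.prime_three) h.irreducible h.not_comm

/-- A normal subgroup that is not scalar is everything. -/
theorem Hyp.normal_eq (h : Hyp P) {N : Subgroup (GL (Fin 3) F)} (hN : N ≤ P)
    (hn : ∀ g ∈ P, ∀ x ∈ N, g * x * g⁻¹ ∈ N) (hs : ¬ N ≤ scalars (Fin 3) F) : N = P := by
  have := h.simple
  have hnorm : (N.subgroupOf P).Normal := ⟨fun x hx g => by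
    rw [Subgroup.mem_subgroupOf] at hx ⊢
    exact hn _ g.2 _ hx⟩
  let π := QuotientGroup.mk' ((scalars (Fin 3) F).subgroupOf P)
  have hm : ((N.subgroupOf P).map π).Normal :=
    Subgroup.Normal.map hnorm π (QuotientGroup.mk'_surjective _)
  rcases IsSimpleGroup.eq_bot_or_eq_top_of_normal _ hm with e | e
  · exfalso
    refine hs fun x hx => ?_
    have : π ⟨x, hN hx⟩ ∈ (N.subgroupOf P).map π := ⟨⟨x, hN hx⟩, hx, rfl⟩
    rw [e, Subgroup.mem_bot] at this
    exact Subgroup.mem_subgroupOf.1 ((QuotientGroup.eq_one_iff _).1 this)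
  · refine le_antisymm hN ?_
    have key : ∀ g ∈ P, ∃ n ∈ N, ∃ z ∈ scalars (Fin 3) F, g = n * z := by
      intro g hg
      have : π ⟨g, hg⟩ ∈ (N.subgroupOf P).map π := by rw [e]; trivial
      obtain ⟨n, hn', hng⟩ := this
      refine ⟨n, hn', (n : GL (Fin 3) F)⁻¹ * g, ?_, (mul_inv_cancel_left _ _).symm⟩
      exact Subgroup.mem_subgroupOf.1 (QuotientGroup.eq.1 hng)
    conv_lhs => rw [← h.perfect]
    rw [Subgroup.commutator_le]
    intro a ha b hb
    obtain ⟨n, hn1, z, hz, rfl⟩ := key a ha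
    obtain ⟨m, hm1, w, hw, rfl⟩ := key b hb
    have hz' := fun g => scalars_comm hz g
    have hw' := fun g => scalars_comm hw g
    have : ⁅n * z, m * w⁆ = ⁅n, m⁆ := by
      rw [commutatorElement_def, commutatorElement_def]
      calc n * z * (m * w) * (n * z)⁻¹ * (m * w)⁻¹
          = n * (z * (m * w)) * z⁻¹ * n⁻¹ * w⁻¹ * m⁻¹ := by group
        _ = n * m * (w * n⁻¹) * w⁻¹ * m⁻¹ := by rw [hz' (m * w)]; group
        _ = n * m * n⁻¹ * m⁻¹ := by rw [hw' n⁻¹]; group
    rw [this]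
    exact N.mul_mem (N.mul_mem (N.mul_mem hn1 hm1) (N.inv_mem hn1)) (N.inv_mem hm1)

theorem tv_notMem_scalars {u φ : Fin 3 → F} (hu : u ≠ 0) (hφ : φ ≠ 0) (h : φ ⬝ᵥ u = 0) :
    tv u φ ∉ scalars (Fin 3) F := by
  intro hs
  obtain ⟨c, hc⟩ := (mem_scalars_iff _).1 hs
  obtain ⟨i, hi⟩ := Function.ne_iff.1 hu
  obtain ⟨j, hj⟩ := Function.ne_iff.1 hφ
  have h1 : ∀ x, x + (φ ⬝ᵥ x) • u = (c : F) • x := fun x => by
    rw [← tv_mulVec h, hc, Matrix.smul_mulVec, Matrix.one_mulVec]
  have hc1 : (c : F) = 1 := by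
    have := congrFun (h1 u) i
    simp [h] at this
    exact (mul_right_cancel₀ hi ((one_mul _).trans this)).symm
  have := congrFun (h1 (Pi.single j 1)) i
  rw [hc1, one_smul] at this
  simp [dotProduct_single] at this
  exact this.elim hj hi

/-- With an elation, `P` is generated by elations. -/
theorem Hyp.rootGen (h : Hyp P) {u φ : Fin 3 → F} (hu : Root P u φ) (hu0 : u ≠ 0) (hφ0 : φ ≠ 0) :
    RootGen P := by
  set S := {g | ∃ u φ : Fin 3 → F, Root P u φ ∧ g = tv u φ} with hS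
  have hle : Subgroup.closure S ≤ P := (Subgroup.closure_le _).2 (by
    rintro _ ⟨a, α, ha, rfl⟩; exact ha.2)
  refine (h.normal_eq hle ?_ fun hle' => tv_notMem_scalars hu0 hφ0 hu.1
    (hle' (Subgroup.subset_closure ⟨u, φ, hu, rfl⟩))).ge
  intro g hg x hx
  have : Subgroup.closure S ≤ (Subgroup.closure S).comap (MulAut.conj g).toMonoidHom := by
    refine (Subgroup.closure_le _).2 ?_
    rintro _ ⟨a, α, ha, rfl⟩
    refine Subgroup.subset_closure ⟨_, _, ha.conj hg, ?_⟩
    show g * tv a α * g⁻¹ = _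
    rw [conj_tv g ha.1]
  exact this hx

theorem Hyp.scalar_cube (h : Hyp P) {g : GL (Fin 3) F} (hg : g ∈ P) {c : F}
    (hc : (g : Matrix (Fin 3) (Fin 3) F) = c • (1 : Matrix (Fin 3) (Fin 3) F)) : c ^ 3 = 1 := by
  have := h.det_eq_one hg
  rwa [hc, Matrix.det_smul, Matrix.det_one, mul_one, Fintype.card_fin] at this

end CfsgLib.Mitchell
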