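import Cfsg.Agent.Lib.Mitchell.Fields
import Cfsg.Agent.Lib.PSL2.Dihedral

/-!
# The field of a perfect group with quotient `PSL₂(K)`

In the characteristic of `F` the group fixes a quadratic form; in other characteristics only
`|K| ∈ {5, 7, 9}` occurs in dimension three.
-/

set_option autoImplicit false
set_option linter.unusedSectionVars false

namespace CfsgLib.Mitchell

open Cfsg Cfsg.Geo Matrix CfsgLib.Geo.Asch CfsgLib.DimThreeSub CfsgLib.ClassicalGroups
open scoped MatrixGroups

/-! ### A Sylow three-subgroup of `PSL₂(K)` -/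

theorem psl_three_torus {K : Type*} [Field K] [Fintype K] (hodd : Odd (Fintype.card K))
    (h3 : ¬ 3 ∣ Fintype.card K) :
    ∃ t : Matrix.ProjectiveSpecialLinearGroup (Fin 2) K, ¬ 3 ∣ (Subgroup.zpowers t).index := by
  classical
  obtain ⟨r, hr⟩ := CharP.exists K
  have : Fact r.Prime := ⟨CharP.char_is_prime K r⟩
  let ι : K →+* AlgebraicClosure K := algebraMap K _
  have : CharP (AlgebraicClosure K) r := charP_of_injective_ringHom ι.injective r
  obtain ⟨Φ, hΦ⟩ := PSL2.exists_frob (F := K) (L := AlgebraicClosure K) r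
  set q := Fintype.card K with hq
  have hq1 : 1 < q := Fintype.one_lt_card
  have hq2 : q % 2 = 1 := Nat.odd_iff.1 hodd
  have hmain : ∀ (x y : OnePoint (AlgebraicClosure K)) (e : ℕ), PSL2.IsPair ι Φ x y e →
      ∀ k : ℕ, e * k = q * (q ^ 2 - 1) → 2 ∣ e → ¬ 3 ∣ k →
      ∃ t : Matrix.ProjectiveSpecialLinearGroup (Fin 2) K, ¬ 3 ∣ (Subgroup.zpowers t).index := by
    intro x y e hxy k hk he hk3
    obtain ⟨t, ht⟩ := (Subgroup.isCyclic_iff_exists_zpowers_eq_top _).1 (PSL2.isCyclic_pslFix hΦ (ι := ι) hxy.1)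
    refine ⟨t, ?_⟩
    have hc : Nat.card (Subgroup.zpowers t) * 2 = e := by
      rw [ht, PSL2.card_pslFix hΦ hxy, PSL2.gcd_eq_two hodd, Nat.div_mul_cancel he]
    have hG := card_psl_two_gcd (K := K)
    rw [PSL2.gcd_eq_two hodd, ← hq, ← (Subgroup.zpowers t).card_mul_index, ← mul_assoc, mul_comm 2,
      hc, ← hk] at hG
    have he0 : 0 < e := by
      rcases Nat.eq_zero_or_pos e with rfl | h
      · rw [zero_mul] at hk
        have : 0 < q * (q ^ 2 - 1) := Nat.mul_pos (by omega) (Nat.sub_pos_of_lt (Nat.one_lt_pow two_ne_zero hq1))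
        omega
      · exact h
    rwa [Nat.eq_of_mul_eq_mul_left he0 hG]
  have hsq : q ^ 2 - 1 = (q + 1) * (q - 1) := by simpa using Nat.sq_sub_sq q 1
  rcases (by omega : q % 3 = 1 ∨ q % 3 = 2) with h | h
  · obtain ⟨x, y, hxy⟩ := PSL2.exists_isPair_split (ι := ι) (Φ := Φ)
    refine hmain x y _ hxy (q * (q + 1)) (by rw [hsq]; ring) (by omega) fun hd => ?_
    rcases Nat.prime_three.dvd_mul.1 hd with h' | h'
    · exact h3 h'
    · omega
  · obtain ⟨x, y, hxy⟩ := PSL2.exists_isPair_nonsplit hΦ (ι := ι)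
    refine hmain x y _ hxy (q * (q - 1)) (by rw [hsq]; ring) (by omega) fun hd => ?_
    rcases Nat.prime_three.dvd_mul.1 hd with h' | h'
    · exact h3 h'
    · omega

/-! ### Families of common eigenvectors -/

/-- Common eigenvectors of a family of operators with distinct systems of eigenvalues are independent. -/
theorem linearIndependent_common {L V ι J : Type*} [Field L] [AddCommGroup V] [Module L V]
    (A : J → Module.End L V) (v : ι → V) (χ : ι → J → L) (hv : ∀ i, v i ≠ 0)
    (hA : ∀ i j, A j (v i) = χ i j • v i) (hinj : Function.Injective χ) : LinearIndependent L v := by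
  classical
  rw [linearIndependent_iff']
  intro s
  induction s using Finset.induction with
  | empty => simp
  | insert j s hj ih =>
    intro c hc
    have hrest : ∀ i ∈ s, c i = 0 := by
      intro i hi
      have hij : i ≠ j := fun h => hj (h ▸ hi)
      obtain ⟨m, hm⟩ := Function.ne_iff.1 (hinj.ne hij)
      have h1 := congrArg (fun w => A m w - χ j m • w) hc
      simp only [map_zero, smul_zero, sub_zero, map_sum, Finset.smul_sum, map_smul, hA] at h1
      rw [Finset.sum_insert hj, Finset.sum_insert hj, smul_comm (c j), add_sub_add_left_eq_sub,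
        ← Finset.sum_sub_distrib] at h1
      have h2 : ∑ k ∈ s, (c k * (χ k m - χ j m)) • v k = 0 := by
        rw [← h1]
        refine Finset.sum_congr rfl fun k _ => ?_
        rw [smul_smul, smul_smul, ← sub_smul]
        congr 1
        ring
      exact (mul_eq_zero.1 (ih _ h2 i hi)).resolve_right (sub_ne_zero.2 hm)
    intro i hi
    rcases Finset.mem_insert.1 hi with rfl | hi
    · rw [Finset.sum_insert hj, Finset.sum_eq_zero fun k hk => by rw [hrest k hk, zero_smul], add_zero] at hc
      exact (smul_eq_zero.1 hc).resolve_right (hv i)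
    · exact hrest i hi

/-- Commuting operators have a common eigenvector inside an invariant non-zero subspace. -/
theorem exists_common_eigenvector {L V J : Type*} [Field L] [IsAlgClosed L] [AddCommGroup V] [Module L V]
    [FiniteDimensional L V] (A : J → Module.End L V) (hcomm : ∀ i j, A i * A j = A j * A i)
    (W : Submodule L V) (hW : W ≠ ⊥) (hinv : ∀ j, ∀ w ∈ W, A j w ∈ W) :
    ∃ (v : V) (χ : J → L), v ∈ W ∧ v ≠ 0 ∧ ∀ j, A j v = χ j • v := by
  classical
  have hex : ∃ d, ∃ S : Submodule L V, S ≤ W ∧ S ≠ ⊥ ∧ (∀ j, ∀ w ∈ S, A j w ∈ S) ∧ Module.finrank L S = d :=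
    ⟨_, W, le_rfl, hW, hinv, rfl⟩
  obtain ⟨S, hSW, hS0, hSinv, hSd⟩ := Nat.find_spec hex
  have hsc : ∀ j, ∃ c : L, ∀ w ∈ S, A j w = c • w := by
    intro j
    have : Nontrivial S := Submodule.nontrivial_iff_ne_bot.2 hS0
    obtain ⟨c, hc⟩ := Module.End.exists_eigenvalue ((A j).restrict (hSinv j))
    obtain ⟨w, hw⟩ := hc.exists_hasEigenvector
    let S' := S ⊓ Module.End.eigenspace (A j) c
    have hwS : (w : V) ∈ S' := ⟨w.2, Module.End.mem_eigenspace_iff.2 (by
      have := congrArg Subtype.val hw.apply_eq_smul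
      simpa using this)⟩
    have h0 : S' ≠ ⊥ := fun h => hw.2 (Subtype.ext (by simpa [h] using hwS))
    have hinv' : ∀ i, ∀ u ∈ S', A i u ∈ S' := fun i u hu => ⟨hSinv i u hu.1, by
      refine Module.End.mem_eigenspace_iff.2 ?_
      rw [← Module.End.mul_apply, hcomm j i, Module.End.mul_apply, Module.End.mem_eigenspace_iff.1 hu.2,
        map_smul]⟩
    have hle : Nat.find hex ≤ Module.finrank L S' :=
      Nat.find_le ⟨S', le_trans inf_le_left hSW, h0, hinv', rfl⟩
    have heq : S' = S := Submodule.eq_of_le_of_finrank_le inf_le_left (by rw [hSd]; exact hle)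
    exact ⟨c, fun u hu => Module.End.mem_eigenspace_iff.1 (heq.symm ▸ hu : u ∈ S').2⟩
  choose χ hχ using hsc
  obtain ⟨v, hv, hv0⟩ := Submodule.exists_mem_ne_zero_of_ne_bot hS0
  exact ⟨v, χ, hSW hv, hv0, fun j => hχ j v hv⟩

/-! ### Additive groups of fields in dimension three -/

theorem card_squares {K : Type*} [Field K] [Fintype K] :
    Fintype.card K - 1 ≤ 2 * Nat.card (powMonoidHom 2 : Kˣ →* Kˣ).range := by
  classical
  have h1 := Subgroup.card_mul_index (powMonoidHom 2 : Kˣ →* Kˣ).ker
  rw [Subgroup.index_ker] at h1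
  have h2 : Nat.card (powMonoidHom 2 : Kˣ →* Kˣ).ker ≤ 2 := by
    rw [Nat.card_eq_fintype_card, Fintype.card_subtype]
    refine (Finset.card_le_card (t := ({1, -1} : Finset Kˣ)) fun x hx => ?_).trans Finset.card_le_two
    simp only [Finset.mem_filter, MonoidHom.mem_ker, powMonoidHom_apply] at hx
    have : (x : K) ^ 2 = 1 := by rw [← Units.val_pow_eq_pow_val, hx.2, Units.val_one]
    rcases sq_eq_one_iff.1 this with h | h
    · simp [Units.ext_iff, h]
    · simp [Units.ext_iff, h]
  rw [Nat.card_eq_fintype_card (α := Kˣ), Fintype.card_units] at h1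
  rw [← h1]
  exact Nat.mul_le_mul_right _ h2

theorem exists_two_squares {K : Type*} [Field K] [Fintype K] (hodd : Odd (Fintype.card K)) (s : K) :
    ∃ a b : K, a ^ 2 + b ^ 2 = s := by
  obtain ⟨a, b, h⟩ := FiniteField.exists_root_sum_quadratic
    (f := Polynomial.C (1 : K) * Polynomial.X ^ 2 + Polynomial.C 0 * Polynomial.X + Polynomial.C (-s))
    (g := Polynomial.C (1 : K) * Polynomial.X ^ 2 + Polynomial.C 0 * Polynomial.X + Polynomial.C 0)
    (Polynomial.degree_quadratic one_ne_zero) (Polynomial.degree_quadratic one_ne_zero) (Nat.odd_iff.1 hodd)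
  refine ⟨a, b, ?_⟩
  simp at h
  linear_combination h

/-- The additive group of a large field, with the multiplication by squares realised by conjugation,
has no faithful three-dimensional representation prime to the characteristic. -/
theorem no_square_orbit {F : Type*} [Field F] {K : Type*} [Field K] [Fintype K] (hK : 9 ≤ Fintype.card K)
    {r : ℕ} (hrF : (r : F) ≠ 0) (L : K → GL (Fin 3) F) (hLr : ∀ a, L a ^ r = 1)
    (hadd : ∀ a b, L (a + b) = L a * L b) (hL1 : L 1 ≠ 1)
    (hconj : ∀ l : K, l ≠ 0 → ∃ g : GL (Fin 3) F, ∀ a, g * L a * g⁻¹ = L (l ^ 2 * a)) : False := by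
  classical
  let M := AlgebraicClosure F
  let ι : F →+* M := algebraMap F _
  let φ : GL (Fin 3) F →* GL (Fin 3) M := Matrix.GeneralLinearGroup.map ι
  let E : GL (Fin 3) F →* Module.End M (Fin 3 → M) :=
    ((Matrix.toLinAlgEquiv' (R := M)).toAlgHom.toRingHom.toMonoidHom).comp
      ((Units.coeHom _).comp φ)
  have hrM : (r : M) ≠ 0 := by rw [← map_natCast ι]; exact fun h => hrF ((map_eq_zero ι).1 h)
  obtain ⟨μ, hμ, hμ1⟩ : ∃ μ ∈ spectrum M (φ (L 1) : Matrix (Fin 3) (Fin 3) M), μ ≠ 1 := by
    by_contra hall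
    push Not at hall
    refine hL1 (Units.ext ?_)
    have h1 := eq_one_of_spectrum hrM
      (by rw [← Units.val_pow_eq_pow_val, ← map_pow, hLr, map_one, Units.val_one]) hall
    ext i j
    refine ι.injective ?_
    have := congrFun (congrFun h1 i) j
    rw [Units.val_one]
    refine this.trans ?_
    by_cases hij : i = j
    · subst hij; simp
    · simp [hij]
  set W := Module.End.eigenspace (E (L 1)) μ with hW
  have hW0 : W ≠ ⊥ := by
    rw [← Matrix.spectrum_toLin', ← Module.End.hasEigenvalue_iff_mem_spectrum] at hμ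
    exact hμ
  have hcomm : ∀ a b, E (L a) * E (L b) = E (L b) * E (L a) := fun a b => by
    rw [← map_mul, ← map_mul, ← hadd, ← hadd, add_comm]
  obtain ⟨v, χ, hvW, hv0, hv⟩ := exists_common_eigenvector (fun a => E (L a)) hcomm W hW0 (fun a w hw => by
    rw [hW, Module.End.mem_eigenspace_iff] at hw ⊢
    rw [← Module.End.mul_apply, hcomm 1 a, Module.End.mul_apply, hw, map_smul])
  have hχ1 : χ 1 = μ := smul_left_injective M hv0 ((hv 1).symm.trans (Module.End.mem_eigenspace_iff.1 hvW))
  have hχadd : ∀ a b, χ (a + b) = χ a * χ b := fun a b => smul_left_injective M hv0 (by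
    show χ (a + b) • v = (χ a * χ b) • v
    rw [← hv, hadd, map_mul, Module.End.mul_apply, hv, map_smul, hv, smul_smul, mul_comm])
  have hχ0 : ∀ a, χ a ≠ 0 := fun a h => by
    have h1 := hχadd a (-a)
    rw [add_neg_cancel, h, zero_mul] at h1
    have h2 := hχadd 0 1
    rw [h1, zero_mul, zero_add, hχ1] at h2
    have h3 := Module.End.mem_eigenspace_iff.1 hvW
    rw [h2, zero_smul] at h3
    apply hv0
    calc v = E ((L 1)⁻¹ * L 1) v := by rw [inv_mul_cancel, map_one, Module.End.one_apply]
      _ = 0 := by rw [map_mul, Module.End.mul_apply, h3, map_zero]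
  let Q := (powMonoidHom 2 : Kˣ →* Kˣ).range
  have hex : ∀ s : Q, ∃ w : Fin 3 → M, w ≠ 0 ∧ ∀ a, E (L a) w = χ ((s : Kˣ) * a) • w := by
    rintro ⟨s, l, rfl⟩
    obtain ⟨g, hg⟩ := hconj l l.ne_zero
    refine ⟨E g⁻¹ v, fun h => hv0 ?_, fun a => ?_⟩
    · calc v = E (g * g⁻¹) v := by rw [mul_inv_cancel, map_one, Module.End.one_apply]
        _ = 0 := by rw [map_mul, Module.End.mul_apply, h, map_zero]
    · rw [← Module.End.mul_apply, ← map_mul, show L a * g⁻¹ = g⁻¹ * (g * L a * g⁻¹) by group, hg, map_mul,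
        Module.End.mul_apply, hv, map_smul]
      simp
  choose w hw0 hw using hex
  have hli := linearIndependent_common (fun a => E (L a)) w (fun s a => χ ((s : Kˣ) * a)) hw0 hw
    (fun s t hst => by
      by_contra hne
      have hd : ((s : Kˣ) : K) - (t : Kˣ) ≠ 0 := sub_ne_zero.2 fun h => hne (Subtype.ext (Units.ext h))
      refine hμ1 ?_
      set a := (((s : Kˣ) : K) - (t : Kˣ))⁻¹ with ha
      have h1 : χ ((s : Kˣ) * a) = χ ((t : Kˣ) * a) := congrFun hst a
      have h2 : χ ((s : Kˣ) * a) = χ ((t : Kˣ) * a) * χ 1 := by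
        rw [← hχadd]
        congr 1
        rw [← mul_inv_cancel₀ hd, ← ha]
        ring
      rw [h1, hχ1] at h2
      exact (mul_right_eq_self₀.1 h2.symm).resolve_right (hχ0 _))
  have h4 := hli.fintype_card_le_finrank
  rw [Module.finrank_fin_fun, ← Nat.card_eq_fintype_card] at h4
  have h5 := card_squares (K := K)
  change Nat.card (powMonoidHom 2 : Kˣ →* Kˣ).range ≤ 3 at h4
  omega

/-! ### The unipotent subgroup -/

section Unipotent

variable {K : Type*} [Field K]

/-- A translation of the line. -/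
def transSL (a : K) : Matrix.SpecialLinearGroup (Fin 2) K :=
  ⟨!![1, a; 0, 1], by simp [Matrix.det_fin_two]⟩

/-- The translations as a homomorphism. -/
noncomputable def transHom (K : Type*) [Field K] :
    Multiplicative K →* Matrix.ProjectiveSpecialLinearGroup (Fin 2) K where
  toFun a := (transSL a.toAdd : Matrix.ProjectiveSpecialLinearGroup (Fin 2) K)
  map_one' := by
    rw [← QuotientGroup.mk_one]
    congr 1
    apply Subtype.ext
    show (!![1, (0 : K); 0, 1] : Matrix (Fin 2) (Fin 2) K) = 1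
    simp [Matrix.one_fin_two]
  map_mul' a b := by
    rw [← QuotientGroup.mk_mul]
    congr 1
    apply Subtype.ext
    show (!![1, a.toAdd + b.toAdd; 0, 1] : Matrix (Fin 2) (Fin 2) K) = !![1, a.toAdd; 0, 1] * !![1, b.toAdd; 0, 1]
    simp [Matrix.mul_fin_two, add_comm]

theorem transHom_injective : Function.Injective (transHom K) := by
  rw [injective_iff_map_eq_one]
  intro a ha
  have h1 := Subgroup.mem_center_iff.1 ((QuotientGroup.eq_one_iff (transSL a.toAdd)).1 ha)
    ⟨!![1, 0; 1, 1], by simp [Matrix.det_fin_two]⟩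
  have h2 : (!![1, 0; 1, 1] : Matrix (Fin 2) (Fin 2) K) * !![1, a.toAdd; 0, 1] =
      !![1, a.toAdd; 0, 1] * !![1, 0; 1, 1] := congrArg Subtype.val h1
  have h3 := congrFun (congrFun h2 1) 1
  simp [Matrix.mul_apply, Fin.sum_univ_two] at h3
  exact h3

/-- A diagonal element. -/
def diagSL {l : K} (hl : l ≠ 0) : Matrix.SpecialLinearGroup (Fin 2) K :=
  ⟨!![l, 0; 0, l⁻¹], by simp [Matrix.det_fin_two, hl]⟩

theorem transHom_conj {l : K} (hl : l ≠ 0) : ∃ s : Matrix.ProjectiveSpecialLinearGroup (Fin 2) K,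
    ∀ a : K, s * transHom K (.ofAdd a) * s⁻¹ = transHom K (.ofAdd (l ^ 2 * a)) := by
  refine ⟨(diagSL hl : Matrix.ProjectiveSpecialLinearGroup (Fin 2) K), fun a => ?_⟩
  have key : diagSL hl * transSL a = transSL (l ^ 2 * a) * diagSL hl := by
    apply Subtype.ext
    show (!![l, 0; 0, l⁻¹] : Matrix (Fin 2) (Fin 2) K) * !![1, a; 0, 1] = !![1, l ^ 2 * a; 0, 1] * !![l, 0; 0, l⁻¹]
    simp [Matrix.mul_fin_two]
    field_simp
  refine mul_inv_eq_iff_eq_mul.2 ?_
  have h' := congrArg (fun g : Matrix.SpecialLinearGroup (Fin 2) K => (g : Matrix.ProjectiveSpecialLinearGroup (Fin 2) K)) key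
  simp only [QuotientGroup.mk_mul] at h'
  exact h'

end Unipotent

/-! ### The theorems -/

variable {F : Type*} [Field F] [Fintype F] {P : Subgroup (GL (Fin 3) F)}
variable (p : ℕ) [Fact p.Prime] [CharP F p]
variable {K : Type*} [Field K] [Fintype K]

theorem psl_same_char (hp : p ≠ 2) (h : Hyp P) [CharP K p]
    (e : Quot P ≃* Matrix.ProjectiveSpecialLinearGroup (Fin 2) K) : QuadForm P := by
  have h2 : (2 : K) ≠ 0 := two_ne_zero_of_odd (F := K) hp
  have hinj : Function.Injective (toQuot P) := by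
    by_cases h3 : p = 3
    · subst h3; exact h.inj_of_char_three
    · obtain ⟨n, hpp, hn⟩ := FiniteField.card K p
      have hodd : Odd (Fintype.card K) := hn ▸ (hpp.odd_of_ne_two hp).pow
      have h3' : ¬ 3 ∣ Fintype.card K := fun hd =>
        h3 ((Nat.prime_dvd_prime_iff_eq Nat.prime_three hpp).1 (Nat.prime_three.dvd_of_dvd_pow (hn ▸ hd))).symm
      obtain ⟨t, ht⟩ := psl_three_torus hodd h3'
      refine h.inj_of_element (e.symm t) ?_
      rwa [show Subgroup.zpowers (e.symm t) = (Subgroup.zpowers t).map (e.symm : _ →* Quot P) from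
        (MonoidHom.map_zpowers (e.symm : _ →* Quot P) t).symm, Subgroup.index_map_equiv]
  let eP := (equivQuot hinj).trans e
  refine quad_of_real hp h fun x => ?_
  rcases psl_exists_real (Fact.out : p.Prime).ne_zero h2 (eP x) with hr | hr
  · exact trc_inv_eq_of_equiv eP hr
  · have hx : x ^ p = 1 := eP.injective (by rw [map_pow, hr, map_one])
    rw [trc_eq_three p hx, trc_eq_three p (show x⁻¹ ^ p = 1 by rw [inv_pow, hx, inv_one])]

theorem psl_cross_char (h : Hyp P) {r : ℕ} [Fact r.Prime] [CharP K r] (hr : r ≠ p)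
    (hodd : Odd (Fintype.card K)) (hK : 11 ≤ Fintype.card K)
    (e : Quot P ≃* Matrix.ProjectiveSpecialLinearGroup (Fin 2) K) : False := by
  classical
  have hrF : (r : F) ≠ 0 := fun h' =>
    hr ((Nat.prime_dvd_prime_iff_eq Fact.out Fact.out).1 ((CharP.cast_eq_zero_iff F p r).1 h')).symm
  let u : Multiplicative K →* Quot P := (e.symm : _ →* Quot P).comp (transHom K)
  have hu : Function.Injective u := e.symm.injective.comp transHom_injective
  have hur : ∀ a : K, u (.ofAdd a) ^ r = 1 := fun a => by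
    rw [← map_pow, show (Multiplicative.ofAdd a) ^ r = Multiplicative.ofAdd (r • a) from (ofAdd_nsmul _ _).symm,
      nsmul_eq_mul, CharP.cast_eq_zero, zero_mul]
    exact map_one u
  have huadd : ∀ a b : K, u (.ofAdd (a + b)) = u (.ofAdd a) * u (.ofAdd b) := fun a b => by
    rw [ofAdd_add, map_mul]
  have hucomm : ∀ a b : K, u (.ofAdd a) * u (.ofAdd b) = u (.ofAdd b) * u (.ofAdd a) := fun a b => by
    rw [← huadd, ← huadd, add_comm]
  have huconj : ∀ l : K, l ≠ 0 → ∃ g : P, ∀ a : K,
      toQuot P g * u (.ofAdd a) * (toQuot P g)⁻¹ = u (.ofAdd (l ^ 2 * a)) := by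
    intro l hl
    obtain ⟨s, hs⟩ := transHom_conj hl
    obtain ⟨g, hg⟩ := toQuot_surjective (P := P) (e.symm s)
    refine ⟨g, fun a => ?_⟩
    show _ * e.symm (transHom K _) * _ = e.symm (transHom K _)
    rw [hg, ← map_inv, ← map_mul, ← map_mul, hs]
  -- exact lifts give a representation of the additive group
  have hA : ∀ L : K → P, (∀ a, toQuot P (L a) = u (.ofAdd a)) → (∀ a b, L (a + b) = L a * L b) →
      (∀ (g : P) (a b : K), toQuot P g * u (.ofAdd a) * (toQuot P g)⁻¹ = u (.ofAdd b) →
        g * L a * g⁻¹ = L b) → False := by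
    intro L hL hadd hconj
    have hL0 : L 0 = 1 := by
      have h0 := hadd 0 0
      rwa [add_zero, eq_comm, mul_eq_left] at h0
    have hLr : ∀ a, L a ^ r = 1 := fun a => by
      have hn : ∀ n : ℕ, L a ^ n = L (n • a) := fun n => by
        induction n with
        | zero => rw [pow_zero, zero_smul, hL0]
        | succ n ih => rw [pow_succ, succ_nsmul, hadd, ih]
      rw [hn, nsmul_eq_mul, CharP.cast_eq_zero, zero_mul, hL0]
    refine no_square_orbit (F := F) (r := r) (by omega) hrF (fun a => (L a : GL (Fin 3) F))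
      (fun a => congrArg Subtype.val (hLr a)) (fun a b => congrArg Subtype.val (hadd a b)) ?_ ?_
    · intro h1
      have : u (.ofAdd 1) = 1 := by rw [← hL, show L 1 = 1 from Subtype.ext h1, map_one]
      exact one_ne_zero (α := K) (Multiplicative.ofAdd.injective (hu (this.trans (map_one u).symm)))
    · intro l hl
      obtain ⟨g, hg⟩ := huconj l hl
      exact ⟨g, fun a => congrArg Subtype.val (hconj g a _ (hg a))⟩
  have hprime := (Fact.out : r.Prime)
  by_cases hr3 : r = 3
  swap
  · have hn3 : ¬ 3 ∣ r := fun hd => hr3 ((Nat.prime_dvd_prime_iff_eq Nat.prime_three hprime).1 hd).symm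
    choose L hL hLr using fun a : K => h.exists_exact hn3 (hur a)
    have huniq : ∀ x y : P, toQuot P x = toQuot P y → x ^ r = 1 → y ^ r = 1 → x = y := fun x y hxy hx hy => by
      have hz : toQuot P (y⁻¹ * x) = 1 := by rw [map_mul, map_inv, hxy, inv_mul_cancel]
      have hzr : (y⁻¹ * x) ^ r = 1 := by
        have h1 : (y * (y⁻¹ * x)) ^ r = 1 := by rw [mul_inv_cancel_left, hx]
        rwa [Commute.mul_pow (show Commute y (y⁻¹ * x) from (kernel_comm hz _).symm), hy, one_mul] at h1
      rw [← mul_inv_cancel_left y x, eq_one_of_pow_coprime (coprime_of_not_dvd hn3) hzr (h.kernel_cube hz),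
        mul_one]
    refine hA L hL (fun a b => ?_) fun g a b hg => ?_
    · have hc : Commute (L a) (L b) := by
        have := h.conj_exact (k := 1) hn3 (hLr b) (g := L a) (by
          rw [pow_one, hL, hL, hucomm, mul_inv_cancel_right])
        rw [pow_one, mul_inv_eq_iff_eq_mul] at this
        exact this
      exact huniq _ _ (by rw [map_mul, hL, hL, hL, huadd]) (hLr _) (by rw [hc.mul_pow, hLr, hLr, one_mul])
    · exact huniq _ _ (by rw [map_mul, map_mul, map_inv, hL, hL, hg]) (by rw [conj_pow, hLr]; group) (hLr _)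
  subst hr3
  choose L hL using fun a : K => toQuot_surjective (P := P) (u (.ofAdd a))
  have hlift : ∀ {x : P} {a : K}, toQuot P x = u (.ofAdd a) → ∃ z, toQuot P z = 1 ∧ x = L a * z :=
    fun {x a} hx => ⟨(L a)⁻¹ * x, by rw [map_mul, map_inv, hL, hx, inv_mul_cancel], (mul_inv_cancel_left _ _).symm⟩
  have hmulz : ∀ {x y z w : P}, toQuot P z = 1 → toQuot P w = 1 → Commute x y → Commute (x * z) (y * w) :=
    fun {x y z w} hz hw hxy =>
      Commute.mul_left (Commute.mul_right hxy (kernel_comm hw _).symm) (kernel_comm hz _)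
  by_cases hall : ∀ a b, Commute (L a) (L b)
  · -- no scalars
    have hidx : ¬ 3 ∣ u.range.index := by
      have h1 := u.range.card_mul_index
      rw [show Nat.card u.range = Fintype.card K by
        rw [← Nat.card_congr (MonoidHom.ofInjective hu).toEquiv, Nat.card_congr Multiplicative.toAdd,
          Nat.card_eq_fintype_card], Nat.card_congr e.toEquiv] at h1
      have h2 := card_psl_two_gcd (K := K)
      rw [PSL2.gcd_eq_two hodd, ← h1, mul_left_comm] at h2
      have h3 := Nat.eq_of_mul_eq_mul_left Fintype.card_pos h2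
      obtain ⟨n, -, hn⟩ := FiniteField.card K 3
      intro hd
      have h4 : 3 ∣ Fintype.card K ^ 2 - 1 := h3 ▸ hd.mul_left 2
      have h5 : 3 ∣ Fintype.card K ^ 2 := (dvd_pow_self 3 n.ne_zero).trans (hn ▸ dvd_pow_self _ two_ne_zero)
      have : 1 ≤ Fintype.card K ^ 2 := Nat.one_le_pow _ _ Fintype.card_pos
      omega
    have hinj := h.inj_of_abelian_index u.range hidx fun x y hx hy => by
      obtain ⟨a, ha⟩ := hx
      obtain ⟨b, hb⟩ := hy
      obtain ⟨z, hz, rfl⟩ := hlift (a := a.toAdd) ha.symm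
      obtain ⟨w, hw, rfl⟩ := hlift (a := b.toAdd) hb.symm
      exact hmulz hz hw (hall _ _)
    exact hA L hL (fun a b => hinj (by rw [map_mul, hL, hL, hL, huadd]))
      fun g a b hg => hinj (by rw [map_mul, map_mul, map_inv, hL, hL, hg])
  · -- the commutator pairing is non-degenerate
    push Not at hall
    obtain ⟨a₁, b₁, hab⟩ := hall
    let R : K → Prop := fun a => ∀ x y : P, toQuot P x = u (.ofAdd a) → ∀ b, toQuot P y = u (.ofAdd b) → Commute x y
    have hRadd : ∀ a b, R a → R b → R (a + b) := by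
      intro a b ha hb x y hx c hy
      have hz : toQuot P ((L a * L b)⁻¹ * x) = 1 := by
        rw [map_mul, map_inv, map_mul, hL, hL, hx, huadd, inv_mul_cancel]
      have := Commute.mul_left (Commute.mul_left (ha _ y (hL a) c hy) (hb _ y (hL b) c hy))
        (show Commute ((L a * L b)⁻¹ * x) y from kernel_comm hz y)
      rwa [mul_inv_cancel_left] at this
    have hRsq : ∀ (l : K) a, R a → R (l ^ 2 * a) := by
      intro l a ha x y hx b hy
      rcases eq_or_ne l 0 with rfl | hl
      · rw [zero_pow two_ne_zero, zero_mul, show (Multiplicative.ofAdd (0 : K)) = 1 from rfl, map_one] at hx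
        exact kernel_comm hx y
      obtain ⟨g, hg⟩ := huconj l hl
      have hback : ∀ (z : P) (c : K), toQuot P z = u (.ofAdd (l ^ 2 * c)) →
          toQuot P (g⁻¹ * z * g) = u (.ofAdd c) := fun z c hz => by
        rw [map_mul, map_mul, map_inv, hz, ← hg]
        group
      have := ha _ _ (hback x a hx) ((l ^ 2)⁻¹ * b)
        (hback y _ (by rw [hy, mul_inv_cancel_left₀ (pow_ne_zero _ hl)]))
      calc x * y = g * ((g⁻¹ * x * g) * (g⁻¹ * y * g)) * g⁻¹ := by group
        _ = g * ((g⁻¹ * y * g) * (g⁻¹ * x * g)) * g⁻¹ := by rw [this.eq]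
        _ = y * x := by group
    have hR0 : ∀ a, R a → a = 0 := by
      intro a ha
      by_contra ha0
      apply hab
      obtain ⟨s, t, hst⟩ := exists_two_squares hodd (a₁ * a⁻¹)
      have h1 := hRadd _ _ (hRsq s a ha) (hRsq t a ha)
      rw [← add_mul, hst, mul_assoc, inv_mul_cancel₀ ha0, mul_one] at h1
      exact h1 _ _ (hL a₁) b₁ (hL b₁)
    have hker : ∀ a b, toQuot P (L b * L a * (L b)⁻¹ * (L a)⁻¹) = 1 := fun a b => by
      rw [map_mul, map_mul, map_mul, map_inv, map_inv, hL, hL, hucomm, mul_inv_cancel_right, mul_inv_cancel]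
    choose c hc using fun a b => (mem_scalars_iff _).1 (toQuot_eq_one.1 (hker a b))
    let Ad : K → Module.End F (Matrix (Fin 3) (Fin 3) F) := fun b =>
      (LinearMap.mulLeft F ((L b : GL (Fin 3) F) : Matrix (Fin 3) (Fin 3) F)).comp
        (LinearMap.mulRight F (((L b)⁻¹ : P) : GL (Fin 3) F).val)
    have hli := linearIndependent_common Ad (fun a : K => ((L a : GL (Fin 3) F) : Matrix (Fin 3) (Fin 3) F))
      (fun a b => (c a b : F)) (fun a => Units.ne_zero _) (fun a b => by
        show ((L b : GL (Fin 3) F) : Matrix (Fin 3) (Fin 3) F) * (((L a : GL (Fin 3) F) : Matrix (Fin 3) (Fin 3) F) * _) = _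
        rw [← Units.val_mul, ← Units.val_mul, ← Subgroup.coe_mul, ← Subgroup.coe_mul,
          show L b * (L a * (L b)⁻¹) = L b * L a * (L b)⁻¹ * (L a)⁻¹ * L a by group, Subgroup.coe_mul,
          Units.val_mul, hc, Matrix.smul_mul, one_mul])
      (fun a a' haa => sub_eq_zero.1 (hR0 _ fun x y hx b hy => by
        have hb' : (c a b : F) = c a' b := congrFun haa b
        have hz : L b * L a * (L b)⁻¹ * (L a)⁻¹ = L b * L a' * (L b)⁻¹ * (L a')⁻¹ :=
          Subtype.ext (Units.ext (by rw [hc, hc, hb']))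
        have hw : toQuot P (L a * (L a')⁻¹) = u (.ofAdd (a - a')) := by
          rw [map_mul, map_inv, hL, hL, ofAdd_sub, div_eq_mul_inv, map_mul, map_inv]
        have hcw : Commute (L a * (L a')⁻¹) (L b) := by
          set z := L b * L a * (L b)⁻¹ * (L a)⁻¹ with hzd
          have e1 : L b * L a * (L b)⁻¹ = z * L a := by rw [hzd]; group
          have e2 : L b * L a' * (L b)⁻¹ = z * L a' := by rw [hz]; group
          have e3 : L b * (L a * (L a')⁻¹) * (L b)⁻¹ = L a * (L a')⁻¹ := by
            calc L b * (L a * (L a')⁻¹) * (L b)⁻¹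
                = (L b * L a * (L b)⁻¹) * (L b * L a' * (L b)⁻¹)⁻¹ := by group
              _ = z * (L a * (L a')⁻¹) * z⁻¹ := by rw [e1, e2]; group
              _ = _ := by rw [kernel_comm (hker a b), mul_inv_cancel_right]
          exact (mul_inv_eq_iff_eq_mul.1 e3).symm
        obtain ⟨z, hz', rfl⟩ := hlift hy
        have hz'' : toQuot P ((L a * (L a')⁻¹)⁻¹ * x) = 1 := by rw [map_mul, map_inv, hw, hx, inv_mul_cancel]
        have := hmulz hz'' hz' hcw
        rwa [mul_inv_cancel_left] at this))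
    have h9 := hli.fintype_card_le_finrank
    rw [Module.finrank_matrix, Module.finrank_self, mul_one, Fintype.card_fin] at h9
    omega

theorem psl_five_quad (hp : p ≠ 2) (h : Hyp P) (hK : Fintype.card K = 5)
    (e : Quot P ≃* Matrix.ProjectiveSpecialLinearGroup (Fin 2) K) : QuadForm P := by
  have : Fact (Nat.Prime 5) := ⟨by norm_num⟩
  have : CharP K 5 := charP_of_card_eq_prime_pow (f := 1) hK
  have h2 : (2 : K) ≠ 0 := two_ne_zero_of_odd (F := K) (p := 5) (by norm_num)
  have hsq : IsSquare (-1 : K) := FiniteField.isSquare_neg_one_iff.2 (by rw [hK]; norm_num)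
  have hcard : Nat.card (Quot P) = 60 := by
    rw [Nat.card_congr e.toEquiv]
    have := card_psl_two_gcd (K := K)
    rw [hK, show Nat.gcd 2 (5 - 1) = 2 by decide +kernel] at this
    omega
  have hinj := h.inj_of_card (by rw [hcard]; norm_num) (by rw [hcard]; norm_num)
  exact quad_of_real hp h fun x => trc_inv_eq_of_equiv ((equivQuot hinj).trans e) (psl_real_of_square h2 hsq _)

theorem psl_cases (hp : p ≠ 2) (h : Hyp P) (hodd : Odd (Fintype.card K)) (hK : 5 ≤ Fintype.card K)
    (hT : Nonempty (Quot P ≃* Matrix.ProjectiveSpecialLinearGroup (Fin 2) K)) :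
    QuadForm P ∨ Nonempty (Quot P ≃* Matrix.ProjectiveSpecialLinearGroup (Fin 3) (ZMod 2)) ∨
      Nonempty (Quot P ≃* alternatingGroup (Fin 6)) := by
  obtain ⟨e⟩ := hT
  by_cases h5 : Fintype.card K = 5
  · exact Or.inl (psl_five_quad p hp h h5 e)
  by_cases h7 : Fintype.card K = 7
  · have : Fact (Nat.Prime 2) := ⟨Nat.prime_two⟩
    obtain ⟨f⟩ := psl_two_seven_psl_three_two (K := K) (L := ZMod 2) h7 (ZMod.card 2)
    exact Or.inr (Or.inl ⟨e.trans f⟩)
  by_cases h9 : Fintype.card K = 9
  · obtain ⟨f⟩ := psl_two_nine_alternating (K := K) h9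
    exact Or.inr (Or.inr ⟨e.trans f⟩)
  obtain ⟨r, hr⟩ := CharP.exists K
  have : Fact r.Prime := ⟨CharP.char_is_prime K r⟩
  rcases eq_or_ne r p with rfl | hrp
  · exact Or.inl (psl_same_char r hp h e)
  · exact (psl_cross_char p h hrp hodd (by have := Nat.odd_iff.1 hodd; omega) e).elim

theorem field_psl (hp : p ≠ 2) (h : Hyp P) (hsub : NoSubfield P) (hodd : Odd (Fintype.card K))
    (hK : 5 ≤ Fintype.card K)
    (hT : Nonempty (Quot P ≃* Matrix.ProjectiveSpecialLinearGroup (Fin 2) K)) :
    QuadForm P ∨ UnitForm P ∨ LinExc P p := by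
  rcases psl_cases p hp h hodd hK hT with h' | h' | h'
  · exact Or.inl h'
  · exact field_seven p hp h hsub h'
  · exact field_six p hp h hsub h'

theorem field_psl_unit (hp : p ≠ 2) (h : Hyp P) (hsub : NoSubfield P) {q : ℕ}
    (hF : Fintype.card F = q ^ 2) (hPU : P ≤ Cfsg.GU 3 F q) (hodd : Odd (Fintype.card K))
    (hK : 5 ≤ Fintype.card K)
    (hT : Nonempty (Quot P ≃* Matrix.ProjectiveSpecialLinearGroup (Fin 2) K)) :
    QuadForm P ∨ UnitExc P q := by
  rcases psl_cases p hp h hodd hK hT with h' | h' | h'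
  · exact Or.inl h'
  · exact field_seven_unit p hp h hsub hF h'
  · exact field_six_unit p hp h hsub hF hPU h'

end CfsgLib.Mitchell
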