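import Cfsg.Agent.Lib.Mitchell.LocalData
import Mathlib.Tactic

/-!
The configuration of an elementary group of order nine contradicts the local data.
-/

set_option autoImplicit false

namespace CfsgLib.Mitchell

universe u

variable {T : Type u} [Group T]

/-- A group with cyclic three-part: two commuting elements of order three generate a cyclic group. -/
def ThreeCyclic (H : Type*) [Group H] : Prop :=
  ∀ a b : H, a ^ 3 = 1 → b ^ 3 = 1 → a * b = b * a → a ≠ 1 → b ∈ Subgroup.zpowers a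

theorem threeCyclic_of_cyclic {H : Type*} [CommGroup H] [Finite H] [IsCyclic H] : ThreeCyclic H := by
  classical
  have := Fintype.ofFinite H
  intro a b ha hb _ ha1
  have hoa : orderOf a = 3 := by
    have : Fact (Nat.Prime 3) := ⟨Nat.prime_three⟩
    exact orderOf_eq_prime ha ha1
  by_contra hnot
  have hle := IsCyclic.card_pow_eq_one_le (α := H) (n := 3) (by norm_num)
  have hcard : ({1, a, a ^ 2, b} : Finset H).card = 4 := by
    have ha2 : a ^ 2 ≠ 1 := pow_ne_one_of_lt_orderOf (by norm_num) (by rw [hoa]; norm_num)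
    have hb' : ∀ k : ℕ, b ≠ a ^ k := fun k e => hnot (e ▸ Subgroup.pow_mem _ (Subgroup.mem_zpowers a) k)
    have h0 := hb' 0
    have h1 := hb' 1
    have h2 := hb' 2
    rw [pow_zero] at h0
    rw [pow_one] at h1
    have haa : a ≠ a ^ 2 := fun e => ha1 (by rw [sq] at e; exact (mul_eq_left.1 e.symm))
    rw [Finset.card_insert_of_notMem, Finset.card_insert_of_notMem, Finset.card_insert_of_notMem,
      Finset.card_singleton] <;> simp [Ne.symm ha1, Ne.symm ha2, Ne.symm h0, Ne.symm h1, Ne.symm h2, haa]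
  have := (Finset.card_le_card (s := ({1, a, a ^ 2, b} : Finset H)) fun x hx => by
    simp only [Finset.mem_insert, Finset.mem_singleton] at hx
    refine Finset.mem_filter.2 ⟨Finset.mem_univ _, ?_⟩
    rcases hx with rfl | rfl | rfl | rfl
    · exact one_pow 3
    · exact ha
    · rw [← pow_mul, mul_comm, pow_mul, ha, one_pow]
    · exact hb).trans hle
  omega

theorem threeCyclic_of_injective {H K : Type*} [Group H] [Group K] [Finite H]
    (hK : ThreeCyclic K) (f : H →* K) (hf : Function.Injective f) : ThreeCyclic H := by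
  intro a b ha hb hab ha1
  have hm := hK (f a) (f b) (by rw [← map_pow, ha, map_one]) (by rw [← map_pow, hb, map_one])
    (by rw [← map_mul, hab, map_mul]) fun e => ha1 (hf (by rw [e, map_one]))
  obtain ⟨k, hk⟩ := hm
  exact ⟨k, hf (by rw [map_zpow]; exact hk)⟩

theorem threeCyclic_dihedral (n : ℕ) [NeZero n] : ThreeCyclic (DihedralGroup n) := by
  intro a b ha hb hab ha1
  have hrot : ∀ x : DihedralGroup n, x ^ 3 = 1 → ∃ i, x = DihedralGroup.r i := by
    rintro (i | i) h
    · exact ⟨i, rfl⟩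
    · exfalso
      rw [pow_succ, sq, DihedralGroup.sr_mul_self, one_mul, DihedralGroup.one_def] at h
      cases h
  obtain ⟨i, rfl⟩ := hrot a ha
  obtain ⟨j, rfl⟩ := hrot b hb
  let f : Multiplicative (ZMod n) →* DihedralGroup n :=
    { toFun := fun x => DihedralGroup.r x.toAdd
      map_one' := rfl
      map_mul' := fun x y => (DihedralGroup.r_mul_r _ _).symm }
  have hf : Function.Injective f := fun x y e => by
    have := DihedralGroup.r.inj e
    exact this
  obtain ⟨k, hk⟩ := threeCyclic_of_cyclic (Multiplicative.ofAdd i) (Multiplicative.ofAdd j)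
    (hf (by rw [map_pow, map_one]; exact ha)) (hf (by rw [map_pow, map_one]; exact hb))
    (mul_comm _ _) (fun e => ha1 (congrArg f e))
  exact ⟨k, by have := congrArg f hk; rwa [map_zpow] at this⟩

theorem threeCyclic_of_card {H : Type*} [Group H] [Finite H] (h : ¬ 9 ∣ Nat.card H) : ThreeCyclic H := by
  intro a b ha hb hab ha1
  by_contra hnot
  have : Fact (Nat.Prime 3) := ⟨Nat.prime_three⟩
  have hoa : orderOf a = 3 := orderOf_eq_prime ha ha1
  refine h ?_
  set A := Subgroup.closure ({a, b} : Set H) with hA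
  have hcomm : ∀ x ∈ A, x * b = b * x ∧ x ^ 3 = 1 ∧ x * a = a * x := by
    intro x hx
    induction hx using Subgroup.closure_induction with
    | mem x hx =>
      rcases hx with rfl | rfl
      · exact ⟨hab, ha, rfl⟩
      · exact ⟨rfl, hb, hab.symm⟩
    | one => simp
    | mul x y hx hy h1 h2 =>
      have hxy : Commute x y := by
        have : y ∈ Subgroup.centralizer ({x} : Set H) := by
          refine (Subgroup.closure_le _).2 ?_ hy
          rintro _ (rfl | rfl) <;> refine Subgroup.mem_centralizer_singleton_iff.2 ?_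
          · exact h1.2.2.symm
          · exact h1.1.symm
        exact (Subgroup.mem_centralizer_singleton_iff.1 this).symm
      exact ⟨(Commute.mul_left h1.1 h2.1 : Commute (x * y) b),
        by rw [hxy.mul_pow, h1.2.1, h2.2.1, one_mul],
        (Commute.mul_left h1.2.2 h2.2.2 : Commute (x * y) a)⟩
    | inv x _ h1 =>
      exact ⟨(Commute.inv_left h1.1 : Commute x⁻¹ b), by rw [inv_pow, h1.2.1, inv_one],
        (Commute.inv_left h1.2.2 : Commute x⁻¹ a)⟩
  have hp : IsPGroup 3 A := fun x => ⟨1, Subtype.ext (by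
    rw [SubmonoidClass.coe_pow, pow_one]; exact (hcomm x x.2).2.1)⟩
  obtain ⟨m, hm⟩ := IsPGroup.iff_card.1 hp
  have hle : Subgroup.zpowers a ≤ A := Subgroup.zpowers_le.2 (Subgroup.subset_closure (Or.inl rfl))
  have h3 : Nat.card (Subgroup.zpowers a) = 3 := by rw [Nat.card_zpowers, hoa]
  rcases m with _ | _ | m
  · have := Subgroup.card_le_of_le hle
    rw [h3, hm] at this; norm_num at this
  · exfalso
    refine hnot ?_
    rw [Subgroup.eq_of_le_of_card_ge hle (by rw [h3, hm]; norm_num)]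
    exact Subgroup.subset_closure (Or.inr rfl)
  · exact (dvd_mul_of_dvd_right (dvd_refl 9) (3 ^ m)).trans
      ((show 3 ^ m * 9 = Nat.card A by rw [hm]; ring) ▸ A.card_subgroup_dvd_card)

variable [Finite T]

/-- No involution centralises an elementary group of order nine. -/
theorem LocalData.no_nine (hd : LocalData T) {t x y : T} (ht : orderOf t = 2) (hx : orderOf x = 3)
    (hy : orderOf y = 3) (hxy : x * y = y * x) (hyx : y ∉ Subgroup.zpowers x)
    (hxt : x * t = t * x) (hyt : y * t = t * y) : False := by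
  set X : Cen t := ⟨x, Subgroup.mem_centralizer_singleton_iff.2 hxt⟩
  set Y : Cen t := ⟨y, Subgroup.mem_centralizer_singleton_iff.2 hyt⟩
  have key : ∀ (H : Type) [Group H], ThreeCyclic H → QuotBy t H → False := by
    intro H _ hH hq
    obtain ⟨f, -, hker⟩ := hq
    have h3 : ∀ Z : Cen t, (Z : T) ^ 3 = 1 → f Z ^ 3 = 1 := fun Z hZ => by
      rw [← map_pow, show Z ^ 3 = 1 from Subtype.ext hZ, map_one]
    have hX1 : f X ≠ 1 := fun e => by
      rcases (hker X).1 e with h | h
      · rw [show x = 1 from h, orderOf_one] at hx; norm_num at hx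
      · rw [show x = t from h, ht] at hx; norm_num at hx
    obtain ⟨k, hk⟩ := hH (f X) (f Y) (h3 X (hx ▸ pow_orderOf_eq_one x)) (h3 Y (hy ▸ pow_orderOf_eq_one y))
      (by rw [← map_mul, show X * Y = Y * X from Subtype.ext hxy, map_mul]) hX1
    have hk' : f (X ^ k * Y⁻¹) = 1 := by
      rw [map_mul, map_zpow, map_inv, show f X ^ k = f Y from hk, mul_inv_cancel]
    rcases (hker _).1 hk' with h | h
    · exact hyx ⟨k, mul_inv_eq_one.1 h⟩
    · have hx3 : x ^ 3 = 1 := by rw [← hx, pow_orderOf_eq_one]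
      have hy3 : y ^ 3 = 1 := by rw [← hy, pow_orderOf_eq_one]
      have h6 : (x ^ k * y⁻¹) ^ 3 = 1 := by
        rw [((Commute.zpow_left (show Commute x y from hxy) k).inv_right).mul_pow, ← zpow_natCast,
          ← zpow_mul, mul_comm k, zpow_mul, zpow_natCast, hx3, _root_.one_zpow,
          one_mul, inv_pow, hy3, inv_one]
      have h7 : x ^ k * y⁻¹ = t := h
      rw [h7] at h6
      have := orderOf_dvd_of_pow_eq_one h6
      rw [ht] at this
      norm_num at this
  rcases hd.shape t ht with ⟨n, hn, hq⟩ | ⟨n, hn, hq⟩ | hq | hq | hq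
  · have : NeZero n := ⟨hn.ne'⟩
    exact key _ threeCyclic_of_cyclic hq
  · have : NeZero n := ⟨hn.ne'⟩
    exact key _ (threeCyclic_dihedral n) hq
  all_goals refine key _ (threeCyclic_of_card ?_) hq
  · rw [nat_card_alternatingGroup, Nat.card_fin]; decide
  · rw [Nat.card_perm, Nat.card_fin]; decide
  · rw [nat_card_alternatingGroup, Nat.card_fin]; decide

/-- The configuration found in `L₃(3)` is impossible. -/
theorem LocalData.false_of_nine (hd : LocalData T) {x y g w : T} (hx : orderOf x = 3) (hy : orderOf y = 3)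
    (hxy : x * y = y * x) (hyx : y ∉ Subgroup.zpowers x) (hgx : g * x * g⁻¹ = x)
    (hgy : g * y * g⁻¹ = y⁻¹) (hwx : w * x * w⁻¹ = y) (hwy : w * y * w⁻¹ = x⁻¹) : False := by
  have hy1 : y⁻¹ ≠ y := fun e => by
    have h2 : y ^ 2 = 1 := by
      rw [sq]; nth_rewrite 1 [← e]; exact inv_mul_cancel y
    have := orderOf_dvd_of_pow_eq_one h2
    rw [hy] at this; norm_num at this
  have hodd : ∀ c : T, c * x = x * c → c * y = y * c → ∀ k : ℕ, orderOf (c ^ k) ≠ 2 := fun c h1 h2 k hk =>
    hd.no_nine hk hx hy hxy hyx (Commute.pow_left h1 k).eq.symm (Commute.pow_left h2 k).eq.symm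
  -- iterated conjugation
  have hgg : (g * g) * x = x * (g * g) ∧ (g * g) * y = y * (g * g) := by
    refine ⟨?_, ?_⟩ <;> rw [← mul_inv_eq_iff_eq_mul]
    · rw [show g * g * x * (g * g)⁻¹ = g * (g * x * g⁻¹) * g⁻¹ by group, hgx, hgx]
    · rw [show g * g * y * (g * g)⁻¹ = g * (g * y * g⁻¹) * g⁻¹ by group, hgy,
        show g * y⁻¹ * g⁻¹ = (g * y * g⁻¹)⁻¹ by group, hgy, inv_inv]
  -- an odd power of `g` is an involution with the same action
  obtain ⟨k, hk⟩ : ∃ k, orderOf (g ^ (2 * k + 1)) = 2 := by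
    have hev : ∀ m : ℕ, orderOf (g * g) ≠ 2 * m := fun m e => by
      refine hodd _ hgg.1 hgg.2 m ?_
      have hm : 0 < m := by have := orderOf_pos (g * g); omega
      have h := orderOf_pow_orderOf_div (x := g * g) (orderOf_pos _).ne' (n := 2) ⟨m, e⟩
      rwa [e, Nat.mul_div_cancel_left _ two_pos] at h
    have hm : Odd (orderOf (g * g)) := Nat.odd_iff.2 (by
      rcases Nat.mod_two_eq_zero_or_one (orderOf (g * g)) with e | e
      · exact absurd (show orderOf (g * g) = 2 * (orderOf (g * g) / 2) by omega) (hev _)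
      · exact e)
    obtain ⟨j, hj⟩ := hm
    refine ⟨j, orderOf_eq_prime (by rw [← pow_mul, mul_comm, pow_mul, sq, ← hj, pow_orderOf_eq_one]) ?_⟩
    intro e
    have hconj : ∀ i : ℕ, (g ^ (2 * i + 1)) * y * (g ^ (2 * i + 1))⁻¹ = y⁻¹ := fun i => by
      have h2 : Commute ((g * g) ^ i) (g * y * g⁻¹) := by
        rw [hgy]; exact (Commute.pow_left hgg.2 i).inv_right
      rw [show g ^ (2 * i + 1) = (g * g) ^ i * g by rw [pow_succ, pow_mul, sq],
        show (g * g) ^ i * g * y * ((g * g) ^ i * g)⁻¹ = (g * g) ^ i * (g * y * g⁻¹) * ((g * g) ^ i)⁻¹ by group,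
        h2.eq, mul_inv_cancel_right, hgy]
    have := hconj j
    rw [e, one_mul, inv_one, mul_one] at this
    exact hy1 this.symm
  set s := g ^ (2 * k + 1) with hs
  have hsx : s * x = x * s := (Commute.pow_left (show Commute g x from mul_inv_eq_iff_eq_mul.1 hgx) _).eq
  have hsy : s * y * s⁻¹ = y⁻¹ := by
    have h2 : Commute ((g * g) ^ k) (g * y * g⁻¹) := by
      rw [hgy]; exact (Commute.pow_left hgg.2 k).inv_right
    rw [hs, show g ^ (2 * k + 1) = (g * g) ^ k * g by rw [pow_succ, pow_mul, sq],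
      show (g * g) ^ k * g * y * ((g * g) ^ k * g)⁻¹ = (g * g) ^ k * (g * y * g⁻¹) * ((g * g) ^ k)⁻¹ by group,
      h2.eq, mul_inv_cancel_right, hgy]
  set a := w * w with ha
  have hax : a * x * a⁻¹ = x⁻¹ := by
    rw [ha, show w * w * x * (w * w)⁻¹ = w * (w * x * w⁻¹) * w⁻¹ by group, hwx, hwy]
  have hay : a * y * a⁻¹ = y⁻¹ := by
    rw [ha, show w * w * y * (w * w)⁻¹ = w * (w * y * w⁻¹) * w⁻¹ by group, hwy,
      show w * x⁻¹ * w⁻¹ = (w * x * w⁻¹)⁻¹ by group, hwx]
  set h := a * s * a⁻¹ with hh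
  have hh2 : orderOf h = 2 := by rw [hh, ← hk]; exact MulEquiv.orderOf_eq (MulAut.conj a) s
  have hai : ∀ z : T, a * z * a⁻¹ = z⁻¹ → a⁻¹ * z * a = z⁻¹ := fun z hz => by
    have e := congrArg (fun v => (a⁻¹ * v * a)⁻¹) hz
    rw [show (a⁻¹ * (a * z * a⁻¹) * a)⁻¹ = z⁻¹ by group,
      show (a⁻¹ * z⁻¹ * a)⁻¹ = a⁻¹ * z * a by group] at e
    exact e.symm
  have hhx : h * x = x * h := by
    rw [← mul_inv_eq_iff_eq_mul, hh, show a * s * a⁻¹ * x * (a * s * a⁻¹)⁻¹ =
      a * (s * (a⁻¹ * x * a) * s⁻¹) * a⁻¹ by group, hai x hax,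
      show s * x⁻¹ * s⁻¹ = (s * x * s⁻¹)⁻¹ by group, mul_inv_eq_iff_eq_mul.2 hsx,
      show a * x⁻¹ * a⁻¹ = (a * x * a⁻¹)⁻¹ by group, hax, inv_inv]
  have hhy : h * y * h⁻¹ = y⁻¹ := by
    rw [hh, show a * s * a⁻¹ * y * (a * s * a⁻¹)⁻¹ = a * (s * (a⁻¹ * y * a) * s⁻¹) * a⁻¹ by group,
      hai y hay, show s * y⁻¹ * s⁻¹ = (s * y * s⁻¹)⁻¹ by group, hsy, inv_inv, hay]
  -- the product of the two involutions centralises both, so has odd order
  set c := h * s with hc
  have hcx : c * x = x * c := by rw [hc, mul_assoc, hsx, ← mul_assoc, hhx, mul_assoc]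
  have hcy : c * y = y * c := by
    rw [← mul_inv_eq_iff_eq_mul, hc, show h * s * y * (h * s)⁻¹ = h * (s * y * s⁻¹) * h⁻¹ by group, hsy,
      show h * y⁻¹ * h⁻¹ = (h * y * h⁻¹)⁻¹ by group, hhy, inv_inv]
  have hcodd : Odd (orderOf c) := by
    rw [Nat.odd_iff]
    rcases Nat.mod_two_eq_zero_or_one (orderOf c) with e | e
    · exact absurd (orderOf_pow_orderOf_div (orderOf_pos c).ne' (n := 2) (Nat.dvd_of_mod_eq_zero e))
        (hodd c hcx hcy _)
    · exact e
  obtain ⟨j, hj⟩ := hcodd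
  have hss : s * s = 1 := by rw [← sq, ← hk, pow_orderOf_eq_one]
  have hhh : h * h = 1 := by rw [← sq, ← hh2, pow_orderOf_eq_one]
  have hsi : s⁻¹ = s := inv_eq_of_mul_eq_one_right hss
  have hscs : ∀ i : ℕ, s * c ^ i * s⁻¹ = (c ^ i)⁻¹ := fun i => by
    have e : s * c * s⁻¹ = c⁻¹ := by
      rw [hc, _root_.mul_inv_rev, hsi, inv_eq_of_mul_eq_one_right hhh, mul_assoc s (h * s), mul_assoc h s s,
        hss, mul_one]
    rw [← conj_pow, e, inv_pow]
  set d := c ^ j with hd'
  -- `d` carries `h` to `s`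
  have hdh : d * h * d⁻¹ = s := by
    have h1 : s * d⁻¹ = d * s := by rw [← hscs j, ← mul_assoc, ← mul_assoc, hss, one_mul, hsi]
    calc d * h * d⁻¹ = d * h * (s * s) * d⁻¹ := by rw [hss, mul_one]
      _ = d * (h * s) * (s * d⁻¹) := by simp [mul_assoc]
      _ = c ^ (2 * j + 1) * s := by rw [h1, ← hc, hd', ← pow_succ, ← mul_assoc, ← pow_add]; ring_nf
      _ = s := by rw [← hj, pow_orderOf_eq_one, one_mul]
  set r := d * a with hr
  have hrs : r * s * r⁻¹ = s := by
    rw [hr, show d * a * s * (d * a)⁻¹ = d * (a * s * a⁻¹) * d⁻¹ by group, ← hh, hdh]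
  have hdx : d * x * d⁻¹ = x := mul_inv_eq_iff_eq_mul.2 (Commute.pow_left hcx j).eq
  have hrx : r * x * r⁻¹ = x⁻¹ := by
    rw [hr, show d * a * x * (d * a)⁻¹ = d * (a * x * a⁻¹) * d⁻¹ by group, hax,
      show d * x⁻¹ * d⁻¹ = (d * x * d⁻¹)⁻¹ by group, hdx]
  have hx1 : x ≠ 1 := fun e => by rw [e, orderOf_one] at hx; norm_num at hx
  have hxs : x ≠ s := fun e => by rw [e, hk] at hx; norm_num at hx
  have hys := hd.ti s r x y hk (Subgroup.mem_centralizer_singleton_iff.2 (mul_inv_eq_iff_eq_mul.1 hrs))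
    (Subgroup.mem_centralizer_singleton_iff.2 hsx.symm) hx1 hxs hrx hxy.symm
    (fun e => absurd (orderOf_dvd_of_pow_eq_one (show x ^ 2 = 1 by rw [sq, e]))
      (by rw [hx]; decide)) ⟨s, hsx, hsy⟩
  refine hy1 ?_
  rw [← hsy, ← Subgroup.mem_centralizer_singleton_iff.1 hys, mul_inv_cancel_right]

end CfsgLib.Mitchell
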