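import Cfsg.Agent.S2916
import Cfsg.Agent.Lib.Golay.Mathieu
import Cfsg.Agent.Lib.Sporadic.M11Shape

/-!
Simple groups with an involution centralizer isomorphic to `GL₂(3)`: elements used to rule them out
as subgroups of small linear groups.
-/

set_option autoImplicit false

namespace CfsgLib.Mitchell

open Subgroup
open scoped MatrixGroups

theorem sporM11_five {T : Type*} [Group T] [Finite T] [IsSimpleGroup T]
    (hcard : Nat.card T = 7920) : ∃ h : T, orderOf h = 5 ∧ IsConj h (h ^ 2) := by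
  haveI : Fact (Nat.Prime 5) := ⟨by norm_num⟩
  obtain ⟨h, hh⟩ := exists_prime_orderOf_dvd_card' (G := T) 5 (by rw [hcard]; norm_num)
  refine ⟨h, hh, (CfsgLib.Sporadic.M11.five_data hcard
    (CfsgLib.Sporadic.M11.involution_five hcard) hh).2 _ (npow_mem_zpowers h 2) fun e => ?_⟩
  have := Nat.le_of_dvd (by norm_num) (orderOf_dvd_of_pow_eq_one e)
  omega

theorem sporM11_eleven {T : Type*} [Group T] [Finite T] [IsSimpleGroup T]
    (hcard : Nat.card T = 7920) : ∃ k : T, orderOf k = 11 ∧ IsConj k (k ^ 3) := by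
  haveI : Fact (Nat.Prime 5) := ⟨by norm_num⟩
  haveI : Fact (Nat.Prime 11) := ⟨by norm_num⟩
  obtain ⟨P⟩ := (inferInstance : Nonempty (Sylow 11 T))
  have hN := CfsgLib.Sporadic.M11.card_normalizer_eleven hcard P
  obtain ⟨k, hk⟩ := exists_prime_orderOf_dvd_card' (G := T) 11 (by rw [hcard]; norm_num)
  obtain ⟨Q, hkQ, -⟩ := CfsgLib.Small.exists_unique_sylow_mem hk
    (CfsgLib.Sporadic.M11.card_sylow_eleven_eq hcard)
  have hQ := CfsgLib.Small.eq_zpowers_of_mem (CfsgLib.Sporadic.M11.card_sylow_eleven_eq hcard Q) hkQ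
    (fun h => by simp [h] at hk)
  have hN' := CfsgLib.Sporadic.M11.card_normalizer_eleven hcard Q
  obtain ⟨n, hn⟩ := exists_prime_orderOf_dvd_card'
    (G := normalizer ((Q : Subgroup T) : Set T)) 5 (by rw [hN']; norm_num)
  obtain ⟨n, hnmem⟩ := n
  rw [Subgroup.orderOf_mk] at hn
  have him : n * k * n⁻¹ ∈ zpowers k := by
    have h := ((Subgroup.mem_normalizer_iff.1 hnmem) k).1 hkQ
    rwa [hQ] at h
  rw [← mem_powers_iff_mem_zpowers, Submonoid.mem_powers_iff] at him
  obtain ⟨a₀, ha₀⟩ := him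
  obtain ⟨a, ha, halt⟩ : ∃ a, n * k * n⁻¹ = k ^ a ∧ a < 11 :=
    ⟨a₀ % 11, by rw [← ha₀, ← pow_mod_orderOf, hk], Nat.mod_lt _ (by norm_num)⟩
  have hiter : ∀ j : ℕ, n ^ j * k * (n ^ j)⁻¹ = k ^ (a ^ j) := by
    intro j
    induction j with
    | zero => simp
    | succ j ih =>
      calc n ^ (j + 1) * k * (n ^ (j + 1))⁻¹ = n * (n ^ j * k * (n ^ j)⁻¹) * n⁻¹ := by
            rw [pow_succ']; group
        _ = k ^ (a ^ (j + 1)) := by rw [ih, ← conj_pow, ha, ← pow_mul, pow_succ']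
  have h5 : a ^ 5 % 11 = 1 := by
    have h := hiter 5
    rw [← hn, pow_orderOf_eq_one, hn, one_mul, inv_one, mul_one] at h
    have h' : k ^ (a ^ 5) = k ^ 1 := by rw [pow_one]; exact h.symm
    rw [pow_inj_mod, hk] at h'
    simpa using h'
  have hne : a ≠ 1 := by
    rintro rfl
    rw [pow_one, mul_inv_eq_iff_eq_mul] at ha
    have hmem : n ∈ zpowers k :=
      CfsgLib.Sporadic.M11.centralizer_le_zpowers hcard hk (mem_centralizer_singleton_iff.2 ha)
    have hd := orderOf_dvd_natCard (⟨n, hmem⟩ : zpowers k)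
    rw [Subgroup.orderOf_mk, hn, Nat.card_zpowers, hk] at hd
    norm_num at hd
  obtain ⟨j, hj⟩ : ∃ j, a ^ j % 11 = 3 := by
    have key : ∀ b < 11, b ^ 5 % 11 = 1 → b ≠ 1 → ∃ j : Fin 5, b ^ j.val % 11 = 3 := by decide
    obtain ⟨j, hj⟩ := key a halt h5 hne
    exact ⟨j, hj⟩
  refine ⟨k, hk, isConj_iff.2 ⟨n ^ j, ?_⟩⟩
  rw [hiter, ← pow_mod_orderOf, hk, hj]

/-- The configuration of four elements of `SL₃(3)`. -/
theorem sl_three_three_data : ∃ x y g w : SL(3, ZMod 3), orderOf x = 3 ∧ orderOf y = 3 ∧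
    x * y = y * x ∧ y ∉ zpowers x ∧ g * x * g⁻¹ = x ∧ g * y * g⁻¹ = y⁻¹ ∧ w * x * w⁻¹ = y ∧
    w * y * w⁻¹ = x⁻¹ := by
  let x : SL(3, ZMod 3) := ⟨!![1, 1, 0; 0, 1, 0; 0, 0, 1], by decide +kernel⟩
  let y : SL(3, ZMod 3) := ⟨!![1, 0, 1; 0, 1, 0; 0, 0, 1], by decide +kernel⟩
  let g : SL(3, ZMod 3) := ⟨!![2, 0, 0; 0, 2, 0; 0, 0, 1], by decide +kernel⟩
  let w : SL(3, ZMod 3) := ⟨!![1, 0, 0; 0, 0, 2; 0, 1, 0], by decide +kernel⟩
  haveI : Fact (Nat.Prime 3) := ⟨by norm_num⟩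
  have hx : orderOf x = 3 := orderOf_eq_prime (Subtype.ext (by decide +kernel))
    (fun h => absurd (congrArg Subtype.val h) (by decide +kernel))
  have hy : orderOf y = 3 := orderOf_eq_prime (Subtype.ext (by decide +kernel))
    (fun h => absurd (congrArg Subtype.val h) (by decide +kernel))
  refine ⟨x, y, g, w, hx, hy, Subtype.ext (by decide +kernel), fun hmem => ?_, mul_inv_eq_iff_eq_mul.2 ?_,
    mul_inv_eq_iff_eq_mul.2 ?_, mul_inv_eq_iff_eq_mul.2 ?_, mul_inv_eq_iff_eq_mul.2 ?_⟩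
  · rw [← mem_powers_iff_mem_zpowers, Submonoid.mem_powers_iff] at hmem
    obtain ⟨j, hj⟩ := hmem
    rw [← pow_mod_orderOf, hx] at hj
    have key : ∀ i : Fin 3, (x ^ i.val).1 ≠ y.1 := by decide +kernel
    exact key ⟨_, Nat.mod_lt _ (by norm_num)⟩ (congrArg Subtype.val hj)
  · exact Subtype.ext (by decide +kernel)
  · exact Subtype.ext (by decide +kernel)
  · exact Subtype.ext (by decide +kernel)
  · exact Subtype.ext (by decide +kernel)

theorem exists_orderOf_three_gl_two_three : ∃ u : GL (Fin 2) (ZMod 3), orderOf u = 3 := by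
  let u : GL (Fin 2) (ZMod 3) :=
    ⟨!![1, 1; 0, 1], !![1, 2; 0, 1], by decide +kernel, by decide +kernel⟩
  haveI : Fact (Nat.Prime 3) := ⟨by norm_num⟩
  exact ⟨u, orderOf_eq_prime (by decide +kernel) (by decide +kernel)⟩

theorem eq_one_of_cube_eq_one : ∀ s : ZMod 3, s ^ 3 = 1 → s = 1 := by decide

/-- A simple group with an involution centralizer isomorphic to `GL₂(3)` is `L₃(3)` or `M₁₁`:
it has a real-type element of order five, or a pair of commuting elements of order three moved as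
in `L₃(3)`. -/
theorem gl23_obstruction {T : Type*} [Group T] [Finite T] [IsSimpleGroup T] (t : T)
    (ht : orderOf t = 2)
    (hC : centralizer ({t} : Set T) ≃* GL (Fin 2) (ZMod 3)) :
    ((∃ h : T, orderOf h = 5 ∧ IsConj h (h ^ 2)) ∧ ∃ k : T, orderOf k = 11 ∧ IsConj k (k ^ 3)) ∨
      ∃ x y g w : T, orderOf x = 3 ∧ orderOf y = 3 ∧ x * y = y * x ∧ y ∉ zpowers x ∧
        g * x * g⁻¹ = x ∧ g * y * g⁻¹ = y⁻¹ ∧ w * x * w⁻¹ = y ∧ w * y * w⁻¹ = x⁻¹ := by
  haveI : Fact (Nat.Prime 3) := ⟨by norm_num⟩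
  have hO : Cfsg.pResidual 2 T = ⊤ := by
    have hn : (Cfsg.pResidual 2 T).Normal := by
      refine ⟨fun a ha g => ?_⟩
      have hle : (Cfsg.pResidual 2 T).map (MulAut.conj g).toMonoidHom ≤ Cfsg.pResidual 2 T := by
        rw [Cfsg.pResidual, MonoidHom.map_closure]
        refine closure_mono ?_
        rintro - ⟨b, hb, rfl⟩
        show Nat.Coprime (orderOf (MulAut.conj g b)) 2
        rw [MulEquiv.orderOf_eq]
        exact hb
      exact hle ⟨a, ha, rfl⟩
    refine hn.eq_bot_or_eq_top.resolve_left fun hbot => ?_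
    obtain ⟨u, hu⟩ := exists_orderOf_three_gl_two_three
    have h3 : orderOf ((hC.symm u : centralizer ({t} : Set T)) : T) = 3 := by
      rw [Subgroup.orderOf_coe, MulEquiv.orderOf_eq, hu]
    have hmem : ((hC.symm u : centralizer ({t} : Set T)) : T) ∈ Cfsg.pResidual 2 T :=
      subset_closure (show Nat.Coprime _ 2 by rw [h3]; norm_num)
    rw [hbot, Subgroup.mem_bot] at hmem
    rw [hmem, orderOf_one] at h3
    norm_num at h3
  rcases Cfsg.Agent.S2916.result hO t ht ⟨hC⟩ with ⟨F, _, _, hF, ⟨e⟩⟩ | ⟨⟨e⟩⟩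
  · right
    let f : ZMod 3 ≃+* F := ZMod.ringEquivOfPrime F (by norm_num) hF
    let Φ : SL(3, ZMod 3) →* T := e.symm.toMonoidHom.comp
      ((QuotientGroup.mk' (center (SL(3, F)))).comp
        (Matrix.SpecialLinearGroup.map f.toRingHom))
    have hΦ : Function.Injective Φ := by
      rw [injective_iff_map_eq_one]
      intro A hA
      have h1 : Matrix.SpecialLinearGroup.map f.toRingHom A ∈ center (SL(3, F)) :=
        (QuotientGroup.eq_one_iff _).1 (e.symm.injective (hA.trans (map_one e.symm).symm))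
      obtain ⟨r, hr, hr'⟩ := Matrix.SpecialLinearGroup.mem_center_iff.1 h1
      have hr1 : r = 1 := by
        have hr3 : r ^ 3 = 1 := by simpa using hr
        have h2 := eq_one_of_cube_eq_one (f.symm r) (by rw [← map_pow, hr3, map_one])
        simpa using congrArg f h2
      subst hr1
      refine Subtype.ext (Matrix.ext fun i j => f.injective ?_)
      have := congrFun (congrFun hr' i) j
      simp [Matrix.one_apply] at this ⊢
      rw [← this]
    obtain ⟨x, y, g, w, hx, hy, hxy, hyx, hgx, hgy, hwx, hwy⟩ := sl_three_three_data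
    refine ⟨Φ x, Φ y, Φ g, Φ w, by rw [orderOf_injective Φ hΦ, hx],
      by rw [orderOf_injective Φ hΦ, hy], by rw [← map_mul, ← map_mul, hxy], fun h => hyx ?_,
      by rw [← map_inv, ← map_mul, ← map_mul, hgx],
      by rw [← map_inv, ← map_inv, ← map_mul, ← map_mul, hgy],
      by rw [← map_inv, ← map_mul, ← map_mul, hwx],
      by rw [← map_inv, ← map_inv, ← map_mul, ← map_mul, hwy]⟩
    obtain ⟨m, hm⟩ := mem_zpowers_iff.1 h
    exact mem_zpowers_iff.2 ⟨m, hΦ (by rw [map_zpow]; exact hm)⟩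
  · left
    have hcard : Nat.card T = 7920 := by
      rw [Nat.card_congr e.toEquiv, CfsgLib.Golay.natCard_sporM11]
    exact ⟨sporM11_five hcard, sporM11_eleven hcard⟩

end CfsgLib.Mitchell
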