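import Cfsg.Agent.Lib.Mitchell.Basic

/-!
Involutions of `SL₃` in odd characteristic, in groups without transvections.
-/

set_option autoImplicit false
set_option linter.unusedSectionVars false

namespace CfsgLib.Mitchell

open Cfsg Cfsg.Geo Matrix CfsgLib.Geo.Asch CfsgLib.GeomClasses
open scoped MatrixGroups

variable {F : Type*} [Field F] {P : Subgroup (GL (Fin 3) F)}

/-- No non-trivial transvection. -/
def NoRoot (P : Subgroup (GL (Fin 3) F)) : Prop := ∀ u φ : Fin 3 → F, Root P u φ → tv u φ = 1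

/-- A square-zero rank one perturbation of the identity is trivial. -/
theorem NoRoot.eq_one (hP : NoRoot P) {g : GL (Fin 3) F} (hg : g ∈ P) {v ψ : Fin 3 → F}
    (h : ψ ⬝ᵥ v = 0) (he : (g : Matrix (Fin 3) (Fin 3) F) = 1 + vecMulVec v ψ) : g = 1 := by
  have e : g = tv v ψ := Units.ext (by rw [he, tv_val h])
  rw [e]
  exact hP v ψ ⟨h, e ▸ hg⟩

/-- The reflection with centre `u` and axis `ker φ`, times `-1`. -/
noncomputable def refl (u φ : Fin 3 → F) : GL (Fin 3) F := by
  classical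
  exact if h : φ ⬝ᵥ u = 1 then
    ⟨(2 : F) • vecMulVec u φ - 1, (2 : F) • vecMulVec u φ - 1, by
      simp only [sub_mul, mul_sub, Matrix.smul_mul, Matrix.mul_smul, vecMulVec_mul_vecMulVec, h, one_smul,
        one_mul, mul_one, smul_smul]
      ext i j
      simp only [Matrix.sub_apply, Matrix.smul_apply, smul_eq_mul]
      ring, by
      simp only [sub_mul, mul_sub, Matrix.smul_mul, Matrix.mul_smul, vecMulVec_mul_vecMulVec, h, one_smul,
        one_mul, mul_one, smul_smul]
      ext i j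
      simp only [Matrix.sub_apply, Matrix.smul_apply, smul_eq_mul]
      ring⟩
  else 1

theorem refl_val {u φ : Fin 3 → F} (h : φ ⬝ᵥ u = 1) :
    (refl u φ : Matrix (Fin 3) (Fin 3) F) = (2 : F) • vecMulVec u φ - 1 := by
  rw [refl, dif_pos h]

theorem refl_mulVec {u φ : Fin 3 → F} (h : φ ⬝ᵥ u = 1) (x : Fin 3 → F) :
    (refl u φ : Matrix (Fin 3) (Fin 3) F) *ᵥ x = (2 * (φ ⬝ᵥ x)) • u - x := by
  rw [refl_val h, Matrix.sub_mulVec, Matrix.smul_mulVec, vecMulVec_mulVec, Matrix.one_mulVec,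
    op_smul_eq_smul, smul_smul]

theorem vecMul_refl {u φ : Fin 3 → F} (h : φ ⬝ᵥ u = 1) (χ : Fin 3 → F) :
    χ ᵥ* (refl u φ : Matrix (Fin 3) (Fin 3) F) = (2 * (χ ⬝ᵥ u)) • φ - χ := by
  rw [refl_val h, Matrix.vecMul_sub, Matrix.vecMul_smul, vecMul_vecMulVec, Matrix.vecMul_one, smul_smul]

theorem refl_sq {u φ : Fin 3 → F} (h : φ ⬝ᵥ u = 1) : refl u φ * refl u φ = 1 := by
  refine gl_ext fun x => ?_
  rw [gl_mul_mulVec, refl_mulVec h, refl_mulVec h, dotProduct_sub, dotProduct_smul, h, Units.val_one,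
    Matrix.one_mulVec, smul_eq_mul, mul_one, sub_sub_eq_add_sub]
  rw [show 2 * (2 * (φ ⬝ᵥ x) - φ ⬝ᵥ x) = 2 * (φ ⬝ᵥ x) by ring, add_sub_cancel_left]

theorem refl_smul {u φ : Fin 3 → F} {c : F} (h : φ ⬝ᵥ (c • u) = 1) :
    refl (c • u) φ = refl u (c • φ) := by
  have h' : (c • φ) ⬝ᵥ u = 1 := by rw [smul_dotProduct, ← dotProduct_smul]; exact h
  refine Units.ext ?_
  rw [refl_val h, refl_val h', smul_vecMulVec, vecMulVec_smul]

theorem conj_refl (g : GL (Fin 3) F) {u φ : Fin 3 → F} (h : φ ⬝ᵥ u = 1) :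
    (φ ᵥ* ((g⁻¹ : GL (Fin 3) F) : Matrix (Fin 3) (Fin 3) F)) ⬝ᵥ ((g : Matrix (Fin 3) (Fin 3) F) *ᵥ u) = 1 ∧
    g * refl u φ * g⁻¹ = refl ((g : Matrix (Fin 3) (Fin 3) F) *ᵥ u)
      (φ ᵥ* ((g⁻¹ : GL (Fin 3) F) : Matrix (Fin 3) (Fin 3) F)) := by
  have h' : (φ ᵥ* ((g⁻¹ : GL (Fin 3) F) : Matrix (Fin 3) (Fin 3) F)) ⬝ᵥ
      ((g : Matrix (Fin 3) (Fin 3) F) *ᵥ u) = 1 := by
    rw [← dotProduct_mulVec, gl_inv_mulVec_mulVec, h]
  refine ⟨h', Units.ext ?_⟩
  rw [refl_val h', Units.val_mul, Units.val_mul, refl_val h, Matrix.mul_sub, Matrix.sub_mul, mul_one,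
    ← Units.val_mul, mul_inv_cancel, Units.val_one, Matrix.mul_smul, Matrix.smul_mul, mul_vecMulVec,
    vecMulVec_mul]

/-- Centralising elements of a reflection fix centre and axis. -/
theorem eigen_of_commute_refl (h2 : (2 : F) ≠ 0) {u φ : Fin 3 → F} (h : φ ⬝ᵥ u = 1)
    {g : GL (Fin 3) F} (hg : g * refl u φ = refl u φ * g) :
    ∃ a : F, a ≠ 0 ∧ (g : Matrix (Fin 3) (Fin 3) F) *ᵥ u = a • u ∧
      φ ᵥ* (g : Matrix (Fin 3) (Fin 3) F) = a • φ := by
  set M := (g : Matrix (Fin 3) (Fin 3) F) with hM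
  set a := φ ⬝ᵥ (M *ᵥ u) with ha
  have hgu : M *ᵥ u = a • u := by
    have h1 := congrArg (fun x : GL (Fin 3) F => (x : Matrix (Fin 3) (Fin 3) F) *ᵥ u) hg
    simp only [gl_mul_mulVec, refl_mulVec h, h, mul_one, ← hM] at h1
    rw [two_smul, add_sub_cancel_right] at h1
    funext i
    have h3 := congrFun h1 i
    simp only [Pi.sub_apply, Pi.smul_apply, smul_eq_mul] at h3 ⊢
    exact mul_left_cancel₀ h2 (by linear_combination h3)
  have hu0 : u ≠ 0 := fun e => by rw [e, dotProduct_zero] at h; exact zero_ne_one h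
  refine ⟨a, fun e => gl_mulVec_ne_zero g hu0 (by rw [← hM, hgu, e, zero_smul]), hgu, ?_⟩
  have h1 := congrArg (fun x : GL (Fin 3) F => φ ᵥ* (x : Matrix (Fin 3) (Fin 3) F)) hg
  simp only [Units.val_mul, ← Matrix.vecMul_vecMul, vecMul_refl h, h, mul_one, ← hM] at h1
  rw [two_smul, add_sub_cancel_right] at h1
  rw [← dotProduct_mulVec, ← ha] at h1
  funext i
  have h3 := congrFun h1 i
  simp only [Pi.sub_apply, Pi.smul_apply, smul_eq_mul] at h3 ⊢
  exact mul_left_cancel₀ h2 (by linear_combination -h3)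

theorem commute_refl_of_eigen {u φ : Fin 3 → F} (h : φ ⬝ᵥ u = 1) {g : GL (Fin 3) F} {a : F}
    (h1 : (g : Matrix (Fin 3) (Fin 3) F) *ᵥ u = a • u)
    (h3 : φ ᵥ* (g : Matrix (Fin 3) (Fin 3) F) = a • φ) : g * refl u φ = refl u φ * g := by
  refine gl_ext fun x => ?_
  rw [gl_mul_mulVec, gl_mul_mulVec, refl_mulVec h, refl_mulVec h, Matrix.mulVec_sub, Matrix.mulVec_smul,
    h1, dotProduct_mulVec, h3, smul_dotProduct, smul_eq_mul, smul_smul]
  ring_nf

/-- `adj M` and Cayley–Hamilton in dimension three. -/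
theorem adj_cayley_three (M : Matrix (Fin 3) (Fin 3) F) :
    M ^ 3 = M.trace • M ^ 2 - (Matrix.adjugate M).trace • M +
      M.det • (1 : Matrix (Fin 3) (Fin 3) F) := by
  rw [Matrix.adjugate_fin_three, Matrix.det_fin_three]
  ext i j
  fin_cases i <;> fin_cases j <;>
    simp [pow_succ, Matrix.mul_apply, Fin.sum_univ_three, Matrix.trace] <;> ring

/-- An involution of `SL₃` is a reflection times `-1`. -/
theorem exists_refl (h2 : (2 : F) ≠ 0) {g : GL (Fin 3) F} (hg : g * g = 1)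
    (hdet : (g : Matrix (Fin 3) (Fin 3) F).det = 1) (hne : g ≠ 1) :
    ∃ u φ : Fin 3 → F, φ ⬝ᵥ u = 1 ∧ g = refl u φ := by
  set M := (g : Matrix (Fin 3) (Fin 3) F) with hM
  have hMM : M * M = 1 := by rw [hM, ← Units.val_mul, hg, Units.val_one]
  have hadj : Matrix.adjugate M = M := by
    calc Matrix.adjugate M = Matrix.adjugate M * M * M := by rw [mul_assoc, hMM, mul_one]
      _ = M := by rw [Matrix.adjugate_mul, hdet, one_smul, one_mul]
  have hch := adj_cayley_three M
  rw [hadj, hdet, one_smul, show M ^ 3 = M by rw [pow_succ, sq, hMM, one_mul], sq, hMM] at hch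
  have htr : M.trace = -1 := by
    by_contra ht
    refine hne (Units.ext ?_)
    rw [← hM, Units.val_one]
    have h0 : (M.trace + 1) • (M - 1) = 0 := by
      ext i j
      have := congrFun (congrFun hch i) j
      simp only [Matrix.add_apply, Matrix.sub_apply, Matrix.smul_apply, smul_eq_mul, Matrix.zero_apply] at this ⊢
      linear_combination this
    exact sub_eq_zero.1 ((smul_eq_zero.1 h0).resolve_left fun e => ht (eq_neg_of_add_eq_zero_left e))
  set E : Matrix (Fin 3) (Fin 3) F := (2 : F)⁻¹ • (M + 1) with hE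
  have hEE : E * E = E := by
    rw [hE, Matrix.smul_mul, Matrix.mul_smul, smul_smul]
    ext i j
    simp only [add_mul, mul_add, hMM, one_mul, mul_one, Matrix.smul_apply, Matrix.add_apply, smul_eq_mul]
    field_simp
    ring
  have hEtr : E.trace = 1 := by
    rw [hE, Matrix.trace_smul, Matrix.trace_add, htr, Matrix.trace_one, Fintype.card_fin, smul_eq_mul]
    push_cast
    field_simp
    ring
  let L := Matrix.toLin' E
  have hproj : LinearMap.IsProj (LinearMap.range L) L := by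
    refine ⟨fun x => LinearMap.mem_range_self L x, ?_⟩
    rintro _ ⟨y, rfl⟩
    simp only [L, Matrix.toLin'_apply, Matrix.mulVec_mulVec, hEE]
  have hr := hproj.trace
  rw [show LinearMap.trace F _ L = E.trace from Matrix.trace_toLin'_eq E, hEtr] at hr
  have hle : Module.finrank F L.range ≤ 3 := by
    have := Submodule.finrank_le L.range
    rwa [Module.finrank_fintype_fun_eq_card, Fintype.card_fin] at this
  have hr1 : Module.finrank F L.range = 1 := by
    interval_cases hn : Module.finrank F L.range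
    · simp at hr
    · rfl
    · exfalso; push_cast at hr; exact one_ne_zero (α := F) (by linear_combination -hr)
    · exfalso
      refine hne (Units.ext ?_)
      rw [← hM, Units.val_one]
      have htop : L.range = ⊤ := Submodule.eq_top_of_finrank_eq (by
        rw [hn, Module.finrank_fintype_fun_eq_card, Fintype.card_fin])
      have hE1 : E = 1 := Matrix.ext_of_mulVec_single fun j => by
        rw [Matrix.one_mulVec]
        exact hproj.map_id _ (htop ▸ Submodule.mem_top)
      have h22 := congrArg (fun X => (2 : F) • X) hE1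
      simp only [hE, smul_inv_smul₀ h2] at h22
      rw [eq_sub_of_add_eq h22, two_smul, add_sub_cancel_right]
  obtain ⟨v, hv, hspan⟩ := finrank_eq_one_iff'.1 hr1
  choose c hc using fun x : Fin 3 → F => hspan ⟨E *ᵥ x, x, rfl⟩
  set φ : Fin 3 → F := fun j => c (Pi.single j 1) with hφ
  have hEv : E = vecMulVec v.1 φ := by
    ext i j
    have := congrFun (congrArg Subtype.val (hc (Pi.single j 1))) i
    simp only [SetLike.val_smul, Pi.smul_apply, smul_eq_mul, Matrix.mulVec_single_one] at this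
    rw [vecMulVec_apply, mul_comm]
    exact this.symm
  have hφv : φ ⬝ᵥ v.1 = 1 := by
    rw [← hEtr, hEv, Matrix.trace_vecMulVec, dotProduct_comm]
  refine ⟨v.1, φ, hφv, Units.ext ?_⟩
  rw [refl_val hφv, ← hEv, hE, smul_inv_smul₀ h2, add_sub_cancel_right]

/-- Reflections in a group without transvections are determined by their centres. -/
theorem refl_unique_centre (h2 : (2 : F) ≠ 0) (hP : NoRoot P) {u φ ψ : Fin 3 → F} (hφ : φ ⬝ᵥ u = 1)
    (hψ : ψ ⬝ᵥ u = 1) (h1 : refl u φ ∈ P) (h3 : refl u ψ ∈ P) : φ = ψ := by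
  have h0 : ((2 : F) • (ψ - φ)) ⬝ᵥ u = 0 := by simp [sub_dotProduct, hφ, hψ]
  have hval : ((refl u φ * refl u ψ : GL (Fin 3) F) : Matrix (Fin 3) (Fin 3) F) =
      1 + vecMulVec u ((2 : F) • (ψ - φ)) := by
    rw [Units.val_mul, refl_val hφ, refl_val hψ]
    simp only [sub_mul, mul_sub, Matrix.smul_mul, Matrix.mul_smul, vecMulVec_mul_vecMulVec, hφ, one_smul,
      one_mul, mul_one, smul_smul]
    ext i j
    simp [vecMulVec_apply]
    ring
  have h4 := congrArg (fun g : GL (Fin 3) F => (g : Matrix (Fin 3) (Fin 3) F))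
    (hP.eq_one (P.mul_mem h1 h3) h0 hval)
  simp only [hval, Units.val_one, add_eq_left] at h4
  have hu0 : u ≠ 0 := fun e => by rw [e, dotProduct_zero] at hφ; exact zero_ne_one hφ
  obtain ⟨i, hi⟩ := Function.ne_iff.1 hu0
  funext j
  have := congrFun (congrFun h4 i) j
  rw [vecMulVec_apply, Matrix.zero_apply, mul_eq_zero] at this
  have := (this.resolve_left hi)
  simp only [Pi.smul_apply, Pi.sub_apply, smul_eq_mul, mul_eq_zero, h2, false_or, sub_eq_zero] at this
  exact this.symm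

/-- Reflections whose centres lie on each other's axes in one direction do so in both. -/
theorem orth_symm (h2 : (2 : F) ≠ 0) (hP : NoRoot P) {u φ v ψ : Fin 3 → F} (hu : φ ⬝ᵥ u = 1)
    (hv : ψ ⬝ᵥ v = 1) (hgu : refl u φ ∈ P) (hgv : refl v ψ ∈ P) (h0 : φ ⬝ᵥ v = 0) : ψ ⬝ᵥ u = 0 := by
  obtain ⟨h', hc⟩ := conj_refl (refl u φ) hv
  have hmem : refl u φ * refl v ψ * (refl u φ)⁻¹ ∈ P := P.mul_mem (P.mul_mem hgu hgv) (P.inv_mem hgu)
  rw [hc] at hmem
  rw [inv_eq_of_mul_eq_one_right (refl_sq hu), refl_mulVec hu, vecMul_refl hu, h0, mul_zero, zero_smul,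
    zero_sub] at hmem h'
  rw [show -v = (-1 : F) • v by simp] at hmem h'
  rw [refl_smul h'] at hmem
  rw [dotProduct_smul, ← smul_dotProduct] at h'
  have e := refl_unique_centre h2 hP hv h' hgv hmem
  by_contra hne
  -- then the axes agree
  have hk : (2 * (ψ ⬝ᵥ u)) • φ = 0 := by
    simp only [neg_smul, one_smul, neg_sub] at e
    exact sub_eq_self.1 e.symm
  rw [smul_eq_zero] at hk
  rcases hk with hk | hk
  · exact hne ((mul_eq_zero.1 hk).resolve_left h2)
  · rw [hk, zero_dotProduct] at hu; exact zero_ne_one hu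

theorem refl_commute {u φ v ψ : Fin 3 → F} (hu : φ ⬝ᵥ u = 1) (hv : ψ ⬝ᵥ v = 1) (h1 : φ ⬝ᵥ v = 0)
    (h3 : ψ ⬝ᵥ u = 0) : refl u φ * refl v ψ = refl v ψ * refl u φ := by
  refine gl_ext fun x => ?_
  simp only [gl_mul_mulVec, refl_mulVec hu, refl_mulVec hv, dotProduct_sub, dotProduct_smul, h1, h3,
    smul_eq_mul, mul_zero, zero_sub, mul_neg, neg_smul]
  abel

variable (p : ℕ) [Fact p.Prime] [CharP F p]

/-- A unipotent element fixing two independent points is a transvection. -/
theorem eq_one_of_unipotent (hP : NoRoot P) {k : GL (Fin 3) F} (hk : k ∈ P) (hp : k ^ p = 1)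
    {x y : Fin 3 → F} (hxy : LinearIndependent F ![x, y])
    (hx : (k : Matrix (Fin 3) (Fin 3) F) *ᵥ x = x) (hy : (k : Matrix (Fin 3) (Fin 3) F) *ᵥ y = y) :
    k = 1 := by
  set N : Matrix (Fin 3) (Fin 3) F := (k : Matrix (Fin 3) (Fin 3) F) - 1 with hN
  have hNp : N ^ p = 0 := by
    rw [hN, sub_pow_char_of_commute _ (Commute.one_right _), one_pow, ← Units.val_pow_eq_pow_val, hp,
      Units.val_one, sub_self]
  by_contra hne
  have hN0 : N ≠ 0 := fun e => hne (Units.ext (by rw [Units.val_one]; exact sub_eq_zero.1 e))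
  let L := Matrix.toLin' N
  have hker : 2 ≤ Module.finrank F L.ker := by
    have hs : Submodule.span F (Set.range ![x, y]) ≤ L.ker := by
      rw [Submodule.span_le]
      rintro _ ⟨i, rfl⟩
      fin_cases i <;> simp [L, hN, hx, hy]
    have := Submodule.finrank_mono hs
    rwa [finrank_span_eq_card hxy, Fintype.card_fin] at this
  have hsum := L.finrank_range_add_finrank_ker
  rw [Module.finrank_fintype_fun_eq_card, Fintype.card_fin] at hsum
  have hne' : L.range ≠ ⊥ := fun e => hN0 (by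
    have : L = 0 := LinearMap.range_eq_bot.1 e
    exact Matrix.toLin'.injective (by simpa [L] using this))
  have hr1 : Module.finrank F L.range = 1 := by
    have : Module.finrank F L.range ≠ 0 := fun e => hne' (Submodule.finrank_eq_zero.1 e)
    omega
  obtain ⟨v, hv, hspan⟩ := finrank_eq_one_iff'.1 hr1
  choose c hc using fun z : Fin 3 → F => hspan ⟨N *ᵥ z, z, rfl⟩
  set φ : Fin 3 → F := fun j => c (Pi.single j 1) with hφ
  have hNe : N = vecMulVec v.1 φ := by
    ext i j
    have := congrFun (congrArg Subtype.val (hc (Pi.single j 1))) i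
    simp only [SetLike.val_smul, Pi.smul_apply, smul_eq_mul, Matrix.mulVec_single_one] at this
    rw [vecMulVec_apply, mul_comm]
    exact this.symm
  have hdot : φ ⬝ᵥ v.1 = 0 := by
    have h := congrArg Matrix.trace hNp
    have hpow : ∀ n : ℕ, N ^ (n + 1) = (φ ⬝ᵥ v.1) ^ n • N := by
      intro n
      induction n with
      | zero => simp
      | succ n ih =>
        have hsq : N * N = (φ ⬝ᵥ v.1) • N := by
          rw [hNe, vecMulVec_mul_vecMulVec, vecMulVec_smul]
        rw [pow_succ, ih, Matrix.smul_mul, hsq, smul_smul, pow_succ]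
    obtain ⟨n, hn⟩ := Nat.exists_eq_succ_of_ne_zero (Fact.out : p.Prime).ne_zero
    rw [hn, Nat.succ_eq_add_one, hpow, Matrix.trace_smul, hNe, Matrix.trace_vecMulVec, dotProduct_comm v.1,
      Matrix.trace_zero, smul_eq_mul, ← pow_succ] at h
    exact pow_eq_zero_iff (Nat.succ_ne_zero n) |>.1 h
  exact hne (hP.eq_one hk hdot (by rw [← hNe, hN, add_sub_cancel]))

/-- Centralisers of reflections have no elements of order `p`. -/
theorem eq_one_of_commute_refl (h2 : (2 : F) ≠ 0) (hP : NoRoot P) {u φ : Fin 3 → F} (hu : φ ⬝ᵥ u = 1)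
    {k : GL (Fin 3) F} (hk : k ∈ P) (hc : k * refl u φ = refl u φ * k) (hp : k ^ p = 1) : k = 1 := by
  obtain ⟨a, ha0, hku, hkφ⟩ := eigen_of_commute_refl h2 hu hc
  set M := (k : Matrix (Fin 3) (Fin 3) F) with hM
  have hpow : ∀ n : ℕ, (M ^ n) *ᵥ u = a ^ n • u := by
    intro n
    induction n with
    | zero => simp
    | succ n ih => rw [pow_succ, ← Matrix.mulVec_mulVec, hku, Matrix.mulVec_smul, ih, smul_smul, pow_succ']
  have hMp : M ^ p = 1 := by rw [hM, ← Units.val_pow_eq_pow_val, hp, Units.val_one]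
  have hu0 : u ≠ 0 := fun e => by rw [e, dotProduct_zero] at hu; exact zero_ne_one hu
  have hap : a ^ p = 1 := by
    have h := hpow p
    rw [hMp, Matrix.one_mulVec] at h
    obtain ⟨i, hi⟩ := Function.ne_iff.1 hu0
    exact (mul_right_cancel₀ hi ((one_mul _).trans (congrFun h i))).symm
  have ha1 : a = 1 := frobenius_inj F p (by simpa [frobenius_def] using hap)
  rw [ha1, one_smul] at hku hkφ
  -- a fixed point on the axis
  set N : Matrix (Fin 3) (Fin 3) F := M - 1 with hN
  have hNp : N ^ p = 0 := by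
    rw [hN, sub_pow_char_of_commute _ (Commute.one_right _), one_pow, hMp, sub_self]
  obtain ⟨w, hw0, hwφ, hwk⟩ : ∃ w : Fin 3 → F, w ≠ 0 ∧ φ ⬝ᵥ w = 0 ∧ M *ᵥ w = w := by
    by_cases hN0 : ∀ x, φ ⬝ᵥ x = 0 → N *ᵥ x = 0
    · obtain ⟨w, hw0, hw, -⟩ := exists_common_zero φ φ
      refine ⟨w, hw0, hw, ?_⟩
      have := hN0 w hw
      rwa [hN, Matrix.sub_mulVec, Matrix.one_mulVec, sub_eq_zero] at this
    push Not at hN0
    obtain ⟨x, hxφ, hx⟩ := hN0
    classical
    have hex : ∃ n : ℕ, (N ^ (n + 1)) *ᵥ x = 0 := ⟨p, by rw [pow_succ', hNp, mul_zero, Matrix.zero_mulVec]⟩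
    set n := Nat.find hex with hn
    have h0 : n ≠ 0 := fun e => by
      have := Nat.find_spec hex
      rw [← hn, e, zero_add, pow_one] at this
      exact hx this
    refine ⟨(N ^ n) *ᵥ x, fun e => ?_, ?_, ?_⟩
    · have := Nat.find_min hex (show n - 1 < n by omega)
      rw [show n - 1 + 1 = n by omega] at this
      exact this e
    · have hφN : φ ᵥ* N = 0 := by rw [hN, Matrix.vecMul_sub, hkφ, Matrix.vecMul_one, sub_self]
      obtain ⟨m, hm⟩ := Nat.exists_eq_succ_of_ne_zero h0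
      rw [hm, pow_succ', ← Matrix.mulVec_mulVec, dotProduct_mulVec, hφN, zero_dotProduct]
    · have := Nat.find_spec hex
      rw [← hn, pow_succ', ← Matrix.mulVec_mulVec] at this
      rwa [hN, Matrix.sub_mulVec, Matrix.one_mulVec, sub_eq_zero] at this
  refine eq_one_of_unipotent p hP hk hp (x := u) (y := w) ?_ hku hwk
  rw [LinearIndependent.pair_iff' hu0]
  intro s hs
  rw [← hs, dotProduct_smul, hu, smul_eq_mul, mul_one] at hwφ
  exact hw0 (by rw [← hs, hwφ, zero_smul])

end CfsgLib.Mitchell
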