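import Cfsg.Agent.Lib.Mitchell.SmallTwo
import Cfsg.Agent.Lib.Mitchell.FieldsPSL
import Cfsg.Agent.Lib.Mitchell.Reflection
import Cfsg.Agent.Lib.Mitchell.LocalNine
import Cfsg.Agent.Lib.Mitchell.RecogSmall
import Cfsg.Agent.Lib.Characters.Burnside
import Cfsg.Agent.Classical.SLBasic

/-!
# Mitchell's theorem for perfect groups

A perfect absolutely irreducible subgroup of `GL₃(F)`, simple modulo scalars and written over no
proper subfield, is `SL₃(F)`, fixes a form, or is one of the exceptional groups; likewise inside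
`GU₃`.  The geometric local data and the recognition of the quotient are passed as hypotheses
`LocalGeom` and `LocalRecognition`.
-/

set_option autoImplicit false
set_option linter.unusedSectionVars false

namespace CfsgLib.Mitchell

open Cfsg Cfsg.Geo Matrix CfsgLib.Geo.Asch CfsgLib.GeomClasses CfsgLib.DimThreeSub
open scoped MatrixGroups commutatorElement

universe u

/-- The outcome of the recognition of a simple group from the local data. -/
def LocalConcl (T : Type u) [Group T] : Prop :=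
  (∃ (K : Type) (_ : Field K) (_ : Fintype K), Odd (Fintype.card K) ∧
      Nonempty (T ≃* Matrix.ProjectiveSpecialLinearGroup (Fin 2) K)) ∨
    Nonempty (T ≃* Matrix.SpecialLinearGroup (Fin 3) (ZMod 2)) ∨
    Nonempty (T ≃* alternatingGroup (Fin 6)) ∨ Nonempty (T ≃* alternatingGroup (Fin 7)) ∨
    ∃ t : T, orderOf t = 2 ∧ Nonempty (Cen t ≃* GL (Fin 2) (ZMod 3))

/-- The local data come from the geometry. -/
def LocalGeom : Prop :=
  ∀ (F : Type u) [Field F] [Fintype F] (p : ℕ) [Fact p.Prime] [CharP F p]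
    (P : Subgroup (GL (Fin 3) F)), p ≠ 2 → Hyp P → NoRoot P → LocalData (Quot P)

/-- The local data determine the simple group. -/
def LocalRecognition : Prop :=
  ∀ (T : Type u) [Group T] [Finite T] [IsSimpleGroup T], ¬ IsMulCommutative T → LocalData T → LocalConcl T

/-- `SL₃(2)` has trivial centre. -/
theorem psl_three_two_equiv :
    Nonempty (Matrix.SpecialLinearGroup (Fin 3) (ZMod 2) ≃*
      Matrix.ProjectiveSpecialLinearGroup (Fin 3) (ZMod 2)) := by
  have : Fact (Nat.Prime 2) := ⟨Nat.prime_two⟩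
  have hc : Subgroup.center (Matrix.SpecialLinearGroup (Fin 3) (ZMod 2)) = ⊥ := by
    apply Subgroup.eq_bot_of_card_eq
    rw [Cfsg.Agent.Classical.card_center_sl 3 (by norm_num), ZMod.card]
    rfl
  exact ⟨((QuotientGroup.quotientBot).symm).trans (QuotientGroup.quotientMulEquivOfEq hc.symm)⟩

theorem five_le_of_psl {T : Type*} [Group T] [Finite T] [IsSimpleGroup T] (hna : ¬ IsMulCommutative T)
    {K : Type*} [Field K] [Fintype K] (hodd : Odd (Fintype.card K))
    (e : T ≃* Matrix.ProjectiveSpecialLinearGroup (Fin 2) K) : 5 ≤ Fintype.card K := by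
  by_contra hlt
  have h1 : 1 < Fintype.card K := Fintype.one_lt_card
  have hK : Fintype.card K = 3 := by have := Nat.odd_iff.1 hodd; omega
  have hcard : Nat.card T = 2 ^ 2 * 3 ^ 1 := by
    rw [Nat.card_congr e.toEquiv]
    have := CfsgLib.ClassicalGroups.card_psl_two_gcd (K := K)
    rw [hK, show Nat.gcd 2 (3 - 1) = 2 by decide +kernel] at this
    omega
  have hsol := CfsgLib.Burnside.isSolvable_of_card_eq (G := T) Nat.prime_two Nat.prime_three 2 1 hcard
  have hlt' := Group.IsSolvable.commutator_lt_top_of_nontrivial T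
  rcases (inferInstance : (commutator T).Normal).eq_bot_or_eq_top with hb | ht
  · refine hna ⟨⟨fun a b => ?_⟩⟩
    have hmem : ⁅a, b⁆ ∈ commutator T := Subgroup.commutator_mem_commutator (Subgroup.mem_top a) (Subgroup.mem_top b)
    rw [hb, Subgroup.mem_bot, commutatorElement_eq_one_iff_commute] at hmem
    exact hmem
  · exact hlt'.ne ht

variable {F : Type u} [Field F] [Fintype F] {P : Subgroup (GL (Fin 3) F)}

/-- An element of prime order cannot be conjugate to such a power. -/
theorem Hyp.no_conj_power (p : ℕ) [Fact p.Prime] [CharP F p] (h : Hyp P) {r k : ℕ} (hr : r.Prime)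
    (hr3 : r ≠ 3) (hrp : r ≠ p) (hk : ∀ i j : Fin 4, k ^ (i : ℕ) % r = k ^ (j : ℕ) % r → i = j) {t : Quot P}
    (ht : orderOf t = r) (hc : IsConj t (t ^ k)) : False := by
  have hn : ¬ 3 ∣ r := fun hd => hr3 ((Nat.prime_dvd_prime_iff_eq Nat.prime_three hr).1 hd).symm
  obtain ⟨y, hy, hyr⟩ := h.exists_exact hn (show t ^ r = 1 by rw [← ht, pow_orderOf_eq_one])
  obtain ⟨s, hs⟩ := isConj_iff.1 hc
  obtain ⟨g, rfl⟩ := toQuot_surjective (P := P) s
  have hconj := h.conj_exact (k := k) hn hyr (g := g) (by rw [hy, hs])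
  refine DimThreeSub.no_power_conj (F := F) hr ?_ hk (x := (y : GL (Fin 3) F)) (g := (g : GL (Fin 3) F))
    (congrArg Subtype.val hyr) ?_ (congrArg Subtype.val hconj)
  · intro e
    exact hrp ((Nat.prime_dvd_prime_iff_eq Fact.out hr).1 ((CharP.cast_eq_zero_iff F p r).1 e)).symm
  · intro hy1
    rw [← hy, show y = 1 from Subtype.ext hy1, map_one, orderOf_one] at ht
    exact hr.one_lt.ne ht

/-- The quotients left by the local analysis. -/
theorem Hyp.quotient_cases (p : ℕ) [Fact p.Prime] [CharP F p] (hgeo : LocalGeom.{u})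
    (hrec : LocalRecognition.{u}) (hp : p ≠ 2) (h : Hyp P) (hP : NoRoot P) :
    (∃ (K : Type) (_ : Field K) (_ : Fintype K), Odd (Fintype.card K) ∧ 5 ≤ Fintype.card K ∧
        Nonempty (Quot P ≃* Matrix.ProjectiveSpecialLinearGroup (Fin 2) K)) ∨
      Nonempty (Quot P ≃* Matrix.ProjectiveSpecialLinearGroup (Fin 3) (ZMod 2)) ∨
      Nonempty (Quot P ≃* alternatingGroup (Fin 6)) ∨ Nonempty (Quot P ≃* alternatingGroup (Fin 7)) := by
  have := h.simple
  have hd := hgeo F p P hp h hP
  rcases hrec (Quot P) h.nonabelian hd with ⟨K, _, _, hodd, ⟨e⟩⟩ | ⟨⟨e⟩⟩ | h6 | h7 | ⟨t, ht, ⟨e⟩⟩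
  · exact Or.inl ⟨K, inferInstance, inferInstance, hodd, five_le_of_psl h.nonabelian hodd e, ⟨e⟩⟩
  · obtain ⟨f⟩ := psl_three_two_equiv
    exact Or.inr (Or.inl ⟨e.trans f⟩)
  · exact Or.inr (Or.inr (Or.inl h6))
  · exact Or.inr (Or.inr (Or.inr h7))
  exfalso
  rcases gl23_obstruction t ht e with ⟨⟨a, ha, hac⟩, b, hb, hbc⟩ | ⟨x, y, g, w, hx, hy, hxy, hyx, hgx, hgy, hwx, hwy⟩
  · by_cases h5 : p = 5
    · exact h.no_conj_power p (r := 11) (k := 3) (by norm_num) (by norm_num) (by omega) (by decide) hb hbc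
    · exact h.no_conj_power p (r := 5) (k := 2) (by norm_num) (by norm_num) (fun e => h5 e.symm) (by decide) ha hac
  · exact hd.false_of_nine hx hy hxy hyx hgx hgy hwx hwy

/-- In characteristic two there is an elation. -/
theorem Hyp.exists_root_two [CharP F 2] (h : Hyp P) :
    ∃ u φ : Fin 3 → F, Root P u φ ∧ u ≠ 0 ∧ φ ≠ 0 := by
  have := h.simple
  have hev := CfsgLib.SelfCentralSimple.even_card (G := Quot P) h.nonabelian
  have : Fact (Nat.Prime 2) := ⟨Nat.prime_two⟩
  obtain ⟨x, hx⟩ := exists_prime_orderOf_dvd_card' (G := Quot P) 2 hev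
  obtain ⟨g, hgg, hg1, -⟩ := h.exists_involution_lift hx
  obtain ⟨u, φ, hd, hu0, hφ0, e⟩ := exists_tv_of_sq_one hgg hg1
  exact ⟨u, φ, ⟨hd, e ▸ g.2⟩, hu0, hφ0⟩

theorem exists_root_of_not_noRoot (hP : ¬ NoRoot P) : ∃ u φ : Fin 3 → F, Root P u φ ∧ u ≠ 0 ∧ φ ≠ 0 := by
  unfold NoRoot at hP
  push Not at hP
  obtain ⟨u, φ, hu, hne⟩ := hP
  refine ⟨u, φ, hu, fun e => hne ?_, fun e => hne (by rw [e, tv_zero_right])⟩
  subst e
  exact Units.ext (by rw [tv_val hu.1]; ext i j; simp [Matrix.vecMulVec])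

/-- **Mitchell's theorem, linear case.** -/
theorem core_linear (hgeo : LocalGeom.{u}) (hrec : LocalRecognition.{u}) (p : ℕ) [Fact p.Prime]
    [CharP F p] (h : Hyp P) (hsub : NoSubfield P) :
    P = specialLinear (Fin 3) F ∨ QuadForm P ∨ UnitForm P ∨ LinExc P p := by
  by_cases hp : p = 2
  · subst hp
    obtain ⟨u, φ, hu, hu0, hφ0⟩ := h.exists_root_two
    by_cases hbig : HasLargeRoot P 2
    · exact (elation_linear 2 h hsub hu hu0 hφ0 (Or.inr hbig)).imp_right fun h' => Or.inr (Or.inl h')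
    · rcases smallTwo_linear h hsub hu hu0 hφ0 (smallRoots_of_not_large hbig) with h' | h' | ⟨h6, h4⟩
      · exact Or.inl h'
      · exact Or.inr (Or.inr (Or.inl h'))
      · exact Or.inr (Or.inr (Or.inr (Or.inr ⟨h6, Or.inr ⟨h4, by norm_num, Or.inl rfl⟩⟩)))
  by_cases hP : NoRoot P
  · right
    rcases h.quotient_cases p hgeo hrec hp hP with ⟨K, _, _, hodd, h5, hT⟩ | hT | hT | hT
    · exact field_psl p hp h hsub hodd h5 hT
    · exact field_seven p hp h hsub hT
    · exact field_six p hp h hsub hT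
    · exact field_alt_seven p hp h hsub hT
  · obtain ⟨u, φ, hu, hu0, hφ0⟩ := exists_root_of_not_noRoot hP
    exact (elation_linear p h hsub hu hu0 hφ0 (Or.inl hp)).imp_right fun h' => Or.inr (Or.inl h')

/-- **Mitchell's theorem, unitary case.** -/
theorem core_unitary (hgeo : LocalGeom.{u}) (hrec : LocalRecognition.{u}) (h : Hyp P) (hsub : NoSubfield P)
    {q : ℕ} (hF : Fintype.card F = q ^ 2) (hq : 3 ≤ q) (hPU : P ≤ Cfsg.GU 3 F q) :
    P = Cfsg.GU 3 F q ⊓ specialLinear (Fin 3) F ∨ QuadForm P ∨ UnitExc P q := by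
  obtain ⟨p, hchar⟩ := CharP.exists F
  have : Fact p.Prime := ⟨CharP.char_is_prime F p⟩
  by_cases hp : p = 2
  · subst hp
    obtain ⟨u, φ, hu, hu0, hφ0⟩ := h.exists_root_two
    by_cases hbig : HasLargeRoot P 2
    · exact Or.inl (elation_unitary 2 h hsub hF hq hPU hu hu0 hφ0 (Or.inr hbig))
    · exact (smallTwo_unitary h hsub hF hq hPU hu hu0 hφ0 (smallRoots_of_not_large hbig)).elim
  by_cases hP : NoRoot P
  · right
    rcases h.quotient_cases p hgeo hrec hp hP with ⟨K, _, _, hodd, h5, hT⟩ | hT | hT | hT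
    · exact field_psl_unit p hp h hsub hF hPU hodd h5 hT
    · exact field_seven_unit p hp h hsub hF hT
    · exact field_six_unit p hp h hsub hF hPU hT
    · exact field_alt_seven_unit p hp h hsub hF hT
  · obtain ⟨u, φ, hu, hu0, hφ0⟩ := exists_root_of_not_noRoot hP
    exact Or.inl (elation_unitary p h hsub hF hq hPU hu hu0 hφ0 (Or.inl hp))

theorem linCore (hgeo : LocalGeom.{u}) (hrec : LocalRecognition.{u}) : DimThreeSub.LinCore.{u} := by
  intro F _ _ p _ _ _ P hperf hsimple hna habs hsub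
  exact core_linear hgeo hrec p ⟨hperf, hsimple, hna, habs⟩ hsub

theorem unitCore (hgeo : LocalGeom.{u}) (hrec : LocalRecognition.{u}) : DimThreeSub.UnitCore.{u} := by
  intro F _ _ q hF hq _ P hperf hsimple hna habs hsub hPU
  exact core_unitary hgeo hrec ⟨hperf, hsimple, hna, habs⟩ hsub hF hq hPU

end CfsgLib.Mitchell
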