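import Cfsg.Agent.Lib.Mitchell.Standard
import Cfsg.Agent.Lib.GeomClasses.Basic
import Cfsg.Agent.Lib.Geo.AschFormRational

/-!
An irreducible subgroup of `GL₃(F)` generated by elations is realisable over the field `k` of their
mutual invariants, or over its quadratic extension with a unitary symmetry of the traces.
-/

set_option autoImplicit false
set_option linter.unusedSectionVars false

namespace CfsgLib.Mitchell

open Cfsg Cfsg.Geo Matrix CfsgLib.GeomClasses
open scoped MatrixGroups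

variable {F : Type*} [Field F]

/-- `(u, φ)` gives an elation of `P` (or `1`). -/
def Root (P : Subgroup (GL (Fin 3) F)) (u φ : Fin 3 → F) : Prop := φ ⬝ᵥ u = 0 ∧ tv u φ ∈ P

/-- The invariant of two roots. -/
def kappa (u φ v ψ : Fin 3 → F) : F := (φ ⬝ᵥ v) * (ψ ⬝ᵥ u)

/-- `P` is generated by its elations. -/
def RootGen (P : Subgroup (GL (Fin 3) F)) : Prop :=
  P ≤ Subgroup.closure {g | ∃ u φ : Fin 3 → F, Root P u φ ∧ g = tv u φ}

variable {P : Subgroup (GL (Fin 3) F)}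

theorem Root.conj {u φ : Fin 3 → F} (h : Root P u φ) {g : GL (Fin 3) F} (hg : g ∈ P) :
    Root P ((g : Matrix (Fin 3) (Fin 3) F) *ᵥ u) (φ ᵥ* ((g⁻¹ : GL (Fin 3) F) : Matrix (Fin 3) (Fin 3) F)) := by
  refine ⟨?_, ?_⟩
  · rw [← dotProduct_mulVec, gl_inv_mulVec_mulVec, h.1]
  · rw [← conj_tv g h.1]; exact P.mul_mem (P.mul_mem hg h.2) (P.inv_mem hg)

theorem Root.conj_tv' {a α u φ : Fin 3 → F} (ha : Root P a α) (h : Root P u φ) :
    Root P (u + (α ⬝ᵥ u) • a) (φ - (φ ⬝ᵥ a) • α) := by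
  refine ⟨?_, ?_⟩
  · simp [dotProduct_add, sub_dotProduct, h.1, ha.1]; ring
  · rw [← tv_conj_tv ha.1 h.1]; exact P.mul_mem (P.mul_mem ha.2 h.2) (P.inv_mem ha.2)

theorem RootGen.invariant (hgen : RootGen P) {W : Submodule F (Fin 3 → F)}
    (h : ∀ u φ, Root P u φ → ∀ x ∈ W, (φ ⬝ᵥ x) • u ∈ W) :
    ∀ s ∈ matrixSet P, W.map (Matrix.toLin' s) ≤ W := by
  rintro _ ⟨g, hg, rfl⟩
  have hle : P ≤ subspaceStabilizer W := hgen.trans ((Subgroup.closure_le _).2 (by
    rintro _ ⟨u, φ, hu, rfl⟩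
    refine mem_subspaceStabilizer.2 fun x hx => ?_
    rw [tv_mulVec hu.1]
    exact W.add_mem hx (h u φ hu x hx)))
  rintro _ ⟨x, hx, rfl⟩
  rw [Matrix.toLin'_apply]
  exact mem_subspaceStabilizer.1 (hle hg) x hx

/-- A common zero of two functionals. -/
theorem exists_common_zero (φ ψ : Fin 3 → F) : ∃ e : Fin 3 → F, e ≠ 0 ∧ φ ⬝ᵥ e = 0 ∧ ψ ⬝ᵥ e = 0 := by
  let T : (Fin 3 → F) →ₗ[F] (Fin 2 → F) := Matrix.toLin' (Matrix.of ![φ, ψ])
  have : 0 < Module.finrank F (LinearMap.ker T) := by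
    have h1 := T.finrank_range_add_finrank_ker
    have h2 := T.range.finrank_le
    simp only [Module.finrank_fintype_fun_eq_card, Fintype.card_fin] at h1 h2
    omega
  have : Nontrivial (LinearMap.ker T) := Module.nontrivial_of_finrank_pos this
  obtain ⟨e, he⟩ := exists_ne (0 : LinearMap.ker T)
  have h := LinearMap.mem_ker.1 e.2
  rw [Matrix.toLin'_apply] at h
  exact ⟨e, fun h0 => he (Subtype.ext h0), congrFun h 0, congrFun h 1⟩

/-- Three roots in general position. -/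
structure Triangle (P : Subgroup (GL (Fin 3) F)) where
  /-- centres -/
  u : Fin 3 → Fin 3 → F
  /-- functionals -/
  φ : Fin 3 → Fin 3 → F
  root : ∀ i, Root P (u i) (φ i)
  a12 : φ 0 ⬝ᵥ u 1 ≠ 0
  a21 : φ 1 ⬝ᵥ u 0 ≠ 0
  gram : (Matrix.of fun i j => φ i ⬝ᵥ u j).det ≠ 0

theorem exists_triangle_pair (hgen : RootGen P) (hirr : ActsIrreducibly (matrixSet P))
    {u₁ φ₁ u₂ φ₂ : Fin 3 → F} (h₁ : Root P u₁ φ₁) (h₂ : Root P u₂ φ₂)
    (hκ : kappa u₁ φ₁ u₂ φ₂ ≠ 0) :
    ∃ T : Triangle P, kappa (T.u 0) (T.φ 0) (T.u 1) (T.φ 1) = kappa u₁ φ₁ u₂ φ₂ := by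
  obtain ⟨ha12, ha21⟩ := mul_ne_zero_iff.1 hκ
  obtain ⟨e, he0, he1, he2⟩ := exists_common_zero φ₁ φ₂
  have hu10 : u₁ ≠ 0 := fun h => ha21 (by rw [h, dotProduct_zero])
  let W : Submodule F (Fin 3 → F) := Submodule.span F {u₁, u₂}
  -- coordinates
  have hdec : ∀ x : Fin 3 → F, ∃ l : F,
      x = (φ₂ ⬝ᵥ x / (φ₂ ⬝ᵥ u₁)) • u₁ + (φ₁ ⬝ᵥ x / (φ₁ ⬝ᵥ u₂)) • u₂ + l • e := by
    have hli : LinearIndependent F ![u₁, u₂, e] := by
      rw [Fintype.linearIndependent_iff]
      intro c hc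
      simp only [Fin.sum_univ_three, Matrix.cons_val_zero, Matrix.cons_val_one, Matrix.cons_val] at hc
      have e1 := congrArg (φ₁ ⬝ᵥ ·) hc
      have e2 := congrArg (φ₂ ⬝ᵥ ·) hc
      simp only [dotProduct_add, dotProduct_smul, h₁.1, h₂.1, he1, he2, smul_eq_mul, mul_zero,
        add_zero, zero_add, dotProduct_zero, mul_eq_zero, ha12, ha21, or_false] at e1 e2
      rw [e1, e2, zero_smul, zero_smul, zero_add, zero_add, smul_eq_zero] at hc
      intro i; fin_cases i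
      · exact e2
      · exact e1
      · exact hc.resolve_right he0
    intro x
    have hx : x ∈ Submodule.span F (Set.range ![u₁, u₂, e]) := by
      rw [hli.span_eq_top_of_card_eq_finrank' (by simp)]; trivial
    obtain ⟨c, hc⟩ := (Submodule.mem_span_range_iff_exists_fun F).1 hx
    simp only [Fin.sum_univ_three, Matrix.cons_val_zero, Matrix.cons_val_one, Matrix.cons_val] at hc
    refine ⟨c 2, ?_⟩
    rw [← hc]
    simp [dotProduct_add, dotProduct_smul, h₁.1, h₂.1, he1, he2, ha12, ha21]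
  -- one root with both properties
  suffices h : ∃ v ψ, Root P v ψ ∧ v ∉ W ∧ ψ ⬝ᵥ e ≠ 0 by
    obtain ⟨v, ψ, hv, hvW, hψe⟩ := h
    refine ⟨⟨![u₁, u₂, v], ![φ₁, φ₂, ψ], fun i => by fin_cases i <;> assumption, ha12, ha21, ?_⟩, rfl⟩
    intro hdet
    obtain ⟨c, hc0, hc⟩ := Matrix.exists_mulVec_eq_zero_iff.2 hdet
    set x := c 0 • u₁ + c 1 • u₂ + c 2 • v with hx
    have hrow : ∀ i : Fin 3, (![φ₁, φ₂, ψ] i) ⬝ᵥ x = 0 := fun i => by
      have := congrFun hc i
      simp only [Matrix.mulVec, dotProduct, Fin.sum_univ_three, Matrix.of_apply, Matrix.cons_val_zero,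
        Matrix.cons_val_one, Matrix.cons_val, Pi.zero_apply] at this
      rw [← this, hx]
      simp [dotProduct_add, dotProduct_smul]
      simp [dotProduct, Fin.sum_univ_three]
      ring
    obtain ⟨l, hl⟩ := hdec x
    rw [show φ₁ ⬝ᵥ x = 0 from hrow 0, show φ₂ ⬝ᵥ x = 0 from hrow 1] at hl
    simp only [zero_div, zero_smul, zero_add] at hl
    have hl0 : l = 0 := by
      have := hrow 2
      rw [hl] at this
      simpa [dotProduct_smul, hψe] using this
    rw [hl0, zero_smul] at hl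
    have hc2 : c 2 = 0 := by
      by_contra h2
      refine hvW ?_
      have : v = (-(c 0 / c 2)) • u₁ + (-(c 1 / c 2)) • u₂ := by
        have h' : c 2 • v = -(c 0 • u₁ + c 1 • u₂) := by rw [eq_neg_iff_add_eq_zero, ← hl, hx]; abel
        rw [← inv_smul_smul₀ h2 v, h']
        module
      rw [this]
      exact W.add_mem (W.smul_mem _ (Submodule.subset_span (by simp)))
        (W.smul_mem _ (Submodule.subset_span (by simp)))
    rw [hc2, zero_smul, add_zero] at hx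
    have e1 := congrArg (φ₁ ⬝ᵥ ·) (hx.symm.trans hl)
    have e2 := congrArg (φ₂ ⬝ᵥ ·) (hx.symm.trans hl)
    simp only [dotProduct_add, dotProduct_smul, h₁.1, h₂.1, smul_eq_mul, mul_zero, add_zero,
      zero_add, dotProduct_zero, mul_eq_zero, ha12, ha21, or_false] at e1 e2
    exact hc0 (funext fun i => by fin_cases i <;> assumption)
  by_contra hcon
  push Not at hcon
  -- two partial roots
  obtain ⟨u, g, hug, hge, hu0⟩ : ∃ u g, Root P u g ∧ g ⬝ᵥ e ≠ 0 ∧ u ≠ 0 := by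
    by_contra h
    push Not at h
    rcases hirr (Submodule.span F {e}) (hgen.invariant fun u φ hu x hx => by
      obtain ⟨l, rfl⟩ := Submodule.mem_span_singleton.1 hx
      by_cases hφ : φ ⬝ᵥ e = 0
      · simp [dotProduct_smul, hφ]
      · simp [h u φ hu hφ]) with hW | hW
    · exact he0 (by simpa using hW)
    · have := congrArg (fun W : Submodule F (Fin 3 → F) => Module.finrank F W) hW
      simp [finrank_span_singleton he0] at this
  obtain ⟨v, k, hvk, hvW, hk0⟩ : ∃ v k, Root P v k ∧ v ∉ W ∧ k ≠ 0 := by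
    by_contra h
    push Not at h
    rcases hirr W (hgen.invariant fun v φ hv x _ => by
      by_cases hvW : v ∈ W
      · exact W.smul_mem _ hvW
      · simp [h v φ hv hvW]) with hW | hW
    · exact hu10 (by simpa [W] using (Submodule.span_eq_bot.1 hW u₁ (by simp)))
    · classical
      have h3 := congrArg (fun W : Submodule F (Fin 3 → F) => Module.finrank F W) hW
      have := finrank_span_finset_le_card (R := F) ({u₁, u₂} : Finset (Fin 3 → F))
      simp only [finrank_top, Module.finrank_fintype_fun_eq_card, Fintype.card_fin, W] at h3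
      have h2 := Finset.card_le_two (a := u₁) (b := u₂)
      rw [Finset.coe_pair] at this
      change Module.finrank F (Submodule.span F ({u₁, u₂} : Set (Fin 3 → F))) ≤ _ at this
      omega
  have hke : k ⬝ᵥ e = 0 := hcon v k hvk hvW
  have huW : u ∈ W := by
    by_contra h
    exact hge (hcon u g hug h)
  have huW' : u = (φ₂ ⬝ᵥ u / (φ₂ ⬝ᵥ u₁)) • u₁ + (φ₁ ⬝ᵥ u / (φ₁ ⬝ᵥ u₂)) • u₂ := by
    obtain ⟨s, t, rfl⟩ := Submodule.mem_span_pair.1 huW
    simp [dotProduct_add, dotProduct_smul, h₁.1, h₂.1, ha12, ha21]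
  have main : ∀ u' g', Root P u' g' → u' ∈ W → g' ⬝ᵥ e ≠ 0 → k ⬝ᵥ u' = 0 := by
    intro u' g' hug' hu' hge'
    by_contra hku
    have hr := hvk.conj_tv' hug'
    have hmem : u' + (k ⬝ᵥ u') • v ∉ W := fun h => hvW (by
      have := W.smul_mem (k ⬝ᵥ u')⁻¹ (W.sub_mem h hu')
      rwa [add_sub_cancel_left, inv_smul_smul₀ hku] at this)
    have := hcon _ _ hr hmem
    simp [sub_dotProduct, hke] at this
    exact hge' this
  have hku : k ⬝ᵥ u = 0 := main u g hug huW hge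
  -- moving `u` by the first two roots
  have move : ∀ a α, Root P a α → a ∈ W → α ⬝ᵥ e = 0 → α ⬝ᵥ u ≠ 0 → k ⬝ᵥ a = 0 := by
    intro a α haα haW hαe hαu
    have := main _ _ (haα.conj_tv' hug) (W.add_mem huW (W.smul_mem _ haW))
      (by simp [sub_dotProduct, hαe, hge])
    simpa [dotProduct_add, dotProduct_smul, hku, hαu] using this
  have hk1 : k ⬝ᵥ u₁ = 0 := by
    by_cases h : φ₁ ⬝ᵥ u = 0
    · rw [huW', h, zero_div, zero_smul, add_zero, dotProduct_smul, smul_eq_mul, mul_eq_zero] at hku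
      refine hku.resolve_left fun h' => hu0 ?_
      rw [huW', h, h']; simp
    · exact move u₁ φ₁ h₁ (Submodule.subset_span (by simp)) he1 h
  have hk2 : k ⬝ᵥ u₂ = 0 := by
    by_cases h : φ₂ ⬝ᵥ u = 0
    · rw [huW', h, zero_div, zero_smul, zero_add, dotProduct_smul, smul_eq_mul, mul_eq_zero] at hku
      refine hku.resolve_left fun h' => hu0 ?_
      rw [huW', h, h']; simp
    · exact move u₂ φ₂ h₂ (Submodule.subset_span (by simp)) he2 h
  refine hk0 (funext fun i => ?_)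
  obtain ⟨l, hl⟩ := hdec (Pi.single i 1)
  have := congrArg (k ⬝ᵥ ·) hl
  simpa [dotProduct_add, dotProduct_smul, hk1, hk2, hke] using this

theorem exists_triangle (hgen : RootGen P) (hirr : ActsIrreducibly (matrixSet P))
    {u₁ φ₁ u₂ φ₂ : Fin 3 → F} (h₁ : Root P u₁ φ₁) (h₂ : Root P u₂ φ₂)
    (hκ : kappa u₁ φ₁ u₂ φ₂ ≠ 0) : Nonempty (Triangle P) :=
  ⟨(exists_triangle_pair hgen hirr h₁ h₂ hκ).choose⟩

/-- The rank-one matrix of a root. -/
abbrev rm (u φ : Fin 3 → F) : Matrix (Fin 3) (Fin 3) F := vecMulVec u φ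

theorem trace_rm (u φ v ψ : Fin 3 → F) : (rm u φ * rm v ψ).trace = kappa u φ v ψ := by
  rw [vecMulVec_mul_vecMulVec, Matrix.trace_vecMulVec, dotProduct_smul, smul_eq_mul, kappa,
    dotProduct_comm u ψ]

theorem br_rm {a α u φ : Fin 3 → F} :
    br (rm a α) (rm u φ) =
      rm (u + (α ⬝ᵥ u) • a) (φ - (φ ⬝ᵥ a) • α) - rm u φ + kappa a α u φ • rm a α := by
  ext i j
  simp only [br, rm, vecMulVec_mul_vecMulVec, Matrix.sub_apply, Matrix.add_apply, Matrix.smul_apply,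
    vecMulVec_apply, Pi.add_apply, Pi.sub_apply, Pi.smul_apply, smul_eq_mul, kappa]
  ring

/-- The matrices whose trace against every root lies in `k`. -/
def Inv (P : Subgroup (GL (Fin 3) F)) (k : Subfield F) (X : Matrix (Fin 3) (Fin 3) F) : Prop :=
  ∀ u φ, Root P u φ → (rm u φ * X).trace ∈ k

theorem inv_br {k : Subfield F} (hk : ∀ u φ v ψ, Root P u φ → Root P v ψ → kappa u φ v ψ ∈ k)
    {a α u φ : Fin 3 → F} (ha : Root P a α) (hu : Root P u φ) : Inv P k (br (rm a α) (rm u φ)) := by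
  intro v ψ hv
  rw [br_rm, Matrix.mul_add, Matrix.mul_sub, Matrix.mul_smul, Matrix.trace_add, Matrix.trace_sub,
    Matrix.trace_smul, trace_rm, trace_rm, trace_rm, smul_eq_mul]
  exact add_mem (sub_mem (hk _ _ _ _ hv (ha.conj_tv' hu)) (hk _ _ _ _ hv hu))
    (mul_mem (hk _ _ _ _ ha hu) (hk _ _ _ _ hv ha))

theorem inv_br_br {k : Subfield F} (hk : ∀ u φ v ψ, Root P u φ → Root P v ψ → kappa u φ v ψ ∈ k)
    {a α u φ v ψ : Fin 3 → F} (ha : Root P a α) (hu : Root P u φ) (hv : Root P v ψ) :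
    Inv P k (br (br (rm a α) (rm u φ)) (rm v ψ)) := by
  intro w χ hw
  have e : br (br (rm a α) (rm u φ)) (rm v ψ) =
      br (rm (u + (α ⬝ᵥ u) • a) (φ - (φ ⬝ᵥ a) • α)) (rm v ψ) - br (rm u φ) (rm v ψ)
        + kappa a α u φ • br (rm a α) (rm v ψ) := by
    rw [br_rm]
    simp only [br, Matrix.add_mul, Matrix.sub_mul, Matrix.smul_mul, Matrix.mul_add, Matrix.mul_sub,
      Matrix.mul_smul, smul_sub]
    abel
  rw [e, Matrix.mul_add, Matrix.mul_sub, Matrix.mul_smul, Matrix.trace_add, Matrix.trace_sub,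
    Matrix.trace_smul, smul_eq_mul]
  exact add_mem (sub_mem (inv_br hk (ha.conj_tv' hu) hv w χ hw) (inv_br hk hu hv w χ hw))
    (mul_mem (hk _ _ _ _ ha hu) (inv_br hk ha hv w χ hw))

/-- A basis in which a triangle is in normal form. -/
theorem exists_normal_form (T : Triangle P) :
    ∃ (B : GL (Fin 3) F) (a b c z : F) (u φ : Fin 3 → Fin 3 → F),
      (∀ i, Root P (u i) (φ i)) ∧ a ≠ 0 ∧ z ≠ 0 ∧ z + a * b * c ≠ 0 ∧
      ∀ i, (B : Matrix (Fin 3) (Fin 3) F) * rm (u i) (φ i) * ((B⁻¹ : GL (Fin 3) F) : Matrix (Fin 3) (Fin 3) F) =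
        ![N₁ b, N₂ a, N₃ c z] i := by
  classical
  -- reorder so that the cycle 0 1 2 is non-zero
  obtain ⟨u, φ, hr, h01, h12, h20, h10, hdet⟩ : ∃ u φ : Fin 3 → Fin 3 → F,
      (∀ i, Root P (u i) (φ i)) ∧ φ 0 ⬝ᵥ u 1 ≠ 0 ∧ φ 1 ⬝ᵥ u 2 ≠ 0 ∧ φ 2 ⬝ᵥ u 0 ≠ 0 ∧
      φ 1 ⬝ᵥ u 0 ≠ 0 ∧ (Matrix.of fun i j => φ i ⬝ᵥ u j).det ≠ 0 := by
    have hd := T.gram
    rw [Matrix.det_fin_three] at hd
    simp only [Matrix.of_apply, fun i => (T.root i).1, zero_mul, mul_zero, sub_zero, zero_sub,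
      zero_add, add_zero, neg_zero] at hd
    by_cases h : T.φ 1 ⬝ᵥ T.u 2 = 0 ∨ T.φ 2 ⬝ᵥ T.u 0 = 0
    · have hne : T.φ 0 ⬝ᵥ T.u 2 ≠ 0 ∧ T.φ 2 ⬝ᵥ T.u 1 ≠ 0 := by
        constructor <;> intro h' <;> rcases h with h | h <;> simp [h, h'] at hd
      refine ⟨T.u ∘ Equiv.swap 0 1, T.φ ∘ Equiv.swap 0 1, fun i => T.root _, ?_, ?_, ?_, ?_, ?_⟩
      · simpa using T.a21
      · simpa [Equiv.swap_apply_of_ne_of_ne] using hne.1
      · simpa [Equiv.swap_apply_of_ne_of_ne] using hne.2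
      · simpa using T.a12
      · have := T.gram
        rwa [show (Matrix.of fun i j => (T.φ ∘ Equiv.swap 0 1) i ⬝ᵥ (T.u ∘ Equiv.swap 0 1) j) =
          (Matrix.of fun i j => T.φ i ⬝ᵥ T.u j).submatrix (Equiv.swap 0 1) (Equiv.swap 0 1) from rfl,
          Matrix.det_submatrix_equiv_self]
    · push Not at h
      exact ⟨T.u, T.φ, T.root, T.a12, h.1, h.2, T.a21, T.gram⟩
  set s : Fin 3 → F := ![1, φ 0 ⬝ᵥ u 1, (φ 0 ⬝ᵥ u 1) * (φ 1 ⬝ᵥ u 2)] with hs
  have hs0 : ∀ i, s i ≠ 0 := by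
    intro i; fin_cases i <;> simp [s, h01, h12]
  let U : Matrix (Fin 3) (Fin 3) F := Matrix.of fun k j => u j k / s j
  let A : Matrix (Fin 3) (Fin 3) F := Matrix.of fun i k => s i * φ i k
  set G : Matrix (Fin 3) (Fin 3) F := A * U with hG
  have hGe : ∀ i j, G i j = s i / s j * (φ i ⬝ᵥ u j) := fun i j => by
    simp only [G, A, U, Matrix.mul_apply, Matrix.of_apply, dotProduct, Finset.mul_sum]
    exact Finset.sum_congr rfl fun k _ => by ring
  have hGd : G = Matrix.diagonal s * (Matrix.of fun i j => φ i ⬝ᵥ u j) * Matrix.diagonal (fun j => (s j)⁻¹) := by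
    ext i j
    rw [hGe, Matrix.mul_diagonal, Matrix.diagonal_mul, Matrix.of_apply, div_eq_mul_inv]
    ring
  have hGdet : G.det ≠ 0 := by
    rw [hGd, Matrix.det_mul, Matrix.det_mul, Matrix.det_diagonal, Matrix.det_diagonal]
    exact mul_ne_zero (mul_ne_zero (Finset.prod_ne_zero_iff.2 fun i _ => hs0 i) hdet)
      (Finset.prod_ne_zero_iff.2 fun i _ => inv_ne_zero (hs0 i))
  have hU : IsUnit U.det := by
    refine isUnit_iff_ne_zero.2 fun h => hGdet ?_
    rw [hG, Matrix.det_mul, h, mul_zero]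
  let B : GL (Fin 3) F := (Matrix.GeneralLinearGroup.mk'' U hU)⁻¹
  have hB : ((B⁻¹ : GL (Fin 3) F) : Matrix (Fin 3) (Fin 3) F) = U := by
    show (((Matrix.GeneralLinearGroup.mk'' U hU)⁻¹⁻¹ : GL (Fin 3) F) : Matrix (Fin 3) (Fin 3) F) = U
    rw [inv_inv]; rfl
  refine ⟨B, G 1 0, G 0 2, G 2 1, G 2 0, u, φ, hr, ?_, ?_, ?_, fun i => ?_⟩
  · rw [hGe]; exact mul_ne_zero (div_ne_zero (hs0 1) (hs0 0)) h10
  · rw [hGe]; exact mul_ne_zero (div_ne_zero (hs0 2) (hs0 0)) h20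
  · have h : G.det = G 2 0 + G 1 0 * G 0 2 * G 2 1 := by
      have e01 : G 0 1 = 1 := by rw [hGe]; simp [s, h01]
      have e12 : G 1 2 = 1 := by rw [hGe]; simp [s]; field_simp
      have e00 : ∀ i, G i i = 0 := fun i => by rw [hGe, (hr i).1, mul_zero]
      rw [Matrix.det_fin_three, e01, e12, e00, e00, e00]
      ring
    rwa [← h]
  · have e : rm (u i) (φ i) * U = U * ![N₁ (G 0 2), N₂ (G 1 0), N₃ (G 2 1) (G 2 0)] i := by
      have e01 : G 0 1 = 1 := by rw [hGe]; simp [s, h01]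
      have e12 : G 1 2 = 1 := by rw [hGe]; simp [s]; field_simp
      have e00 : ∀ i, G i i = 0 := fun i => by rw [hGe, (hr i).1, mul_zero]
      have hrow : ![N₁ (G 0 2), N₂ (G 1 0), N₃ (G 2 1) (G 2 0)] i =
          Matrix.of fun k j => if k = i then G i j else 0 := by
        ext k j
        fin_cases i <;> fin_cases k <;> fin_cases j <;> simp [N₁, N₂, N₃, e01, e12, e00]
      rw [hrow]
      ext k j
      simp only [rm, U, Matrix.mul_apply, vecMulVec_apply, Matrix.of_apply, mul_ite, mul_zero,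
        Finset.sum_ite_eq', Finset.mem_univ, if_true]
      rw [hGe, dotProduct, Finset.mul_sum, Finset.mul_sum]
      refine Finset.sum_congr rfl fun l _ => ?_
      have := hs0 i
      field_simp
    rw [mul_assoc, hB, e, ← hB, ← mul_assoc, ← Units.val_mul, mul_inv_cancel, Units.val_one, one_mul]

variable [Fintype F]

theorem realisable_of_generators {k : Subfield F} (B : GL (Fin 3) F) (hgen : RootGen P)
    (h : ∀ u φ, Root P u φ → ∀ i j, ((B : Matrix (Fin 3) (Fin 3) F) *ᵥ u) i *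
      (φ ᵥ* ((B⁻¹ : GL (Fin 3) F) : Matrix (Fin 3) (Fin 3) F)) j ∈ k) :
    RealisableOver k (matrixSet P) := by
  refine ⟨B, ?_⟩
  rintro _ ⟨g, hg, rfl⟩
  show ∀ i j, ((B : Matrix (Fin 3) (Fin 3) F) * (g : Matrix (Fin 3) (Fin 3) F) *
    ((B⁻¹ : GL (Fin 3) F) : Matrix (Fin 3) (Fin 3) F)) i j ∈ k
  have hone : ∀ i j, (1 : Matrix (Fin 3) (Fin 3) F) i j ∈ k := fun i j => by
    rw [Matrix.one_apply]; split_ifs <;> simp
  have hg' := hgen hg
  clear hg
  induction hg' using Subgroup.closure_induction'' with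
  | mem g hg =>
    obtain ⟨u, φ, hu, rfl⟩ := hg
    intro i j
    rw [tv_val hu.1, Matrix.mul_add, Matrix.add_mul, mul_one, ← Units.val_mul, mul_inv_cancel,
      Units.val_one, mul_vecMulVec, vecMulVec_mul, Matrix.add_apply, vecMulVec_apply]
    exact add_mem (hone i j) (h u φ hu i j)
  | inv_mem g hg =>
    obtain ⟨u, φ, hu, rfl⟩ := hg
    intro i j
    rw [tv_inv hu.1, tv_val (by simp [hu.1]), Matrix.mul_add, Matrix.add_mul, mul_one, ← Units.val_mul,
      mul_inv_cancel, Units.val_one, mul_vecMulVec, vecMulVec_mul, Matrix.add_apply, vecMulVec_apply,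
      Matrix.mulVec_neg, Pi.neg_apply, neg_mul]
    exact add_mem (hone i j) (neg_mem (h u φ hu i j))
  | one => intro i j; simp only [Units.val_one, mul_one, ← Units.val_mul, mul_inv_cancel]; exact hone i j
  | mul g g' _ _ h1 h2 =>
    intro i j
    rw [show (B : Matrix (Fin 3) (Fin 3) F) * ((g * g' : GL (Fin 3) F) : Matrix (Fin 3) (Fin 3) F) *
        ((B⁻¹ : GL (Fin 3) F) : Matrix (Fin 3) (Fin 3) F) =
        ((B : Matrix (Fin 3) (Fin 3) F) * (g : Matrix (Fin 3) (Fin 3) F) * ((B⁻¹ : GL (Fin 3) F) : Matrix (Fin 3) (Fin 3) F)) *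
        ((B : Matrix (Fin 3) (Fin 3) F) * (g' : Matrix (Fin 3) (Fin 3) F) * ((B⁻¹ : GL (Fin 3) F) : Matrix (Fin 3) (Fin 3) F)) by
      simp only [← Units.val_mul]; congr 1; group, Matrix.mul_apply]
    exact sum_mem fun l _ => mul_mem (h1 i l) (h2 l j)

/-- **The dichotomy.** -/
theorem dichotomy (p n : ℕ) [Fact p.Prime] [CharP F p] {k : Subfield F} (hk : Nat.card k = p ^ n)
    (hgen : RootGen P) (hirr : ActsIrreducibly (matrixSet P))
    (hne : ∃ u φ v ψ, Root P u φ ∧ Root P v ψ ∧ kappa u φ v ψ ≠ 0)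
    (hκ : ∀ u φ v ψ, Root P u φ → Root P v ψ → kappa u φ v ψ ∈ k) :
    RealisableOver k (matrixSet P) ∨
    (RealisableOver ((iterateFrobenius F p (n + n)).eqLocusField (RingHom.id F)) (matrixSet P) ∧
      (∃ x : F, x ^ p ^ n ≠ x) ∧
      ((∀ x : F, x ^ p ^ (n + n) = x) → ∀ g ∈ P,
        ((g⁻¹ : GL (Fin 3) F) : Matrix (Fin 3) (Fin 3) F).trace =
          (g : Matrix (Fin 3) (Fin 3) F).trace ^ p ^ n)) := by
  classical
  obtain ⟨u₁, φ₁, u₂, φ₂, h₁, h₂, h12⟩ := hne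
  obtain ⟨T⟩ := exists_triangle hgen hirr h₁ h₂ h12
  obtain ⟨B, a, b, c, z, u, φ, hr, ha0, hz0, hs, hN⟩ := exists_normal_form T
  set Bm : Matrix (Fin 3) (Fin 3) F := (B : Matrix (Fin 3) (Fin 3) F) with hBm
  set Bi : Matrix (Fin 3) (Fin 3) F := ((B⁻¹ : GL (Fin 3) F) : Matrix (Fin 3) (Fin 3) F) with hBi
  have hBB : Bi * Bm = 1 := by rw [hBi, hBm, ← Units.val_mul, inv_mul_cancel, Units.val_one]
  have hconj : ∀ X Y, Bm * X * Bi * (Bm * Y * Bi) = Bm * (X * Y) * Bi := fun X Y => by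
    simp only [mul_assoc]
    rw [← mul_assoc Bi Bm, hBB, one_mul]
  have htr : ∀ X, (Bm * X * Bi).trace = X.trace := fun X => by rw [hBm, hBi, Matrix.trace_units_conj]
  -- the eight matrices come from roots
  have hbr : ∀ X Y, br (Bm * X * Bi) (Bm * Y * Bi) = Bm * br X Y * Bi := fun X Y => by
    simp only [br, hconj, Matrix.mul_sub, Matrix.sub_mul]
  set N : Fin 3 → Matrix (Fin 3) (Fin 3) F := fun i => rm (u i) (φ i) with hNdef
  have hinv : ∀ i, ∃ Y, basis8 a b c z i = Bm * Y * Bi ∧ Inv P k Y := by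
    have g1 : ∀ i, Inv P k (N i) := fun i v ψ hv => by rw [trace_rm]; exact hκ _ _ _ _ hv (hr i)
    have e : ∀ i, Bm * N i * Bi = ![N₁ b, N₂ a, N₃ c z] i := hN
    intro i
    fin_cases i
    · exact ⟨_, (e 0).symm, g1 0⟩
    · exact ⟨_, (e 1).symm, g1 1⟩
    · exact ⟨_, (e 2).symm, g1 2⟩
    · exact ⟨br (N 0) (N 1), by rw [← hbr, e, e]; rfl, inv_br hκ (hr 0) (hr 1)⟩
    · exact ⟨br (N 1) (N 2), by rw [← hbr, e, e]; rfl, inv_br hκ (hr 1) (hr 2)⟩
    · exact ⟨br (N 2) (N 0), by rw [← hbr, e, e]; rfl, inv_br hκ (hr 2) (hr 0)⟩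
    · exact ⟨br (br (N 0) (N 1)) (N 2), by rw [← hbr, ← hbr, e, e, e]; rfl, inv_br_br hκ (hr 0) (hr 1) (hr 2)⟩
    · exact ⟨br (br (N 1) (N 2)) (N 0), by rw [← hbr, ← hbr, e, e, e]; rfl, inv_br_br hκ (hr 1) (hr 2) (hr 0)⟩
  have hroot : ∀ v ψ, Root P v ψ → (ψ ᵥ* Bi) ⬝ᵥ (Bm *ᵥ v) = 0 ∧
      ∀ i, (vecMulVec (Bm *ᵥ v) (ψ ᵥ* Bi) * basis8 a b c z i).trace ∈ k := by
    intro v ψ hv
    refine ⟨by rw [← dotProduct_mulVec, Matrix.mulVec_mulVec, hBB, Matrix.one_mulVec]; exact hv.1,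
      fun i => ?_⟩
    obtain ⟨Y, hY, hYk⟩ := hinv i
    rw [hY, ← vecMulVec_mul, ← mul_vecMulVec, hconj, htr]
    exact hYk v ψ hv
  -- invariants of the normal form
  have hab : ∀ i j, kappa (u i) (φ i) (u j) (φ j) = (![N₁ b, N₂ a, N₃ c z] i * ![N₁ b, N₂ a, N₃ c z] j).trace :=
    fun i j => by rw [← hN, ← hN, hconj, htr, trace_rm]
  have hka : a ∈ k := by
    have := hκ _ _ _ _ (hr 0) (hr 1)
    rwa [hab, show (![N₁ b, N₂ a, N₃ c z] 0 * ![N₁ b, N₂ a, N₃ c z] 1).trace = a by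
      simp [N₁, N₂, Matrix.trace, Fin.sum_univ_three, Matrix.mul_apply]] at this
  have hkc : c ∈ k := by
    have := hκ _ _ _ _ (hr 1) (hr 2)
    rwa [hab, show (![N₁ b, N₂ a, N₃ c z] 1 * ![N₁ b, N₂ a, N₃ c z] 2).trace = c by
      simp [N₂, N₃, Matrix.trace, Fin.sum_univ_three, Matrix.mul_apply]] at this
  have hkw : b * z ∈ k := by
    have := hκ _ _ _ _ (hr 0) (hr 2)
    rwa [hab, show (![N₁ b, N₂ a, N₃ c z] 0 * ![N₁ b, N₂ a, N₃ c z] 2).trace = b * z by
      simp [N₁, N₃, Matrix.trace, Fin.sum_univ_three, Matrix.mul_apply]] at this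
  have hkd : z - a * b * c ∈ k := by
    obtain ⟨Y, hY, hYk⟩ := hinv 4
    have := hYk _ _ (hr 0)
    rwa [← htr, ← hconj, hN 0, ← hY, show ((![N₁ b, N₂ a, N₃ c z] 0) * basis8 a b c z 4).trace =
      z - a * b * c by
        simp [basis8, br, N₁, N₂, N₃, Matrix.trace, Fin.sum_univ_three, Matrix.mul_apply,
          Matrix.sub_apply]
        ring] at this
  by_cases hzk : z ∈ k
  · left
    have hkb : b ∈ k := by
      rw [show b = b * z / z by field_simp]
      exact div_mem hkw hzk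
    exact realisable_of_generators B hgen fun v ψ hv =>
      entries_mem hs hka hkb hkc hzk (hroot v ψ hv).1 (hroot v ψ hv).2
  right
  set σ := iterateFrobenius F p n with hσdef
  have hσk : ∀ x ∈ k, σ x = x := by
    intro x hx
    rcases eq_or_ne x 0 with rfl | hx0
    · exact map_zero σ
    let : Fintype k := Fintype.ofFinite k
    rw [hσdef, iterateFrobenius_def, ← hk, Nat.card_eq_fintype_card]
    exact congrArg Subtype.val (FiniteField.pow_card (⟨x, hx⟩ : k))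
  set w := z * (a * b * c) with hw
  have hkw' : w ∈ k := by
    rw [hw, show z * (a * b * c) = a * c * (b * z) by ring]
    exact mul_mem (mul_mem hka hkc) hkw
  have hσz : σ z ≠ z := fun e => hzk (CfsgLib.Geo.Asch.mem_of_pow_card_eq (by
    rw [hk, ← iterateFrobenius_def]; exact e))
  have hσz' : σ z = -(a * b * c) := by
    have e : σ z * σ z - (z - a * b * c) * σ z - w = 0 := by
      have h0 : z * z - (z - a * b * c) * z - w = 0 := by rw [hw]; ring
      have := congrArg σ h0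
      rwa [map_zero, map_sub, map_sub, map_mul, map_mul, hσk _ hkd, hσk _ hkw'] at this
    have : (σ z - z) * (σ z + a * b * c) = 0 := by rw [hw] at e; linear_combination e
    exact eq_neg_of_add_eq_zero_left ((mul_eq_zero.1 this).resolve_left (sub_ne_zero.2 hσz))
  have hc0 : c ≠ 0 := by
    rintro rfl
    exact hzk (by simpa using hkd)
  have hσb : σ b = -(z / (a * c)) := by
    have h1 := hσk _ hkw
    rw [map_mul, hσz'] at h1
    have h2 : -(a * c) * σ b * b = z * b := by linear_combination h1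
    have hb0 : b ≠ 0 := by
      rintro rfl
      exact hzk (by simpa using hkd)
    have := mul_right_cancel₀ hb0 h2
    rw [eq_neg_iff_add_eq_zero, add_div' _ _ _ (mul_ne_zero ha0 hc0), div_eq_zero_iff]
    exact Or.inl (by linear_combination -this)
  set K := (iterateFrobenius F p (n + n)).eqLocusField (RingHom.id F) with hK
  have hσσ : ∀ x, x ∈ K ↔ σ (σ x) = x := fun x => by
    rw [hσdef, ← iterateFrobenius_add_apply]; exact Iff.rfl
  have hkK : ∀ x ∈ k, x ∈ K := fun x hx => (hσσ x).2 (by rw [hσk x hx, hσk x hx])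
  have hzK : z ∈ K := (hσσ z).2 (by
    rw [hσz', map_neg, map_mul, map_mul, hσk _ hka, hσk _ hkc, hσb]
    field_simp)
  have hbK : b ∈ K := (hσσ b).2 (by
    rw [hσb, map_neg, map_div₀, map_mul, hσk _ hka, hσk _ hkc, hσz']
    field_simp)
  refine ⟨realisable_of_generators B hgen fun v ψ hv => entries_mem hs (hkK _ hka) hbK (hkK _ hkc)
    hzK (hroot v ψ hv).1 fun i => hkK _ ((hroot v ψ hv).2 i), ⟨z, hσz⟩, fun hall => ?_⟩
  -- the unitary symmetry
  let τ : F ≃+* F := RingEquiv.ofBijective σ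
    ⟨σ.injective, Finite.injective_iff_surjective.1 σ.injective⟩
  have hτ : ∀ x, τ x = σ x := fun _ => rfl
  have hτ2 : ∀ x, τ (τ x) = x := fun x => (hσσ x).1 (hall x)
  have hskew := skew_normal (a := a) (b := b) (c := c) (z := z) τ hτ2 (hσk _ hka) ha0 hc0
    (hσk _ hkc) hσb
  have hdet : IsUnit (skewH τ a b).det := by
    refine isUnit_iff_ne_zero.2 ?_
    rw [det_skewH, hτ, hσb]
    refine mul_ne_zero (inv_ne_zero ha0) fun e => hs ?_
    field_simp at e
    linear_combination -e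
  set H := skewH τ a b with hH
  -- isometries
  have hiso : ∀ g ∈ P, ((Bm * (g : Matrix (Fin 3) (Fin 3) F) * Bi).map τ)ᵀ * H *
      (Bm * (g : Matrix (Fin 3) (Fin 3) F) * Bi) = H := by
    intro g hg
    have hgenval : ∀ v ψ, Root P v ψ → (((1 + Bm * rm v ψ * Bi)).map τ)ᵀ * H *
        (1 + Bm * rm v ψ * Bi) = H := by
      intro v ψ hv
      set M := Bm * rm v ψ * Bi with hM
      have hMv : M = vecMulVec (Bm *ᵥ v) (ψ ᵥ* Bi) := by rw [hM, rm, mul_vecMulVec, vecMulVec_mul]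
      have hM2 : M * M = 0 := by
        rw [hM, hconj, rm, vecMulVec_mul_vecMulVec, hv.1, zero_smul]; simp
      have hsk := skew_of_traces τ hs hdet hskew hM2 fun i => hσk _ (hMv ▸ (hroot v ψ hv).2 i)
      rw [IsSkew] at hsk
      rw [Matrix.map_add _ (map_add τ), Matrix.map_one _ (map_zero τ) (map_one τ), Matrix.transpose_add,
        Matrix.transpose_one]
      have h2 : (M.map τ)ᵀ * H * M = 0 := by
        rw [eq_neg_of_add_eq_zero_right hsk, neg_mul, mul_assoc, hM2, mul_zero, neg_zero]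
      calc (1 + (M.map τ)ᵀ) * H * (1 + M) = H + (H * M + (M.map τ)ᵀ * H) + (M.map τ)ᵀ * H * M := by
            noncomm_ring
        _ = H := by rw [hsk, h2, add_zero, add_zero]
    have hg' := hgen hg
    clear hg
    induction hg' using Subgroup.closure_induction'' with
    | mem g hg =>
      obtain ⟨v, ψ, hv, rfl⟩ := hg
      rw [tv_val hv.1, Matrix.mul_add, Matrix.add_mul, mul_one, hBm, hBi, ← Units.val_mul,
        mul_inv_cancel, Units.val_one]
      exact hgenval v ψ hv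
    | inv_mem g hg =>
      obtain ⟨v, ψ, hv, rfl⟩ := hg
      have hv' : Root P (-v) ψ :=
        ⟨by simp [hv.1], by rw [← tv_inv hv.1]; exact P.inv_mem hv.2⟩
      rw [tv_inv hv.1, tv_val hv'.1, Matrix.mul_add, Matrix.add_mul, mul_one, hBm, hBi,
        ← Units.val_mul, mul_inv_cancel, Units.val_one]
      exact hgenval _ ψ hv'
    | one =>
      rw [Units.val_one, mul_one, hBm, hBi, ← Units.val_mul, mul_inv_cancel, Units.val_one,
        Matrix.map_one _ (map_zero τ) (map_one τ), Matrix.transpose_one, one_mul, mul_one]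
    | mul g g' _ _ h1 h2 =>
      rw [Units.val_mul, ← hconj, Matrix.map_mul, Matrix.transpose_mul]
      calc _ = ((Bm * (g' : Matrix (Fin 3) (Fin 3) F) * Bi).map τ)ᵀ *
            (((Bm * (g : Matrix (Fin 3) (Fin 3) F) * Bi).map τ)ᵀ * H *
              (Bm * (g : Matrix (Fin 3) (Fin 3) F) * Bi)) *
            (Bm * (g' : Matrix (Fin 3) (Fin 3) F) * Bi) := by simp only [mul_assoc]
        _ = H := by rw [h1, h2]
  intro g hg
  set X := Bm * (g : Matrix (Fin 3) (Fin 3) F) * Bi with hX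
  set Xi := Bm * ((g⁻¹ : GL (Fin 3) F) : Matrix (Fin 3) (Fin 3) F) * Bi with hXi
  have hXX : X * Xi = 1 := by
    rw [hX, hXi, hconj, ← Units.val_mul, mul_inv_cancel, Units.val_one, mul_one, hBm, hBi,
      ← Units.val_mul, mul_inv_cancel, Units.val_one]
  have e : Xi = H⁻¹ * (X.map τ)ᵀ * H := by
    calc Xi = H⁻¹ * ((X.map τ)ᵀ * H * X) * Xi := by
          rw [hiso g hg, Matrix.nonsing_inv_mul H hdet, one_mul]
      _ = H⁻¹ * (X.map τ)ᵀ * H * (X * Xi) := by simp only [mul_assoc]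
      _ = _ := by rw [hXX, mul_one]
  rw [← htr, ← hXi, e, Matrix.trace_mul_comm, ← mul_assoc, Matrix.mul_nonsing_inv H hdet, one_mul,
    Matrix.trace_transpose, ← htr (g : Matrix (Fin 3) (Fin 3) F), ← hX, ← iterateFrobenius_def]
  exact (AddMonoidHom.map_trace (σ : F →+* F) X).symm

end CfsgLib.Mitchell
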