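import Cfsg.Agent.Lib.Mitchell.Roots

/-!
Characteristic three: no irreducible group generated by elations with root groups of order three has
an invariant with square `-1`.
-/

set_option autoImplicit false
set_option linter.unusedSectionVars false

namespace CfsgLib.Mitchell

open Cfsg Cfsg.Geo Matrix CfsgLib.GeomClasses
open scoped MatrixGroups

namespace NineElements

/-- Pairs standing for `x + y i` in the field with nine elements. -/
abbrev E9 := Fin 3 × Fin 3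

/-- Addition. -/
def ad (u v : E9) : E9 := (u.1 + v.1, u.2 + v.2)
/-- Multiplication, with `i² = -1`. -/
def mu (u v : E9) : E9 := (u.1 * v.1 - u.2 * v.2, u.1 * v.2 + u.2 * v.1)
/-- Negation. -/
def ne (u : E9) : E9 := (-u.1, -u.2)
/-- The five elements `0, ±1, ±i`. -/
def inV (u : E9) : Prop := u.1 = 0 ∨ u.2 = 0

instance (u : E9) : Decidable (inV u) := inferInstanceAs (Decidable (_ ∨ _))

/-- The finite check. -/
theorem check : ∀ B : E9, inV B → ∀ C : E9, inV C → ∀ d : E9,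
    inV (ad (ad d C) (ne (mu (0, 1) B))) → inV (ad (ad d B) (ne (mu (0, 1) C))) →
    inV (ad (ad (ne d) C) (ne (mu (0, 1) B))) →
    inV (ad (mu d (1, 1)) (ne (mu (0, 1) (ad B C)))) →
    ad (mu d d) (mu (0, 1) (mu B C)) = (0, 0) := by
  decide +kernel

theorem norm_cases : ∀ w : E9, w ≠ (0, 0) →
    mu w (w.1, -w.2) = (1, 0) ∨ mu w (w.1, -w.2) = (2, 0) := by
  decide +kernel

theorem eq_of_ad_ne : ∀ u v : E9, ad u (ne v) = (0, 0) → u = v := by
  decide +kernel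

end NineElements

open NineElements

variable {F : Type*} [Field F] [CharP F 3]

/-- The value of a pair. -/
def val9 (i : F) (u : E9) : F := (u.1.val : F) + (u.2.val : F) * i

theorem cast_fin3_add (a b : Fin 3) : ((a + b).val : F) = (a.val : F) + (b.val : F) := by
  rw [Fin.val_add, ← Nat.cast_add, CharP.cast_eq_mod F 3 ((a : ℕ) + b)]

theorem cast_fin3_mul (a b : Fin 3) : ((a * b).val : F) = (a.val : F) * (b.val : F) := by
  rw [Fin.val_mul, ← Nat.cast_mul, CharP.cast_eq_mod F 3 ((a : ℕ) * b)]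

theorem cast_fin3_neg (a : Fin 3) : ((-a).val : F) = -(a.val : F) := by
  rw [eq_neg_iff_add_eq_zero, ← cast_fin3_add, neg_add_cancel]; simp

variable {i : F}

theorem val9_ad (u v : E9) : val9 i (ad u v) = val9 i u + val9 i v := by
  simp only [val9, ad, cast_fin3_add]; ring

theorem val9_ne (u : E9) : val9 i (ne u) = -val9 i u := by
  simp only [val9, ne, cast_fin3_neg]; ring

theorem val9_mu (hi : i ^ 2 = -1) (u v : E9) : val9 i (mu u v) = val9 i u * val9 i v := by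
  simp only [val9, mu, sub_eq_add_neg, cast_fin3_add, cast_fin3_mul, cast_fin3_neg]
  linear_combination -((u.2.val : F) * (v.2.val : F)) * hi

theorem val9_i : val9 i (0, 1) = i := by simp [val9]

theorem val9_injective (hi : i ^ 2 = -1) : Function.Injective (val9 i) := by
  intro u v h
  have h0 : val9 i (ad u (ne v)) = 0 := by rw [val9_ad, val9_ne, h, add_neg_cancel]
  have key : ∀ w : E9, val9 i w = 0 → w = (0, 0) := by
    intro w hw
    by_contra hne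
    have hnorm : val9 i (mu w (w.1, -w.2)) = 0 := by rw [val9_mu hi, hw, zero_mul]
    rcases norm_cases w hne with h1 | h1 <;> rw [h1] at hnorm
    · simp [val9] at hnorm
    · have : ((2 : ℕ) : F) = 0 := by simpa [val9] using hnorm
      rw [CharP.cast_eq_zero_iff F 3] at this
      omega
  exact eq_of_ad_ne u v (key _ h0)

theorem exists_pair (hi : i ^ 2 = -1) {x : F} (hx : x ^ 5 = x) : ∃ u : E9, inV u ∧ val9 i u = x := by
  rcases mul_eq_zero.1 (show x * ((x - 1) * (x + 1) * ((x - i) * (x + i))) = 0 by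
    linear_combination hx + (x - x ^ 3) * hi) with h | h
  · exact ⟨(0, 0), Or.inl rfl, by simp [val9, h]⟩
  have h3 : (3 : F) = 0 := by exact_mod_cast CharP.cast_eq_zero F 3
  rcases mul_eq_zero.1 h with h | h <;> rcases mul_eq_zero.1 h with h | h
  · exact ⟨(1, 0), Or.inr rfl, by simp [val9]; linear_combination -h⟩
  · exact ⟨(2, 0), Or.inr rfl, by simp [val9]; linear_combination -h + h3⟩
  · exact ⟨(0, 1), Or.inl rfl, by simp [val9]; linear_combination -h⟩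
  · exact ⟨(0, 2), Or.inl rfl, by simp [val9]; linear_combination -h + i * h3⟩

variable {P : Subgroup (GL (Fin 3) F)}

/-- If all invariants are `0, ±1` or square roots of `-1`, none has square `-1`. -/
theorem kappa_sq_ne_neg_one (hgen : RootGen P) (hirr : ActsIrreducibly (matrixSet P))
    (hV : ∀ u φ v ψ, Root P u φ → Root P v ψ → kappa u φ v ψ ^ 5 = kappa u φ v ψ)
    {u₁ φ₁ u₂ φ₂ : Fin 3 → F} (h₁ : Root P u₁ φ₁) (h₂ : Root P u₂ φ₂) :
    kappa u₁ φ₁ u₂ φ₂ ^ 2 ≠ -1 := by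
  intro hA
  have hA0 : kappa u₁ φ₁ u₂ φ₂ ≠ 0 := fun h => by rw [h] at hA; simp at hA
  have h3 : (3 : F) = 0 := by exact_mod_cast CharP.cast_eq_zero F 3
  obtain ⟨e, -, he1, he2⟩ := exists_common_zero φ₁ φ₂
  obtain ⟨T, hT1, hT2⟩ : ∃ T : Triangle P, kappa (T.u 0) (T.φ 0) (T.u 1) (T.φ 1) ^ 2 = -1 ∧ True := by
    obtain ⟨T, hT⟩ := exists_triangle_pair hgen hirr h₁ h₂ hA0
    exact ⟨T, by rw [hT]; exact hA, trivial⟩
  set r := T.root
  set i₀ := kappa (T.u 0) (T.φ 0) (T.u 1) (T.φ 1) with hi₀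
  set t := (T.φ 0 ⬝ᵥ T.u 1) * (T.φ 1 ⬝ᵥ T.u 2) * (T.φ 2 ⬝ᵥ T.u 0) with ht
  set t' := (T.φ 0 ⬝ᵥ T.u 2) * (T.φ 2 ⬝ᵥ T.u 1) * (T.φ 1 ⬝ᵥ T.u 0) with ht'
  set B := kappa (T.u 0) (T.φ 0) (T.u 2) (T.φ 2) with hB
  set C := kappa (T.u 1) (T.φ 1) (T.u 2) (T.φ 2) with hC
  have hneg : ∀ {a α : Fin 3 → F}, Root P a α → Root P (-a) α := fun {a α} h =>
    ⟨by simp [h.1], by rw [← tv_inv h.1]; exact P.inv_mem h.2⟩
  have c1 := hV _ _ _ _ ((r 0).conj_tv' (r 1)) (r 2)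
  have c2 := hV _ _ _ _ ((r 1).conj_tv' (r 2)) (r 0)
  have c3 := hV _ _ _ _ ((hneg (r 0)).conj_tv' (r 1)) (r 2)
  have c4 := hV _ _ _ _ ((r 0).conj_tv' (r 2)) ((hneg (r 1)).conj_tv' (r 0))
  have d0 := (r 0).1
  have d1 := (r 1).1
  have d2 := (r 2).1
  have e1 : kappa (T.u 1 + (T.φ 0 ⬝ᵥ T.u 1) • T.u 0) (T.φ 1 - (T.φ 1 ⬝ᵥ T.u 0) • T.φ 0) (T.u 2) (T.φ 2) =
      (t - t') + C - i₀ * B := by
    simp only [kappa, dotProduct_add, sub_dotProduct, dotProduct_smul, smul_dotProduct, smul_eq_mul, t, t',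
      i₀, B, C]
    ring
  have e2 : kappa (T.u 2 + (T.φ 1 ⬝ᵥ T.u 2) • T.u 1) (T.φ 2 - (T.φ 2 ⬝ᵥ T.u 1) • T.φ 1) (T.u 0) (T.φ 0) =
      (t - t') + B - i₀ * C := by
    simp only [kappa, dotProduct_add, sub_dotProduct, dotProduct_smul, smul_dotProduct, smul_eq_mul, t, t',
      i₀, B, C]
    ring
  have e3 : kappa (T.u 1 + (T.φ 0 ⬝ᵥ T.u 1) • -T.u 0) (T.φ 1 - (T.φ 1 ⬝ᵥ -T.u 0) • T.φ 0) (T.u 2) (T.φ 2) =
      -(t - t') + C - i₀ * B := by
    simp only [kappa, dotProduct_add, sub_dotProduct, dotProduct_smul, smul_dotProduct, smul_eq_mul,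
      dotProduct_neg, t, t', i₀, B, C]
    ring
  have e4 : kappa (T.u 2 + (T.φ 0 ⬝ᵥ T.u 2) • T.u 0) (T.φ 2 - (T.φ 2 ⬝ᵥ T.u 0) • T.φ 0)
      (T.u 0 + (T.φ 1 ⬝ᵥ T.u 0) • -T.u 1) (T.φ 0 - (T.φ 0 ⬝ᵥ -T.u 1) • T.φ 1) =
      (t - t') * (1 + i₀) - i₀ * (B + C) := by
    simp only [kappa, dotProduct_add, sub_dotProduct, dotProduct_smul, smul_dotProduct, smul_eq_mul,
      dotProduct_neg, neg_dotProduct, t, t', i₀, B, C, d0, d1, d2] at hT1 ⊢
    linear_combination ((T.φ 0 ⬝ᵥ T.u 2) * (T.φ 2 ⬝ᵥ T.u 0)) * hT1 +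
      ((T.φ 0 ⬝ᵥ T.u 1) * (T.φ 1 ⬝ᵥ T.u 0) * ((T.φ 0 ⬝ᵥ T.u 2) * (T.φ 2 ⬝ᵥ T.u 0))) * h3
  rw [e1] at c1
  rw [e2] at c2
  rw [e3] at c3
  rw [e4] at c4
  obtain ⟨b, hbV, hb⟩ := exists_pair hT1 (hV _ _ _ _ (r 0) (r 2))
  obtain ⟨c, hcV, hc⟩ := exists_pair hT1 (hV _ _ _ _ (r 1) (r 2))
  obtain ⟨v, -, hv⟩ := exists_pair hT1 c1
  -- the difference of the two triple invariants
  set d : E9 := ad (ad v (ne c)) (mu (0, 1) b) with hd
  have hdv : val9 i₀ d = t - t' := by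
    rw [hd, val9_ad, val9_ad, val9_ne, val9_mu hT1, val9_i, hv, hb, hc]
    ring
  clear_value d
  have mem : ∀ {w : E9} {x : F}, x ^ 5 = x → val9 i₀ w = x → inV w := fun {w x} hx hw => by
    obtain ⟨w', hw'V, hw'⟩ := exists_pair hT1 hx
    rwa [val9_injective hT1 (hw.trans hw'.symm)]
  have := check b hbV c hcV d
    (mem c1 (by rw [val9_ad, val9_ad, val9_ne, val9_mu hT1, val9_i, hdv, hb, hc]; ring))
    (mem c2 (by rw [val9_ad, val9_ad, val9_ne, val9_mu hT1, val9_i, hdv, hb, hc]; ring))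
    (mem c3 (by rw [val9_ad, val9_ad, val9_ne, val9_ne, val9_mu hT1, val9_i, hdv, hb, hc]; ring))
    (mem c4 (by
      rw [val9_ad, val9_mu hT1, val9_ne, val9_mu hT1, val9_ad, val9_i, hdv, hb, hc]
      simp [val9]; ring))
  have h0 : (t + t') ^ 2 = 0 := by
    have h := congrArg (val9 i₀) this
    rw [val9_ad, val9_mu hT1, val9_mu hT1, val9_mu hT1, val9_i, hdv, hb, hc] at h
    simp [val9, hB, hC, kappa, i₀] at h
    simp only [t, t'] at h ⊢
    linear_combination h + ((T.φ 0 ⬝ᵥ T.u 1) * (T.φ 1 ⬝ᵥ T.u 2) * (T.φ 2 ⬝ᵥ T.u 0) *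
      ((T.φ 0 ⬝ᵥ T.u 2) * (T.φ 2 ⬝ᵥ T.u 1) * (T.φ 1 ⬝ᵥ T.u 0))) * h3
  apply T.gram
  rw [Matrix.det_fin_three]
  simp only [Matrix.of_apply, d0, d1, d2]
  linear_combination (pow_eq_zero_iff (n := 2) (by norm_num)).1 h0

end CfsgLib.Mitchell
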