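import Cfsg.Agent.Lib.Mitchell.Roots
import Cfsg.Agent.Lib.GeomClasses.UnitGen
import Cfsg.Agent.Lib.GeomClasses.Unit
import Cfsg.Agent.Lib.SpecLin.SLTwoClassSize
import Cfsg.Agent.Lib.GeomClasses.Symp

/-!
Groups with full root groups: `SL₃(F)`, and the special unitary group.
-/

set_option autoImplicit false
set_option linter.unusedSectionVars false

namespace CfsgLib.Mitchell

open Cfsg Cfsg.Geo Matrix CfsgLib.GeomClasses CfsgLib.RootGroups.SimpleExt
open scoped MatrixGroups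

variable {F : Type*} [Field F] {P : Subgroup (GL (Fin 3) F)}

theorem tv_zero_right (v : Fin 3 → F) : tv v (0 : Fin 3 → F) = 1 :=
  gl_ext fun x => by rw [tv_mulVec (by simp)]; simp

theorem Root.add_right {u φ ψ : Fin 3 → F} (h : Root P u φ) (h' : Root P u ψ) : Root P u (φ + ψ) :=
  ⟨by rw [add_dotProduct, h.1, h'.1, add_zero], by rw [← tv_mul_tv_right h.1 h'.1]; exact P.mul_mem h.2 h'.2⟩

/-- Two functionals killing an independent pair are proportional. -/
theorem smul_of_kills {x y a b : Fin 3 → F} (h : LinearIndependent F ![x, y]) (hax : a ⬝ᵥ x = 0)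
    (hay : a ⬝ᵥ y = 0) (hbx : b ⬝ᵥ x = 0) (hby : b ⬝ᵥ y = 0) (hb : b ≠ 0) : ∃ c : F, a = c • b := by
  let T : (Fin 3 → F) →ₗ[F] (Fin 2 → F) := Matrix.toLin' (Matrix.of ![x, y])
  have hT : Module.finrank F (LinearMap.ker T) = 1 := by
    have h1 := T.finrank_range_add_finrank_ker
    have h2 : Module.finrank F T.range = 2 := by
      have := LinearIndependent.rank_matrix (M := Matrix.of ![x, y]) h
      rwa [Matrix.rank, Fintype.card_fin] at this
    rw [h2, Module.finrank_fintype_fun_eq_card] at h1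
    simp at h1; omega
  have hmem : ∀ z : Fin 3 → F, z ⬝ᵥ x = 0 → z ⬝ᵥ y = 0 → z ∈ LinearMap.ker T := fun z h1 h2 => by
    rw [LinearMap.mem_ker, Matrix.toLin'_apply]
    funext i
    fin_cases i
    · show x ⬝ᵥ z = 0; rwa [dotProduct_comm]
    · show y ⬝ᵥ z = 0; rwa [dotProduct_comm]
  obtain ⟨c, hc⟩ := (finrank_eq_one_iff_of_nonzero' (⟨b, hmem b hbx hby⟩ : LinearMap.ker T)
    (fun h => hb (congrArg Subtype.val h))).1 hT ⟨a, hmem a hax hay⟩
  exact ⟨c, (congrArg Subtype.val hc).symm⟩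

/-- All centres with all functionals, once root groups are lines over the whole field. -/
theorem specialLinear_le_of_full (hgen : RootGen P) (hirr : ActsIrreducibly (matrixSet P))
    (hfull : ∀ a α, Root P a α → ∀ c : F, Root P a (c • α))
    {u₁ φ₁ u₂ φ₂ : Fin 3 → F} (h₁ : Root P u₁ φ₁) (h₂ : Root P u₂ φ₂)
    (hκ : kappa u₁ φ₁ u₂ φ₂ ≠ 0) : specialLinear (Fin 3) F ≤ P := by
  obtain ⟨ha12, ha21⟩ := mul_ne_zero_iff.1 hκ
  obtain ⟨e, he0, he1, he2⟩ := exists_common_zero φ₁ φ₂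
  obtain ⟨u, g, hug, hge, hu0⟩ : ∃ u g, Root P u g ∧ g ⬝ᵥ e ≠ 0 ∧ u ≠ 0 := by
    by_contra h
    push Not at h
    rcases hirr (Submodule.span F {e}) (hgen.invariant fun u φ hu x hx => by
      obtain ⟨l, rfl⟩ := Submodule.mem_span_singleton.1 hx
      by_cases hφ : φ ⬝ᵥ e = 0
      · simp [dotProduct_smul, hφ]
      · simp [h u φ hu hφ]) with hW | hW
    · exact he0 (by simpa using hW)
    · have := congrArg (fun W : Submodule F (Fin 3 → F) => Module.finrank F W) hW
      simp [finrank_span_singleton he0] at this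
  -- the full points
  let Full : (Fin 3 → F) → Prop := fun x => ∀ φ, φ ⬝ᵥ x = 0 → Root P x φ
  have hconj : ∀ x, Full x → ∀ g ∈ P, Full ((g : Matrix (Fin 3) (Fin 3) F) *ᵥ x) := by
    intro x hx g hg φ hφ
    have := (hx (φ ᵥ* (g : Matrix (Fin 3) (Fin 3) F)) (by rw [← dotProduct_mulVec]; exact hφ)).conj hg
    rwa [Matrix.vecMul_vecMul, ← Units.val_mul, mul_inv_cancel, Units.val_one, Matrix.vecMul_one] at this
  have hroot0 : ∀ φ : Fin 3 → F, Root P 0 φ := fun φ =>
    ⟨by simp, by rw [tv_zero_left]; exact P.one_mem⟩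
  have hsmul : ∀ (c : F) x, Full x → Full (c • x) := by
    intro c x hx φ hφ
    rcases eq_or_ne c 0 with rfl | hc
    · rw [zero_smul]; exact hroot0 φ
    have hφ' : φ ⬝ᵥ x = 0 := by simpa [hc] using hφ
    exact ⟨hφ, by rw [tv_smul_comm hφ']; exact (hfull _ _ (hx φ hφ') c).2⟩
  have hadd : ∀ x y, Full x → Full y → Full (x + y) := by
    intro x y hx hy
    by_cases hdep : y ∈ Submodule.span F {x}
    · obtain ⟨c, rfl⟩ := Submodule.mem_span_singleton.1 hdep
      rw [show x + c • x = (1 + c) • x by rw [add_smul, one_smul]]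
      exact hsmul _ _ hx
    obtain ⟨α, hαy, hαx⟩ := exists_separating hdep
    have hr : Root P x ((α ⬝ᵥ y)⁻¹ • α) := hx _ (by simp [hαx x (Submodule.mem_span_singleton_self x)])
    have := hconj y hy _ hr.2
    rwa [tv_mulVec hr.1, smul_dotProduct, smul_eq_mul, inv_mul_cancel₀ hαy, one_smul, add_comm] at this
  let Z : Submodule F (Fin 3 → F) :=
    { carrier := {x | Full x}
      zero_mem' := fun φ _ => hroot0 φ
      add_mem' := fun {x y} hx hy => hadd x y hx hy
      smul_mem' := hsmul }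
  -- a point of the plane killed by `g`
  obtain ⟨x₀, χ, hx0, hr, hgx, hχe⟩ : ∃ x₀ χ, x₀ ≠ 0 ∧ (Root P x₀ χ ∧ χ ≠ 0) ∧ g ⬝ᵥ x₀ = 0 ∧ χ ⬝ᵥ e = 0 := by
    have hu20 : u₂ ≠ 0 := fun h => ha12 (by rw [h, dotProduct_zero])
    have hφ10 : φ₁ ≠ 0 := fun h => ha12 (by rw [h, zero_dotProduct])
    have hφ20 : φ₂ ≠ 0 := fun h => ha21 (by rw [h, zero_dotProduct])
    by_cases hg2 : g ⬝ᵥ u₂ = 0
    · exact ⟨u₂, φ₂, hu20, ⟨h₂, hφ20⟩, hg2, he2⟩
    set c := -(g ⬝ᵥ u₁) / ((g ⬝ᵥ u₂) * (φ₂ ⬝ᵥ u₁)) with hc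
    have hr := (hfull _ _ h₂ c).conj_tv' h₁
    refine ⟨_, _, ?_, ⟨hr, ?_⟩, ?_, ?_⟩
    · intro h
      have := congrArg (φ₂ ⬝ᵥ ·) h
      simp [dotProduct_add, dotProduct_smul, h₂.1, ha21] at this
    · intro h
      have := congrArg (· ⬝ᵥ u₂) h
      simp [sub_dotProduct, smul_dotProduct, h₂.1, ha12] at this
    · simp only [dotProduct_add, dotProduct_smul, smul_dotProduct, smul_eq_mul, hc]
      field_simp
      ring
    · simp [sub_dotProduct, he1, he2]
  obtain ⟨hr, hχ0⟩ := hr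
  have hxe : LinearIndependent F ![x₀, e] := by
    rw [LinearIndependent.pair_iff' hx0]
    intro c hc
    have := congrArg (g ⬝ᵥ ·) hc
    simp [dotProduct_smul, hgx] at this
    exact hge this.symm
  have hx0g : Root P x₀ g := by
    by_cases hχu : χ ⬝ᵥ u = 0
    · -- then `u` is proportional to `x₀`
      have hgu : LinearIndependent F ![χ, g] := by
        rw [LinearIndependent.pair_iff' hχ0]
        intro c hc
        have := congrArg (· ⬝ᵥ e) hc
        simp [hχe] at this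
        exact hge this.symm
      obtain ⟨c, hc⟩ := smul_of_kills hgu (by rw [dotProduct_comm]; exact hχu)
        (by rw [dotProduct_comm]; exact hug.1) (by rw [dotProduct_comm]; exact hr.1)
        (by rw [dotProduct_comm]; exact hgx) hx0
      have hc0 : c ≠ 0 := fun h => hu0 (by rw [hc, h, zero_smul])
      have h2 := hug.2
      rw [hc, tv_smul_comm hgx] at h2
      have := hfull _ _ (⟨by simp [hgx], h2⟩ : Root P x₀ (c • g)) c⁻¹
      rwa [inv_smul_smul₀ hc0] at this
    · have h1 := (hfull _ _ hr (χ ⬝ᵥ u)⁻¹).conj_tv' hug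
      rw [hgx, zero_smul, sub_zero, smul_dotProduct, smul_eq_mul, inv_mul_cancel₀ hχu, one_smul] at h1
      refine ⟨hgx, ?_⟩
      have := P.mul_mem h1.2 (P.inv_mem hug.2)
      rwa [tv_inv hug.1, tv_mul_tv_left h1.1 (by simp [hug.1]), add_comm u x₀, add_neg_cancel_right] at this
  have hfx : x₀ ∈ Z := by
    intro φ hφ
    set ψ := φ - (φ ⬝ᵥ e / (g ⬝ᵥ e)) • g with hψ
    obtain ⟨b, hb⟩ := smul_of_kills hxe (a := ψ) (b := χ)
      (by simp [ψ, sub_dotProduct, hφ, hgx]) (by simp [ψ, sub_dotProduct, hge]) hr.1 hχe hχ0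
    rw [show φ = b • χ + (φ ⬝ᵥ e / (g ⬝ᵥ e)) • g by rw [← hb, hψ, sub_add_cancel]]
    exact (hfull _ _ hr b).add_right (hfull _ _ hx0g _)
  have hZ : Z = ⊤ := by
    refine (hirr Z ?_).resolve_left fun h => hx0 (by simpa [h] using hfx)
    rintro _ ⟨g, hg, rfl⟩ _ ⟨x, hx, rfl⟩
    rw [Matrix.toLin'_apply]
    exact hconj x hx g hg
  exact specialLinear_le_of_tv_mem fun v φ h => ((hZ ▸ Submodule.mem_top : v ∈ Z) φ h).2

/-! ### The unitary case -/

variable [Fintype F] {σ : F ≃+* F} {f : (Fin 3 → F) → (Fin 3 → F) → F}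

/-- A unitary transvection has isotropic centre and functional proportional to the form. -/
theorem root_of_isometry (hf : IsUnitaryForm σ f)
    (hiso : ∀ g ∈ P, Symp.IsIsometry f g) {u φ : Fin 3 → F} (h : Root P u φ) (hu0 : u ≠ 0)
    (hφ0 : φ ≠ 0) : f u u = 0 ∧ ∃ c : F, c ≠ 0 ∧ c + σ c = 0 ∧ ∀ x, φ ⬝ᵥ x = c * f x u := by
  have key : ∀ x y, (φ ⬝ᵥ x) * f u y + σ (φ ⬝ᵥ y) * f x u + (φ ⬝ᵥ x) * σ (φ ⬝ᵥ y) * f u u = 0 := by
    intro x y
    have := hiso _ h.2 x y
    rw [tv_mulVec h.1, tv_mulVec h.1, Unit.add_left hf, Unit.add_right hf, Unit.add_right hf,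
      Unit.smul_left hf, Unit.smul_left hf, Unit.smul_right hf, Unit.smul_right hf] at this
    linear_combination this
  obtain ⟨i, hi⟩ := Function.ne_iff.1 hφ0
  have hφi : φ ⬝ᵥ Pi.single i 1 = φ i := by simp
  have huu : f u u = 0 := by
    have := key u (Pi.single i 1)
    rw [h.1, zero_mul, zero_add, zero_mul, zero_mul, add_zero, hφi, mul_eq_zero, map_eq_zero] at this
    exact this.resolve_left hi
  refine ⟨huu, ?_⟩
  obtain ⟨y, hy⟩ := (hf.nondegenerate u hu0).2
  have hxy : ∀ x, φ ⬝ᵥ x = -(σ (φ ⬝ᵥ y) / f u y) * f x u := fun x => by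
    have := key x y
    rw [huu, mul_zero, add_zero] at this
    field_simp
    linear_combination this
  set c := -(σ (φ ⬝ᵥ y) / f u y) with hc
  have hc0 : c ≠ 0 := by
    intro h0
    refine hi ?_
    rw [← hφi, hxy, h0, zero_mul]; rfl
  refine ⟨c, hc0, ?_, hxy⟩
  obtain ⟨x, hx⟩ := (hf.nondegenerate u hu0).1
  have := key x x
  rw [huu, mul_zero, add_zero, hxy, map_mul, Unit.conj_form hf] at this
  exact (mul_eq_zero.1 (show (c + σ c) * (f x u * f u x) = 0 by linear_combination this)).resolve_right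
    (mul_ne_zero hx (Unit.ne_zero_comm hf hx))

/-- **Fullness in the unitary case.** -/
theorem specialUnitary_le_of_full {q : ℕ} (hF : Fintype.card F = q ^ 2) (hq : 3 ≤ q)
    (hPU : P ≤ Cfsg.GU 3 F q) (hgen : RootGen P) (hirr : ActsIrreducibly (matrixSet P))
    {k : Subfield F} (hk : Nat.card k = q) (hscal : ∀ a α, Root P a α → ∀ c ∈ k, Root P a (c • α))
    {u₁ φ₁ u₂ φ₂ : Fin 3 → F} (h₁ : Root P u₁ φ₁) (h₂ : Root P u₂ φ₂)
    (hκ : kappa u₁ φ₁ u₂ φ₂ ≠ 0) (hκk : kappa u₁ φ₁ u₂ φ₂ ∈ k) :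
    Cfsg.GU 3 F q ⊓ specialLinear (Fin 3) F ≤ P := by
  classical
  -- normalise so that `φ₁ ⬝ u₂ = 1`
  obtain ⟨u₂', φ₂', h₂', hκ', hκk', h12⟩ : ∃ u₂' φ₂', Root P u₂' φ₂' ∧ kappa u₁ φ₁ u₂' φ₂' ≠ 0 ∧
      kappa u₁ φ₁ u₂' φ₂' ∈ k ∧ φ₁ ⬝ᵥ u₂' = 1 := by
    have ha := (mul_ne_zero_iff.1 hκ).1
    set a := φ₁ ⬝ᵥ u₂
    have hκe : kappa u₁ φ₁ (a⁻¹ • u₂) (a • φ₂) = kappa u₁ φ₁ u₂ φ₂ := by
      simp [kappa, dotProduct_smul, smul_dotProduct, a]; field_simp
    refine ⟨a⁻¹ • u₂, a • φ₂, ⟨by simp [h₂.1], ?_⟩, hκe ▸ hκ, hκe ▸ hκk, by simp [a, ha]⟩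
    rw [tv_smul_comm (by simp [h₂.1]), inv_smul_smul₀ ha]
    exact h₂.2
  clear hκ hκk h₂
  have hf := UnitPow.isUnitaryForm_hermForm hF 3
  set f := Cfsg.hermForm 3 F q with hfdef
  set σ := UnitPow.conj hF with hσ
  have hiso : ∀ g ∈ P, Symp.IsIsometry f g := fun g hg => UnitPow.mem_GU.1 (hPU hg)
  have hkfix : ∀ x : F, x ∈ k ↔ σ x = x := by
    intro x
    refine ⟨fun hx => ?_, fun hx => CfsgLib.Geo.Asch.mem_of_pow_card_eq (by rw [hk]; exact hx)⟩
    let : Fintype k := Fintype.ofFinite k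
    show x ^ q = x
    rw [← hk, Nat.card_eq_fintype_card]
    exact congrArg Subtype.val (FiniteField.pow_card (⟨x, hx⟩ : k))
  obtain ⟨e, he0, he1, he2⟩ := exists_common_zero φ₁ φ₂'
  obtain ⟨h12', h21⟩ := mul_ne_zero_iff.1 hκ'
  have hu10 : u₁ ≠ 0 := fun h => h21 (by rw [h, dotProduct_zero])
  have hu20 : u₂' ≠ 0 := fun h => h12' (by rw [h, dotProduct_zero])
  have hφ10 : φ₁ ≠ 0 := fun h => h12' (by rw [h, zero_dotProduct])
  have hφ20 : φ₂' ≠ 0 := fun h => h21 (by rw [h, zero_dotProduct])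
  obtain ⟨hu11, c₁, hc₁0, hc₁, hφ1⟩ := root_of_isometry hf hiso h₁ hu10 hφ10
  obtain ⟨hu22, c₂, hc₂0, hc₂, hφ2⟩ := root_of_isometry hf hiso h₂' hu20 hφ20
  set h := f u₁ u₂' with hhdef
  have hh0 : h ≠ 0 := by
    have := hφ2 u₁ ▸ h21
    exact right_ne_zero_of_mul this
  have h21' : f u₂' u₁ = σ h := (Unit.conj_form hf _ _).symm
  have hskew : h + σ h = 0 := by
    have e1 : c₁ * σ h = 1 := by rw [← h21', ← hφ1]; exact h12
    have e2 : σ c₁ * h = 1 := by
      have := congrArg σ e1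
      rwa [map_mul, hf.involutive, map_one] at this
    have : c₁ * (σ h + h) = 0 := by linear_combination e1 - e2 + h * hc₁
    linear_combination (mul_eq_zero.1 this).resolve_left hc₁0
  have hσh : σ h = -h := by linear_combination hskew
  have he_u1 : f e u₁ = 0 := (mul_eq_zero.1 ((hφ1 e).symm.trans he1)).resolve_left hc₁0
  have he_u2 : f e u₂' = 0 := (mul_eq_zero.1 ((hφ2 e).symm.trans he2)).resolve_left hc₂0
  -- coordinates
  have hdec : ∀ x : Fin 3 → F, ∃ α β γ : F, x = α • u₁ + β • u₂' + γ • e := by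
    have hli : LinearIndependent F ![u₁, u₂', e] := by
      rw [Fintype.linearIndependent_iff]
      intro c hc
      simp only [Fin.sum_univ_three, Matrix.cons_val_zero, Matrix.cons_val_one, Matrix.cons_val] at hc
      have e1 := congrArg (φ₁ ⬝ᵥ ·) hc
      have e2 := congrArg (φ₂' ⬝ᵥ ·) hc
      simp only [dotProduct_add, dotProduct_smul, h₁.1, h₂'.1, he1, he2, smul_eq_mul, mul_zero,
        add_zero, zero_add, dotProduct_zero, mul_eq_zero, h12', h21, or_false] at e1 e2
      rw [e1, e2, zero_smul, zero_smul, zero_add, zero_add, smul_eq_zero] at hc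
      intro i; fin_cases i
      · exact e2
      · exact e1
      · exact hc.resolve_right he0
    intro x
    have hx : x ∈ Submodule.span F (Set.range ![u₁, u₂', e]) := by
      rw [hli.span_eq_top_of_card_eq_finrank' (by simp)]; trivial
    obtain ⟨c, hc⟩ := (Submodule.mem_span_range_iff_exists_fun F).1 hx
    simp only [Fin.sum_univ_three, Matrix.cons_val_zero, Matrix.cons_val_one, Matrix.cons_val] at hc
    exact ⟨_, _, _, hc.symm⟩
  have hform : ∀ α β γ : F, f (α • u₁ + β • u₂' + γ • e) (α • u₁ + β • u₂' + γ • e) =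
      h * (α * σ β - β * σ α) + γ * σ γ * f e e := by
    intro α β γ
    simp only [Unit.add_left hf, Unit.add_right hf, Unit.smul_left hf, Unit.smul_right hf, hu11, hu22,
      he_u1, he_u2, Unit.eq_zero_comm hf he_u1, Unit.eq_zero_comm hf he_u2, h21', hσh, ← hhdef]
    ring
  have hee : f e e ≠ 0 := by
    intro h0
    obtain ⟨x, hx⟩ := (hf.nondegenerate e he0).1
    obtain ⟨α, β, γ, rfl⟩ := hdec x
    exact hx (by simp [Unit.add_left hf, Unit.smul_left hf, h0, Unit.eq_zero_comm hf he_u1,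
      Unit.eq_zero_comm hf he_u2])
  -- the centres
  let C : (Fin 3 → F) → Prop := fun x => x ≠ 0 ∧ ∃ φ, φ ≠ 0 ∧ Root P x φ
  have hCconj : ∀ x, C x → ∀ g ∈ P, C ((g : Matrix (Fin 3) (Fin 3) F) *ᵥ x) := by
    rintro x ⟨hx0, φ, hφ, hr⟩ g hg
    refine ⟨gl_mulVec_ne_zero g hx0, _, fun h => hφ ?_, hr.conj hg⟩
    have := congrArg (· ᵥ* (g : Matrix (Fin 3) (Fin 3) F)) h
    simpa [Matrix.vecMul_vecMul, ← Units.val_mul] using this
  have hCsmul : ∀ (a : F), a ≠ 0 → ∀ x, C x → C (a • x) := by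
    rintro a ha x ⟨hx0, φ, hφ, hr⟩
    refine ⟨smul_ne_zero ha hx0, a⁻¹ • φ, smul_ne_zero (inv_ne_zero ha) hφ, by simp [hr.1], ?_⟩
    rw [tv_smul_comm (by simp [hr.1]), smul_inv_smul₀ ha]
    exact hr.2
  -- `SL₂(k)` on the plane
  let ι : SpecialLinearGroup (Fin 2) k →* GL (Fin 3) F :=
    (planeHom h₁.1 h₂'.1 hκ').comp (SpecialLinearGroup.map k.subtype)
  have hιP : ∀ g, ι g ∈ P := by
    intro g
    have : (P.comap ι) = ⊤ := by
      refine Cfsg.Agent.Classical.sl_subgroup_eq_top_of_transvection_mem _ fun i j hij c => ?_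
      show planeHom h₁.1 h₂'.1 hκ' (SpecialLinearGroup.map k.subtype
        (SpecialLinearGroup.transvection hij c)) ∈ P
      fin_cases i <;> fin_cases j
      · exact absurd rfl hij
      · rw [show SpecialLinearGroup.map k.subtype (SpecialLinearGroup.transvection _ c) = U (c : F) by
          refine Subtype.ext ?_; ext a b
          fin_cases a <;> fin_cases b <;> simp [U_val, SpecialLinearGroup.transvection_coe, Matrix.single]]
        rw [planeHom_U, h12, div_one]
        exact (hscal _ _ h₁ _ c.2).2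
      · rw [show SpecialLinearGroup.map k.subtype (SpecialLinearGroup.transvection _ c) = L (c : F) by
          refine Subtype.ext ?_; ext a b
          fin_cases a <;> fin_cases b <;> simp [L_val, SpecialLinearGroup.transvection_coe, Matrix.single]]
        rw [planeHom_L]
        refine (hscal _ _ h₂' _ (div_mem c.2 ?_)).2
        rwa [kappa, h12, one_mul] at hκk'
      · exact absurd rfl hij
    exact (this ▸ Subgroup.mem_top g : g ∈ P.comap ι)
  have hι : ∀ (g : SpecialLinearGroup (Fin 2) k) (α β : F),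
      (ι g : Matrix (Fin 3) (Fin 3) F) *ᵥ (α • u₁ + β • u₂' + (1 : F) • e) =
        ((g.1 0 0 : F) * α + (g.1 0 1 : F) * β) • u₁ + ((g.1 1 0 : F) * α + (g.1 1 1 : F) * β) • u₂'
          + (1 : F) • e := by
    intro g α β
    show planeMat u₁ φ₁ u₂' φ₂' ((SpecialLinearGroup.map k.subtype g).1) *ᵥ _ = _
    rw [planeMat, Matrix.add_mulVec, Matrix.one_mulVec, ← Matrix.mulVec_mulVec, ← Matrix.mulVec_mulVec]
    have hV : (Matrix.of ![(φ₂' ⬝ᵥ u₁)⁻¹ • φ₂', (φ₁ ⬝ᵥ u₂')⁻¹ • φ₁]) *ᵥ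
        (α • u₁ + β • u₂' + (1 : F) • e) = ![α, β] := by
      funext i
      have hrow : ∀ (χ : Fin 3 → F) (x : Fin 3 → F), (fun j => χ j) ⬝ᵥ x = χ ⬝ᵥ x := fun _ _ => rfl
      fin_cases i
      · show ((φ₂' ⬝ᵥ u₁)⁻¹ • φ₂') ⬝ᵥ _ = _
        simp [dotProduct_add, dotProduct_smul, h₂'.1, he2]
        field_simp
      · show ((φ₁ ⬝ᵥ u₂')⁻¹ • φ₁) ⬝ᵥ _ = _
        simp [dotProduct_add, dotProduct_smul, h₁.1, he1, h12]
    rw [hV]
    funext a
    simp [Matrix.mulVec, dotProduct, Fin.sum_univ_two, Matrix.sub_apply, Matrix.one_apply]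
    ring
  -- isotropic points of the plane
  have hplane : ∀ α β : F, h * (α * σ β - β * σ α) = 0 → (α ≠ 0 ∨ β ≠ 0) → C (α • u₁ + β • u₂') := by
    intro α β hz hne
    have hz' : α * σ β - β * σ α = 0 := (mul_eq_zero.1 hz).resolve_left hh0
    have hC1 : C u₁ := ⟨hu10, φ₁, hφ10, h₁⟩
    by_cases hα : α = 0
    · subst hα
      rw [zero_smul, zero_add]
      exact hCsmul β (hne.resolve_left (by simp)) _ ⟨hu20, φ₂', hφ20, h₂'⟩
    have ht : β / α ∈ k := by
      rw [hkfix, map_div₀, div_eq_div_iff ((map_ne_zero σ).2 hα) hα]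
      linear_combination hz'
    have hκ21 : φ₂' ⬝ᵥ u₁ ∈ k := by rwa [kappa, h12, one_mul] at hκk'
    have hr := hscal _ _ h₂' ((β / α) / (φ₂' ⬝ᵥ u₁)) (div_mem ht hκ21)
    have := hCsmul α hα _ (hCconj _ hC1 _ hr.2)
    rwa [tv_mulVec hr.1, smul_dotProduct, smul_eq_mul, div_mul_cancel₀ _ h21, smul_add, smul_smul,
      mul_div_cancel₀ _ hα] at this
  -- the isotropic points off the plane form one orbit
  set m := -(f e e) / h with hm
  have hm0 : m ≠ 0 := div_ne_zero (neg_ne_zero.2 hee) hh0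
  let S : Finset (F × F) := Finset.univ.filter fun w => w.1 * σ w.2 - w.2 * σ w.1 = m
  obtain ⟨w₀, hw₀, hw₀C⟩ : ∃ w ∈ S, C (w.1 • u₁ + w.2 • u₂' + (1 : F) • e) := by
    obtain ⟨T⟩ := exists_triangle hgen hirr h₁ h₂' hκ'
    by_contra hno
    push Not at hno
    -- every centre would lie in the plane
    have hall : ∀ v φ, Root P v φ → φ ≠ 0 → φ₁ ⬝ᵥ v = 0 → φ₂' ⬝ᵥ v = 0 → v = 0 := by
      intro v φ hv hφ hv1 hv2
      by_contra hv0
      obtain ⟨α, β, γ, rfl⟩ := hdec v
      simp [dotProduct_add, dotProduct_smul, h₁.1, h₂'.1, he1, he2, h12', h21] at hv1 hv2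
      obtain ⟨hiso', -⟩ := root_of_isometry hf hiso hv hv0 hφ
      subst hv1; subst hv2
      rw [hform] at hiso'
      simp [hee] at hiso'
      exact hv0 (by simp [hiso'])
    obtain ⟨v, φ, hv, hφ, hvW⟩ : ∃ v φ, Root P v φ ∧ φ ≠ 0 ∧ ∀ α β : F, v ≠ α • u₁ + β • u₂' := by
      by_contra hcon
      push Not at hcon
      rcases hirr (Submodule.span F {u₁, u₂'}) (hgen.invariant fun v φ hv x _ => by
        by_cases hφ : φ = 0
        · simp [hφ]
        · obtain ⟨α, β, rfl⟩ := hcon v φ hv hφ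
          exact Submodule.smul_mem _ _ (Submodule.mem_span_pair.2 ⟨α, β, rfl⟩)) with hW | hW
      · exact hu10 (by simpa using (Submodule.span_eq_bot.1 hW u₁ (by simp)))
      · have := (hW ▸ Submodule.mem_top : e ∈ Submodule.span F {u₁, u₂'})
        obtain ⟨α, β, hab⟩ := Submodule.mem_span_pair.1 this
        have e1 := congrArg (φ₁ ⬝ᵥ ·) hab
        have e2 := congrArg (φ₂' ⬝ᵥ ·) hab
        simp [dotProduct_add, dotProduct_smul, h₁.1, h₂'.1, he1, he2, h12', h21] at e1 e2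
        rw [e1, e2] at hab
        exact he0 (by simpa using hab.symm)
    obtain ⟨α, β, γ, rfl⟩ := hdec v
    have hγ : γ ≠ 0 := by
      rintro rfl
      exact hvW α β (by simp)
    have hv0 : α • u₁ + β • u₂' + γ • e ≠ 0 := fun h0 => hvW 0 0 (by simp [h0])
    obtain ⟨hiso', -⟩ := root_of_isometry hf hiso hv hv0 hφ
    rw [hform] at hiso'
    refine hno (α / γ, β / γ) ?_ ?_
    · simp only [S, Finset.mem_filter, Finset.mem_univ, true_and, map_div₀, hm]
      have hσγ := (map_ne_zero σ).2 hγ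
      field_simp
      linear_combination hiso'
    · have := hCsmul γ⁻¹ (inv_ne_zero hγ) _ ⟨hv0, φ, hφ, hv⟩
      rw [smul_add, smul_add, smul_smul, smul_smul, smul_smul, inv_mul_cancel₀ hγ] at this
      rwa [div_eq_inv_mul, div_eq_inv_mul]
  let : Fintype k := Fintype.ofFinite k
  have hqk : Fintype.card k = q := by rw [← Nat.card_eq_fintype_card, hk]
  let orb : SpecialLinearGroup (Fin 2) k → F × F := fun g =>
    ((g.1 0 0 : F) * w₀.1 + (g.1 0 1 : F) * w₀.2, (g.1 1 0 : F) * w₀.1 + (g.1 1 1 : F) * w₀.2)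
  have horb : ∀ g, orb g ∈ S := by
    intro g
    simp only [S, Finset.mem_filter, Finset.mem_univ, true_and] at hw₀ ⊢
    have hd : (g.1 0 0 : F) * (g.1 1 1 : F) - (g.1 0 1 : F) * (g.1 1 0 : F) = 1 := by
      have := congrArg (fun x : k => (x : F)) g.2
      rw [Matrix.det_fin_two] at this
      simpa using this
    simp only [orb, map_add, map_mul, (hkfix _).1 (g.1 0 0).2, (hkfix _).1 (g.1 0 1).2,
      (hkfix _).1 (g.1 1 0).2, (hkfix _).1 (g.1 1 1).2]
    linear_combination ((g.1 0 0 : F) * (g.1 1 1 : F) - (g.1 0 1 : F) * (g.1 1 0 : F)) * hw₀ + m * hd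
  have hinj : Function.Injective orb := by
    intro g g' hgg
    simp only [S, Finset.mem_filter, Finset.mem_univ, true_and] at hw₀
    simp only [orb, Prod.mk.injEq] at hgg
    have key : ∀ a b : k, (a : F) * w₀.1 + (b : F) * w₀.2 = 0 → a = 0 ∧ b = 0 := by
      intro a b hab
      by_cases hb : b = 0
      · subst hb
        simp only [ZeroMemClass.coe_zero, zero_mul, add_zero, mul_eq_zero] at hab
        refine ⟨Subtype.ext (hab.resolve_right fun h0 => hm0 ?_), rfl⟩
        rw [← hw₀, h0, map_zero]; ring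
      · exfalso
        refine hm0 ?_
        have hb' : (b : F) ≠ 0 := fun h => hb (Subtype.ext h)
        have hw2 : w₀.2 = ((-(a / b) : k) : F) * w₀.1 := by
          simp only [NegMemClass.coe_neg, Subfield.coe_div]
          field_simp
          linear_combination hab
        rw [← hw₀, hw2, map_mul, (hkfix _).1 (-(a / b) : k).2]
        ring
    obtain ⟨a1, a2⟩ := key (g.1 0 0 - g'.1 0 0) (g.1 0 1 - g'.1 0 1)
      (by push_cast; linear_combination hgg.1)
    obtain ⟨a3, a4⟩ := key (g.1 1 0 - g'.1 1 0) (g.1 1 1 - g'.1 1 1)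
      (by push_cast; linear_combination hgg.2)
    refine Subtype.ext ?_
    ext i j
    fin_cases i <;> fin_cases j
    · exact congrArg Subtype.val (sub_eq_zero.1 a1)
    · exact congrArg Subtype.val (sub_eq_zero.1 a2)
    · exact congrArg Subtype.val (sub_eq_zero.1 a3)
    · exact congrArg Subtype.val (sub_eq_zero.1 a4)
  have hsurj : ∀ w ∈ S, ∃ g, orb g = w := by
    have hle : (Finset.univ.image orb) ⊆ S := fun w hw => by
      obtain ⟨g, -, rfl⟩ := Finset.mem_image.1 hw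
      exact horb g
    have hcard : S.card ≤ (q ^ 2 - 1) * q := by
      have hfib : ∀ a ∈ S.image Prod.fst, (S.filter fun w => w.1 = a).card ≤ q := by
        intro a ha
        obtain ⟨w₁, hw₁, hw₁a⟩ := Finset.mem_image.1 ha
        subst hw₁a
        simp only [S, Finset.mem_filter, Finset.mem_univ, true_and] at hw₁
        have ha0 : w₁.1 ≠ 0 := fun h0 => hm0 (by rw [← hw₁, h0, map_zero]; ring)
        rw [← hqk, ← Finset.card_univ]
        have hmem : ∀ w ∈ S.filter (fun w => w.1 = w₁.1), (w.2 - w₁.2) / w₁.1 ∈ k := by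
          intro w hw
          simp only [S, Finset.mem_filter, Finset.mem_univ, true_and] at hw
          obtain ⟨hw, hwa⟩ := hw
          rw [hwa] at hw
          rw [hkfix, map_div₀, map_sub, div_eq_div_iff ((map_ne_zero σ).2 ha0) ha0]
          linear_combination hw - hw₁
        refine Finset.card_le_card_of_injOn
          (fun w => if hw : (w.2 - w₁.2) / w₁.1 ∈ k then (⟨_, hw⟩ : k) else 0)
          (fun _ _ => Finset.mem_univ _) ?_
        intro w hw w' hw' e
        simp only [Finset.coe_filter, Set.mem_setOf_eq] at hw hw'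
        simp only [dif_pos (hmem w (Finset.mem_filter.2 hw)), dif_pos (hmem w' (Finset.mem_filter.2 hw')),
          Subtype.mk.injEq] at e
        refine Prod.ext (hw.2.trans hw'.2.symm) ?_
        field_simp at e
        linear_combination e
      refine (Finset.card_le_mul_card_image S q hfib).trans ?_
      rw [mul_comm]
      refine Nat.mul_le_mul_right q ?_
      have hsub : S.image Prod.fst ⊆ Finset.univ.erase 0 := by
        intro a ha
        obtain ⟨w, hw, rfl⟩ := Finset.mem_image.1 ha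
        simp only [S, Finset.mem_filter, Finset.mem_univ, true_and] at hw
        refine Finset.mem_erase.2 ⟨fun h0 => hm0 ?_, Finset.mem_univ _⟩
        rw [← hw, h0, map_zero]; ring
      have := Finset.card_le_card hsub
      rwa [Finset.card_erase_of_mem (Finset.mem_univ _), Finset.card_univ, hF] at this
    have hsl : (Finset.univ.image orb).card = (q ^ 2 - 1) * q := by
      rw [Finset.card_image_of_injective _ hinj, Finset.card_univ, ← Nat.card_eq_fintype_card,
        CfsgLib.SpecLin.SLTwo.card_sl_two, hqk, mul_comm]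
    have heq := Finset.eq_of_subset_of_card_le hle (hsl ▸ hcard)
    intro w hw
    rw [← heq] at hw
    obtain ⟨g, -, hg⟩ := Finset.mem_image.1 hw
    exact ⟨g, hg⟩
  have hCall : ∀ v, f v v = 0 → v ≠ 0 → C v := by
    intro v hv hv0
    obtain ⟨α, β, γ, rfl⟩ := hdec v
    rw [hform] at hv
    by_cases hγ : γ = 0
    · subst hγ
      rw [zero_mul, zero_mul, add_zero] at hv
      rw [zero_smul, add_zero]
      refine hplane α β hv ?_
      by_contra h0
      push Not at h0
      exact hv0 (by simp [h0.1, h0.2])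
    obtain ⟨g, hg⟩ := hsurj (α / γ, β / γ) (by
      simp only [S, Finset.mem_filter, Finset.mem_univ, true_and, map_div₀, hm]
      have hσγ := (map_ne_zero σ).2 hγ
      field_simp
      linear_combination hv)
    have hC := hCconj _ hw₀C _ (hιP g)
    rw [hι] at hC
    simp only [orb, Prod.mk.injEq] at hg
    rw [hg.1, hg.2] at hC
    have := hCsmul γ hγ _ hC
    rwa [smul_add, smul_add, smul_smul, smul_smul, smul_smul, mul_div_cancel₀ _ hγ, mul_div_cancel₀ _ hγ,
      mul_one] at this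
  refine UnitGen.specialUnitary_le_of_formTv_mem hF le_rfl (by omega) fun v hv c hc => ?_
  by_cases hv0 : v = 0
  · subst hv0
    have : formTv f (0 : Fin 3 → F) c = 1 := tv_zero_left _
    rw [this]; exact P.one_mem
  obtain ⟨-, φ, hφ, hr⟩ := hCall v hv hv0
  obtain ⟨-, c₀, hc₀0, hc₀, hφc⟩ := root_of_isometry hf hiso hr hv0 hφ
  have hck : c / c₀ ∈ k := by
    rw [hkfix, map_div₀, show σ c = -c from (eq_neg_of_add_eq_zero_right hc), eq_neg_of_add_eq_zero_right hc₀,
      neg_div_neg_eq]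
  have hr' := hscal _ _ hr _ hck
  have : tv v ((c / c₀) • φ) = formTv f v c := gl_ext fun x => by
    rw [tv_mulVec hr'.1, Unit.formTv_mulVec hf hv, smul_dotProduct, smul_eq_mul, hφc]
    congr 2
    field_simp
  exact this ▸ hr'.2

end CfsgLib.Mitchell
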