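import Cfsg.Agent.Lib.Mitchell.RootSL2
import Cfsg.Agent.Lib.Mitchell.Dichotomy

/-!
The root field of a group with elations.
-/

set_option autoImplicit false
set_option linter.unusedSectionVars false

namespace CfsgLib.Mitchell

open Cfsg Cfsg.Geo Matrix CfsgLib.GeomClasses CfsgLib.RootGroups.SimpleExt
open scoped MatrixGroups

variable {F : Type*} [Field F] {P : Subgroup (GL (Fin 3) F)}

/-- The parameters `c` with `tv u (c • φ) ∈ P`. -/
def rootParam (P : Subgroup (GL (Fin 3) F)) {u φ : Fin 3 → F} (h : φ ⬝ᵥ u = 0) : AddSubgroup F where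
  carrier := {c | tv u (c • φ) ∈ P}
  zero_mem' := by
    show tv u ((0 : F) • φ) ∈ P
    rw [← tv_smul_comm h, zero_smul, tv_zero_left]; exact P.one_mem
  add_mem' {a b} ha hb := by
    show tv u ((a + b) • φ) ∈ P
    rw [add_smul, ← tv_mul_tv_right (by simp [h]) (by simp [h])]; exact P.mul_mem ha hb
  neg_mem' {a} ha := by
    show tv u ((-a) • φ) ∈ P
    rw [← tv_smul_comm h, neg_smul, ← tv_inv (by simp [h]), tv_smul_comm h]
    exact P.inv_mem ha

theorem mem_rootParam {u φ : Fin 3 → F} {h : φ ⬝ᵥ u = 0} {c : F} :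
    c ∈ rootParam P h ↔ Root P u (c • φ) :=
  ⟨fun hc => ⟨by simp [h], hc⟩, fun hc => hc.2⟩

theorem one_mem_rootParam {u φ : Fin 3 → F} (h : Root P u φ) : (1 : F) ∈ rootParam P h.1 := by
  rw [mem_rootParam, one_smul]; exact h

/-- The `2 × 2` matrices on the plane of two roots, fixing the common zero of the functionals. -/
def planeMat (u φ v ψ : Fin 3 → F) (M : Matrix (Fin 2) (Fin 2) F) : Matrix (Fin 3) (Fin 3) F :=
  1 + (Matrix.of fun i j => ![u, v] j i) * (M - 1) *
    (Matrix.of ![(ψ ⬝ᵥ u)⁻¹ • ψ, (φ ⬝ᵥ v)⁻¹ • φ])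

/-- The embedding of `SL₂` on the plane of two roots. -/
def planeHom {u φ v ψ : Fin 3 → F} (hu : φ ⬝ᵥ u = 0) (hv : ψ ⬝ᵥ v = 0) (hκ : kappa u φ v ψ ≠ 0) :
    SpecialLinearGroup (Fin 2) F →* GL (Fin 3) F :=
  MonoidHom.toHomUnits
    { toFun := fun g => planeMat u φ v ψ g.1
      map_one' := by simp [planeMat]
      map_mul' := fun g h => by
        have hVU : (Matrix.of ![(ψ ⬝ᵥ u)⁻¹ • ψ, (φ ⬝ᵥ v)⁻¹ • φ]) * (Matrix.of fun i j => ![u, v] j i) =
            (1 : Matrix (Fin 2) (Fin 2) F) := by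
          obtain ⟨ha, hb⟩ := mul_ne_zero_iff.1 hκ
          ext i j
          have key : ∀ (c : F) (χ x : Fin 3 → F), ∑ k, c * χ k * x k = c * (χ ⬝ᵥ x) := fun c χ x => by
            simp [dotProduct, Finset.mul_sum, mul_assoc]
          fin_cases i <;> fin_cases j <;> simp [Matrix.mul_apply, key, hu, hv, ha, hb]
        show planeMat u φ v ψ (g.1 * h.1) = _
        simp only [planeMat]
        set U : Matrix (Fin 3) (Fin 2) F := Matrix.of fun i j => ![u, v] j i
        set V : Matrix (Fin 2) (Fin 3) F := Matrix.of ![(ψ ⬝ᵥ u)⁻¹ • ψ, (φ ⬝ᵥ v)⁻¹ • φ]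
        simp only [Matrix.add_mul, Matrix.mul_add, Matrix.one_mul, Matrix.mul_one]
        rw [show U * (g.1 - 1) * V * (U * (h.1 - 1) * V) = U * ((g.1 - 1) * (h.1 - 1)) * V by
            simp only [Matrix.mul_assoc]
            rw [← Matrix.mul_assoc V U, hVU, Matrix.one_mul],
          show g.1 * h.1 - 1 = (h.1 - 1) + (g.1 - 1) + (g.1 - 1) * (h.1 - 1) by noncomm_ring,
          Matrix.mul_add, Matrix.mul_add, Matrix.add_mul, Matrix.add_mul]
        abel }

theorem planeHom_val {u φ v ψ : Fin 3 → F} (hu : φ ⬝ᵥ u = 0) (hv : ψ ⬝ᵥ v = 0)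
    (hκ : kappa u φ v ψ ≠ 0) (g : SpecialLinearGroup (Fin 2) F) :
    (planeHom hu hv hκ g : Matrix (Fin 3) (Fin 3) F) = planeMat u φ v ψ g.1 := rfl

theorem planeHom_U {u φ v ψ : Fin 3 → F} (hu : φ ⬝ᵥ u = 0) (hv : ψ ⬝ᵥ v = 0)
    (hκ : kappa u φ v ψ ≠ 0) (x : F) : planeHom hu hv hκ (U x) = tv u ((x / (φ ⬝ᵥ v)) • φ) := by
  apply Units.ext
  rw [planeHom_val, tv_val (by simp [hu]), planeMat]
  congr 1
  ext i j
  simp [Matrix.mul_apply, Fin.sum_univ_two, U_val, vecMulVec_apply, div_eq_mul_inv]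
  ring

theorem planeHom_L {u φ v ψ : Fin 3 → F} (hu : φ ⬝ᵥ u = 0) (hv : ψ ⬝ᵥ v = 0)
    (hκ : kappa u φ v ψ ≠ 0) (x : F) : planeHom hu hv hκ (L x) = tv v ((x / (ψ ⬝ᵥ u)) • ψ) := by
  apply Units.ext
  rw [planeHom_val, tv_val (by simp [hv]), planeMat]
  congr 1
  ext i j
  simp [Matrix.mul_apply, Fin.sum_univ_two, L_val, vecMulVec_apply, div_eq_mul_inv]
  ring

variable [Fintype F] {u φ v ψ : Fin 3 → F}

theorem mem_upper_comap (hu : φ ⬝ᵥ u = 0) (hv : ψ ⬝ᵥ v = 0) (hκ : kappa u φ v ψ ≠ 0) {c : F} :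
    (φ ⬝ᵥ v) * c ∈ upper (P.comap (planeHom hu hv hκ)) ↔ c ∈ rootParam P hu := by
  rw [mem_upper, Subgroup.mem_comap, planeHom_U, mul_div_cancel_left₀ _ (mul_ne_zero_iff.1 hκ).1]
  exact Iff.rfl

theorem exists_notMem_two {A : AddSubgroup F} (h : 2 < Nat.card A) (a : F) :
    ∃ x ∈ A, x ≠ 0 ∧ x ≠ a := by
  classical
  by_contra hc
  push Not at hc
  let f : A → Fin 2 := fun x => if (x : F) = 0 then 0 else 1
  have hf : Function.Injective f := by
    intro x y e
    apply Subtype.ext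
    by_cases hx : (x : F) = 0 <;> by_cases hy : (y : F) = 0 <;>
      simp only [f, hx, hy, if_true, if_false] at e ⊢
    all_goals first
      | exact absurd e (by decide)
      | rw [hc _ x.2 hx, hc _ y.2 hy]
  have := Nat.card_le_card_of_injective f hf
  rw [Nat.card_fin] at this
  omega

theorem exists_notMem_three {A : AddSubgroup F} (h : 3 < Nat.card A) (a : F) :
    ∃ x ∈ A, x ≠ 0 ∧ x ≠ a ∧ x ≠ -a := by
  classical
  by_contra hc
  push Not at hc
  let f : A → Fin 3 := fun x => if (x : F) = 0 then 0 else if (x : F) = a then 1 else 2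
  have hf : Function.Injective f := by
    intro x y e
    apply Subtype.ext
    by_cases hx : (x : F) = 0 <;> by_cases hy : (y : F) = 0 <;>
      by_cases hx' : (x : F) = a <;> by_cases hy' : (y : F) = a <;>
      simp only [f, hx, hy, hx', hy', if_true, if_false] at e ⊢
    all_goals first
      | exact absurd e (by decide)
      | exact hx'.trans hy'.symm
      | rw [hc _ x.2 hx hx', hc _ y.2 hy hy']
      | simp_all
  have := Nat.card_le_card_of_injective f hf
  rw [Nat.card_fin] at this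
  omega

/-- The root group of `(u, φ)` is invariant under the invariant `κ` of any partner, except in two
small cases. -/
theorem kappa_mul_mem (p : ℕ) [Fact p.Prime] [CharP F p] (hu : Root P u φ) (hv : Root P v ψ)
    (hκ : kappa u φ v ψ ≠ 0) (h2 : p = 2 → 2 < Nat.card (rootParam P hu.1))
    (h3 : p = 3 → kappa u φ v ψ ^ 2 = -1 → 3 < Nat.card (rootParam P hu.1))
    {x : F} (hx : x ∈ rootParam P hu.1) : kappa u φ v ψ * x ∈ rootParam P hu.1 := by
  set G := P.comap (planeHom hu.1 hv.1 hκ)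
  have ha : φ ⬝ᵥ v ∈ upper G := by
    have := (mem_upper_comap hu.1 hv.1 hκ).2 (one_mem_rootParam hu)
    rwa [mul_one] at this
  obtain ⟨ha0, hb0⟩ := mul_ne_zero_iff.1 hκ
  have hb : L (ψ ⬝ᵥ u) ∈ G := by
    show planeHom hu.1 hv.1 hκ (L _) ∈ P
    rw [planeHom_L, div_self hb0, one_smul]; exact hv.2
  refine (mem_upper_comap hu.1 hv.1 hκ).1 ?_
  rw [show (φ ⬝ᵥ v) * (kappa u φ v ψ * x) = (φ ⬝ᵥ v) * (ψ ⬝ᵥ u) * ((φ ⬝ᵥ v) * x) by
    rw [kappa]; ring]
  refine mul_mem_upper p ha ha0 hb hb0 (fun hp => ?_) (fun hp hk => ?_)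
    ((mem_upper_comap hu.1 hv.1 hκ).2 hx)
  · obtain ⟨y, hy, hy0, hy1⟩ := exists_notMem_two (h2 hp) 1
    exact ⟨_, (mem_upper_comap hu.1 hv.1 hκ).2 hy, mul_ne_zero ha0 hy0,
      fun e => hy1 (mul_left_cancel₀ ha0 (e.trans (mul_one _).symm))⟩
  · obtain ⟨y, hy, hy0, hy1, hyn⟩ := exists_notMem_three (h3 hp hk) 1
    exact ⟨_, (mem_upper_comap hu.1 hv.1 hκ).2 hy, mul_ne_zero ha0 hy0,
      fun e => hy1 (mul_left_cancel₀ ha0 (e.trans (mul_one _).symm)),
      fun e => hyn (mul_left_cancel₀ ha0 (e.trans (by ring)))⟩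

/-- If `-1/κ` is a root parameter of `(u, φ)`, its partner has the parameters `κ x`. -/
theorem kappa_mul_mem_partner (hu : Root P u φ) (hv : Root P v ψ) (hκ : kappa u φ v ψ ≠ 0)
    (h : (kappa u φ v ψ)⁻¹ ∈ rootParam P hu.1) {x : F} (hx : x ∈ rootParam P hu.1) :
    kappa u φ v ψ * x ∈ rootParam P hv.1 := by
  obtain ⟨ha0, hb0⟩ := mul_ne_zero_iff.1 hκ
  set G := P.comap (planeHom hu.1 hv.1 hκ)
  set b := ψ ⬝ᵥ u
  have hs : U (-b⁻¹) ∈ G := by
    have := (upper G).neg_mem ((mem_upper_comap hu.1 hv.1 hκ).2 h)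
    rwa [kappa, mul_inv, ← mul_assoc, mul_inv_cancel₀ ha0, one_mul] at this
  have hb : L b ∈ G := by
    show planeHom hu.1 hv.1 hκ (L _) ∈ P
    rw [planeHom_L, div_self hb0, one_smul]; exact hv.2
  set w := U (-b⁻¹) * L b * U (-b⁻¹) with hw
  have hwG : w ∈ G := mul_mem (mul_mem hs hb) hs
  have hy : U ((φ ⬝ᵥ v) * x) ∈ G := (mem_upper_comap hu.1 hv.1 hκ).2 hx
  have key : w * U ((φ ⬝ᵥ v) * x) * w⁻¹ = L (-(b * b * ((φ ⬝ᵥ v) * x))) := by
    rw [mul_inv_eq_iff_eq_mul, hw]
    refine sl_ext ?_ ?_ ?_ ?_ <;> simp [mul_00, mul_01, mul_10, mul_11]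
    all_goals try field_simp
    all_goals try ring_nf
    all_goals try simp
  have hL : L (-(b * b * ((φ ⬝ᵥ v) * x))) ∈ G := key ▸ mul_mem (mul_mem hwG hy) (inv_mem hwG)
  have hL' : planeHom hu.1 hv.1 hκ (L (-(b * b * ((φ ⬝ᵥ v) * x)))) ∈ P := hL
  rw [planeHom_L] at hL'
  have := (rootParam P hv.1).neg_mem (x := -(b * b * ((φ ⬝ᵥ v) * x)) / b) hL'
  convert this using 1
  rw [kappa]
  field_simp
  ring

/-- Multipliers of an additive subgroup. -/
def mulField (A : AddSubgroup F) (hA : A ≠ ⊥) : Subfield F where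
  carrier := {s | ∀ x ∈ A, s * x ∈ A}
  mul_mem' {a b} ha hb x hx := by rw [mul_assoc]; exact ha _ (hb x hx)
  one_mem' x hx := by rwa [one_mul]
  add_mem' {a b} ha hb x hx := by rw [add_mul]; exact A.add_mem (ha x hx) (hb x hx)
  zero_mem' x _ := by rw [zero_mul]; exact A.zero_mem
  neg_mem' {a} ha x hx := by rw [neg_mul]; exact A.neg_mem (ha x hx)
  inv_mem' a ha := by
    rcases eq_or_ne a 0 with rfl | ha0
    · rw [_root_.inv_zero]; exact fun x _ => by rw [zero_mul]; exact A.zero_mem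
    intro x hx
    let f : A → A := fun y => ⟨a * y, ha y y.2⟩
    have hinj : Function.Injective f := fun y z h =>
      Subtype.ext (mul_left_cancel₀ ha0 (congrArg Subtype.val h))
    obtain ⟨y, hy⟩ := Finite.injective_iff_surjective.1 hinj ⟨x, hx⟩
    have : a * (y : F) = x := congrArg Subtype.val hy
    rw [← this, inv_mul_cancel_left₀ ha0]
    exact y.2

theorem mem_mulField {A : AddSubgroup F} {hA : A ≠ ⊥} {s : F} :
    s ∈ mulField A hA ↔ ∀ x ∈ A, s * x ∈ A := Iff.rfl

theorem rootParam_ne_bot (hu : Root P u φ) : rootParam P hu.1 ≠ ⊥ := fun h =>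
  one_ne_zero (α := F) ((AddSubgroup.mem_bot).1 (h ▸ one_mem_rootParam hu))

/-- The field of a root. -/
noncomputable def rootField (hu : Root P u φ) : Subfield F := mulField _ (rootParam_ne_bot hu)

theorem mem_rootField {hu : Root P u φ} {s : F} :
    s ∈ rootField hu ↔ ∀ x ∈ rootParam P hu.1, s * x ∈ rootParam P hu.1 := Iff.rfl

theorem rootField_conj (hu : Root P u φ) {g : GL (Fin 3) F} (hg : g ∈ P) :
    rootParam P (hu.conj hg).1 = rootParam P hu.1 := by
  ext c
  constructor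
  · intro hc
    have h := (mem_rootParam.1 hc).conj (P.inv_mem hg)
    rw [gl_inv_mulVec_mulVec, inv_inv, Matrix.smul_vecMul, Matrix.vecMul_vecMul, ← Units.val_mul,
      inv_mul_cancel, Units.val_one, Matrix.vecMul_one] at h
    exact mem_rootParam.2 h
  · intro hc
    have h := (mem_rootParam.1 hc).conj hg
    rw [Matrix.smul_vecMul] at h
    exact mem_rootParam.2 h

theorem kappa_smul_left (c : F) : kappa u (c • φ) v ψ = c * kappa u φ v ψ := by
  simp [kappa, mul_assoc]

theorem kappa_comm : kappa v ψ u φ = kappa u φ v ψ := mul_comm _ _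

/-- Every pair of partners with invariant root groups. -/
def Closed (P : Subgroup (GL (Fin 3) F)) : Prop :=
  ∀ ⦃u φ v ψ : Fin 3 → F⦄ (hu : Root P u φ), Root P v ψ → kappa u φ v ψ ≠ 0 →
    ∀ x ∈ rootParam P hu.1, kappa u φ v ψ * x ∈ rootParam P hu.1

/-- A root group invariant under its partners' invariants is a one-dimensional space over its field. -/
theorem rootField_facts (hcl : Closed P) (hu : Root P u φ) (hv : Root P v ψ)
    (hκ : kappa u φ v ψ ≠ 0) :
    kappa u φ v ψ ∈ rootField hu ∧ (kappa u φ v ψ)⁻¹ ∈ rootParam P hu.1 ∧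
      ∀ x ∈ rootParam P hu.1, kappa u φ v ψ * x ∈ rootField hu := by
  have hk : kappa u φ v ψ ∈ rootField hu := fun x hx => hcl hu hv hκ x hx
  refine ⟨hk, ?_, fun c hc x hx => ?_⟩
  · have := (rootField hu).inv_mem hk 1 (one_mem_rootParam hu)
    rwa [mul_one] at this
  · rcases eq_or_ne c 0 with rfl | hc0
    · rw [mul_zero, zero_mul]; exact (rootParam P hu.1).zero_mem
    have hu' := mem_rootParam.1 hc
    have hxc : x / c ∈ rootParam P hu'.1 := by
      rw [mem_rootParam, smul_smul, div_mul_cancel₀ _ hc0]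
      exact mem_rootParam.1 hx
    have h := mem_rootParam.1 (hcl hu' hv (by rw [kappa_smul_left]; exact mul_ne_zero hc0 hκ) _ hxc)
    rw [kappa_smul_left, smul_smul] at h
    refine mem_rootParam.2 ?_
    convert h using 2
    field_simp

theorem rootField_le_partner (hcl : Closed P) (hu : Root P u φ) (hv : Root P v ψ)
    (hκ : kappa u φ v ψ ≠ 0) : rootField hu ≤ rootField hv := by
  obtain ⟨hk, hinv, -⟩ := rootField_facts hcl hu hv hκ
  have hκ' : kappa v ψ u φ ≠ 0 := by rwa [kappa_comm]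
  obtain ⟨hk', -, hR⟩ := rootField_facts hcl hv hu hκ'
  intro s hs
  -- `κ s` is a parameter of `v`, hence `κ² s` lies in its field
  have h1 : kappa u φ v ψ * (s * 1) ∈ rootParam P hv.1 :=
    kappa_mul_mem_partner hu hv hκ hinv (hs 1 (one_mem_rootParam hu))
  have h2 := hR _ h1
  rw [mul_one, kappa_comm, ← mul_assoc] at h2
  rw [kappa_comm] at hk'
  have := (rootField hv).mul_mem ((rootField hv).inv_mem ((rootField hv).mul_mem hk' hk')) h2
  rwa [← mul_assoc, inv_mul_cancel₀ (mul_ne_zero hκ hκ), one_mul] at this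

/-- Non-trivial roots have non-orthogonal conjugates. -/
theorem exists_conj_kappa_ne_zero (hirr : ActsIrreducibly (matrixSet P)) (hu : Root P u φ)
    (hu0 : u ≠ 0) (hφ0 : φ ≠ 0) {w χ : Fin 3 → F} (hw0 : w ≠ 0) (hχ0 : χ ≠ 0) (hw : χ ⬝ᵥ w = 0) :
    ∃ g ∈ P, kappa w χ ((g : Matrix (Fin 3) (Fin 3) F) *ᵥ u)
      (φ ᵥ* ((g⁻¹ : GL (Fin 3) F) : Matrix (Fin 3) (Fin 3) F)) ≠ 0 := by
  by_contra hcon
  push Not at hcon
  obtain ⟨g, hg, hgu⟩ : ∃ g ∈ P, χ ⬝ᵥ ((g : Matrix (Fin 3) (Fin 3) F) *ᵥ u) ≠ 0 := by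
    by_contra h
    push Not at h
    let W : Submodule F (Fin 3 → F) :=
      { carrier := {x | ∀ g ∈ P, χ ⬝ᵥ ((g : Matrix (Fin 3) (Fin 3) F) *ᵥ x) = 0}
        zero_mem' := fun g _ => by simp
        add_mem' := fun {x y} hx hy g hg => by
          rw [Matrix.mulVec_add, dotProduct_add, hx g hg, hy g hg, add_zero]
        smul_mem' := fun c x hx g hg => by rw [Matrix.mulVec_smul, dotProduct_smul, hx g hg, smul_zero] }
    rcases hirr W (by
      rintro _ ⟨g, hg, rfl⟩ _ ⟨x, hx, rfl⟩ g' hg'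
      rw [Matrix.toLin'_apply, ← gl_mul_mulVec]
      exact hx _ (P.mul_mem hg' hg)) with hW | hW
    · exact hu0 (by simpa [hW] using (show u ∈ W from h))
    · refine hχ0 (funext fun i => ?_)
      have := (hW ▸ Submodule.mem_top : Pi.single i 1 ∈ W) 1 P.one_mem
      rw [Units.val_one, Matrix.one_mulVec, dotProduct_single, mul_one] at this
      exact this
  obtain ⟨k, hk, hkw⟩ : ∃ k ∈ P, (φ ᵥ* ((k⁻¹ : GL (Fin 3) F) : Matrix (Fin 3) (Fin 3) F)) ⬝ᵥ w ≠ 0 := by
    by_contra h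
    push Not at h
    let W : Submodule F (Fin 3 → F) :=
      { carrier := {x | ∀ k ∈ P, φ ⬝ᵥ (((k⁻¹ : GL (Fin 3) F) : Matrix (Fin 3) (Fin 3) F) *ᵥ x) = 0}
        zero_mem' := fun g _ => by simp
        add_mem' := fun {x y} hx hy g hg => by
          rw [Matrix.mulVec_add, dotProduct_add, hx g hg, hy g hg, add_zero]
        smul_mem' := fun c x hx g hg => by rw [Matrix.mulVec_smul, dotProduct_smul, hx g hg, smul_zero] }
    rcases hirr W (by
      rintro _ ⟨g, hg, rfl⟩ _ ⟨x, hx, rfl⟩ k hk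
      rw [Matrix.toLin'_apply, ← gl_mul_mulVec]
      have := hx _ (P.mul_mem (P.inv_mem hg) hk)
      rwa [_root_.mul_inv_rev, inv_inv] at this) with hW | hW
    · exact hw0 (by simpa [hW] using (show w ∈ W from fun k hk => by rw [dotProduct_mulVec]; exact h k hk))
    · refine hφ0 (funext fun i => ?_)
      have := (hW ▸ Submodule.mem_top : Pi.single i 1 ∈ W) 1 P.one_mem
      rw [inv_one, Units.val_one, Matrix.one_mulVec, dotProduct_single, mul_one] at this
      exact this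
  set a := (g : Matrix (Fin 3) (Fin 3) F) *ᵥ u with ha
  set α := φ ᵥ* ((g⁻¹ : GL (Fin 3) F) : Matrix (Fin 3) (Fin 3) F) with hα
  set b := (k : Matrix (Fin 3) (Fin 3) F) *ᵥ u with hb
  set β := φ ᵥ* ((k⁻¹ : GL (Fin 3) F) : Matrix (Fin 3) (Fin 3) F) with hβ
  have rb : Root P b β := hu.conj hk
  have hαw : α ⬝ᵥ w = 0 :=
    (mul_eq_zero.1 (hcon g hg)).resolve_left hgu
  have hχb : χ ⬝ᵥ b = 0 := (mul_eq_zero.1 (hcon k hk)).resolve_right hkw
  have hn : tv b β ∈ P := rb.2
  have h := hcon _ (P.mul_mem hn hg)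
  rw [kappa, gl_mul_mulVec, tv_mulVec rb.1, dotProduct_add, dotProduct_smul, hχb, smul_zero, add_zero,
    _root_.mul_inv_rev, Units.val_mul, ← Matrix.vecMul_vecMul, tv_inv rb.1, tv_val (by simp [rb.1]),
    Matrix.vecMul_add, Matrix.vecMul_one, vecMul_vecMulVec, add_dotProduct, smul_dotProduct, hαw,
    zero_add, dotProduct_neg, smul_eq_mul, neg_mul, mul_neg, neg_eq_zero] at h
  have hαb : α ⬝ᵥ b = 0 := by
    rcases mul_eq_zero.1 h with e | e
    · exact absurd e hgu
    · exact (mul_eq_zero.1 e).resolve_right hkw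
  -- `α` and `χ` both kill the independent vectors `w`, `b`
  obtain ⟨c, hc⟩ : ∃ c : F, α = c • χ := by
    have hbw : LinearIndependent F ![w, b] := by
      rw [LinearIndependent.pair_iff' hw0]
      intro s hs
      have := rb.1
      rw [← hs, dotProduct_smul, smul_eq_zero] at this
      rcases this with h | h
      · exact gl_mulVec_ne_zero k hu0 (by rw [← hb, ← hs, h, zero_smul])
      · exact hkw h
    let T : (Fin 3 → F) →ₗ[F] (Fin 2 → F) := Matrix.toLin' (Matrix.of ![w, b])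
    have hT : Module.finrank F (LinearMap.ker T) = 1 := by
      have h1 := T.finrank_range_add_finrank_ker
      have h2 : Module.finrank F T.range = 2 := by
        have := LinearIndependent.rank_matrix (M := Matrix.of ![w, b]) hbw
        rwa [Matrix.rank, Fintype.card_fin] at this
      rw [h2, Module.finrank_fintype_fun_eq_card] at h1
      simp at h1; omega
    have hmem : ∀ x : Fin 3 → F, x ⬝ᵥ w = 0 → x ⬝ᵥ b = 0 → x ∈ LinearMap.ker T := fun x h1 h2 => by
      rw [LinearMap.mem_ker, Matrix.toLin'_apply]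
      funext i
      fin_cases i
      · show w ⬝ᵥ x = 0; rwa [dotProduct_comm]
      · show b ⬝ᵥ x = 0; rwa [dotProduct_comm]
    obtain ⟨c, hc⟩ := (finrank_eq_one_iff_of_nonzero' (⟨χ, hmem χ hw hχb⟩ : LinearMap.ker T)
      (fun h => hχ0 (congrArg Subtype.val h))).1 hT ⟨α, hmem α hαw hαb⟩
    exact ⟨c, (congrArg Subtype.val hc).symm⟩
  have hα0 : α ⬝ᵥ a = 0 := (hu.conj hg).1
  rw [hc, smul_dotProduct, smul_eq_zero] at hα0
  rcases hα0 with h0 | h0
  · refine hφ0 ?_
    have hz : α = 0 := by rw [hc, h0, zero_smul]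
    have := congrArg (fun x => x ᵥ* (g : Matrix (Fin 3) (Fin 3) F)) hz
    simpa [α, Matrix.vecMul_vecMul, ← Units.val_mul] using this
  · exact hgu h0

/-- All non-trivial roots have the same field. -/
theorem rootField_eq (hirr : ActsIrreducibly (matrixSet P)) (hcl : Closed P) (hu : Root P u φ)
    (hu0 : u ≠ 0) (hφ0 : φ ≠ 0) (hv : Root P v ψ) (hv0 : v ≠ 0) (hψ0 : ψ ≠ 0) :
    rootField hu ≤ rootField hv := by
  obtain ⟨g, hg, hκ⟩ := exists_conj_kappa_ne_zero hirr hu hu0 hφ0 hv0 hψ0 hv.1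
  intro s hs
  refine rootField_le_partner hcl (hu.conj hg) hv (by rwa [kappa_comm]) ?_
  intro x hx
  rw [rootField_conj hu hg] at hx ⊢
  exact hs x hx

/-- **The root field**: it contains all invariants and all root groups are spaces over it. -/
theorem exists_root_field (hirr : ActsIrreducibly (matrixSet P)) (hcl : Closed P) (hu : Root P u φ)
    (hu0 : u ≠ 0) (hφ0 : φ ≠ 0) :
    (∀ a α b β, Root P a α → Root P b β → kappa a α b β ∈ rootField hu) ∧
      ∀ a α, Root P a α → ∀ c ∈ rootField hu, Root P a (c • α) := by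
  refine ⟨fun a α b β ha hb => ?_, fun a α ha c hc => ?_⟩
  · by_cases hκ : kappa a α b β = 0
    · rw [hκ]; exact (rootField hu).zero_mem
    obtain ⟨h1, h2⟩ := mul_ne_zero_iff.1 hκ
    have ha0 : a ≠ 0 := by rintro rfl; simp at h2
    have hα0 : α ≠ 0 := by rintro rfl; simp at h1
    exact rootField_eq hirr hcl ha ha0 hα0 hu hu0 hφ0 (rootField_facts hcl ha hb hκ).1
  · by_cases h0 : a = 0
    · subst h0; exact ⟨by simp, by rw [tv_zero_left]; exact P.one_mem⟩
    by_cases hα0 : α = 0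
    · subst hα0
      rw [smul_zero]; exact ha
    have := rootField_eq hirr hcl hu hu0 hφ0 ha h0 hα0 hc 1 (one_mem_rootParam ha)
    rw [mul_one] at this
    exact mem_rootParam.1 this

/-- Large root groups spread to partners. -/
theorem large_partner (p : ℕ) [Fact p.Prime] [CharP F p] (hu : Root P u φ) (hv : Root P v ψ)
    (hκ : kappa u φ v ψ ≠ 0) (hbig : p < Nat.card (rootParam P hu.1)) :
    p < Nat.card (rootParam P hv.1) := by
  set κ := kappa u φ v ψ with hκdef
  set A := rootParam P hu.1 with hA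
  -- `κ A` is closed under products
  have hmul : ∀ c ∈ A, ∀ x ∈ A, κ * c * x ∈ A := by
    intro c hc x hx
    rcases eq_or_ne c 0 with rfl | hc0
    · rw [mul_zero, zero_mul]; exact A.zero_mem
    have hu' := mem_rootParam.1 hc
    have hκ' : kappa u (c • φ) v ψ ≠ 0 := by rw [kappa_smul_left]; exact mul_ne_zero hc0 hκ
    have hcard : Nat.card (rootParam P hu'.1) = Nat.card A := by
      refine Nat.card_congr
        { toFun := fun y => ⟨y * c, mem_rootParam.2 (by rw [← smul_smul]; exact mem_rootParam.1 y.2)⟩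
          invFun := fun y => ⟨y / c, mem_rootParam.2 (by
            rw [smul_smul, div_mul_cancel₀ _ hc0]; exact mem_rootParam.1 y.2)⟩
          left_inv := fun y => Subtype.ext (by simp [hc0])
          right_inv := fun y => Subtype.ext (by simp [hc0]) }
    have h := kappa_mul_mem p hu' hv hκ' (fun e => by rw [hcard, ← e]; exact hbig)
      (fun e _ => by rw [hcard, ← e]; exact hbig) (x := x / c)
      (mem_rootParam.2 (by rw [smul_smul, div_mul_cancel₀ _ hc0]; exact mem_rootParam.1 hx))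
    have h' := mem_rootParam.1 h
    rw [kappa_smul_left, smul_smul] at h'
    refine mem_rootParam.2 ?_
    convert h' using 2
    field_simp
    ring
  have hk1 : κ ∈ rootField hu := fun x hx => by simpa using hmul 1 (one_mem_rootParam hu) x hx
  have hinv : κ⁻¹ ∈ A := by simpa using (rootField hu).inv_mem hk1 1 (one_mem_rootParam hu)
  refine hbig.trans_le (Nat.card_le_card_of_injective
    (fun x : A => (⟨κ * x, kappa_mul_mem_partner hu hv hκ hinv x.2⟩ : rootParam P hv.1)) ?_)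
  exact fun x y h => Subtype.ext (mul_left_cancel₀ hκ (congrArg Subtype.val h))

/-- Closedness: in characteristic at least five; if one root group is large; in characteristic three
without invariants of square `-1`. -/
theorem closed_of_cases (p : ℕ) [Fact p.Prime] [CharP F p] (hirr : ActsIrreducibly (matrixSet P))
    (h : (p ≠ 2 ∧ p ≠ 3) ∨
      (∃ (u φ : Fin 3 → F) (hu : Root P u φ), u ≠ 0 ∧ φ ≠ 0 ∧ p < Nat.card (rootParam P hu.1)) ∨
      (p = 3 ∧ ∀ u φ v ψ, Root P u φ → Root P v ψ → kappa u φ v ψ ^ 2 ≠ -1)) : Closed P := by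
  intro a α b β ha hb hκ x hx
  rcases h with h | ⟨u, φ, hu, hu0, hφ0, hbig⟩ | ⟨rfl, h⟩
  · exact kappa_mul_mem p ha hb hκ (fun e => absurd e h.1) (fun e => absurd e h.2) hx
  · obtain ⟨h1, h2⟩ := mul_ne_zero_iff.1 hκ
    have ha0 : a ≠ 0 := by rintro rfl; simp at h2
    have hα0 : α ≠ 0 := by rintro rfl; simp at h1
    obtain ⟨g, hg, hκ'⟩ := exists_conj_kappa_ne_zero hirr hu hu0 hφ0 ha0 hα0 ha.1
    have hb' := large_partner p (hu.conj hg) ha (by rwa [kappa_comm])
      (by rwa [rootField_conj hu hg])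
    exact kappa_mul_mem p ha hb hκ (fun e => e ▸ hb') (fun e _ => e ▸ hb') hx
  · exact kappa_mul_mem 3 ha hb hκ (fun e => absurd e (by norm_num))
      (fun _ e => absurd e (h _ _ _ _ ha hb)) hx

end CfsgLib.Mitchell
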