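import Cfsg.Agent.Lib.Mitchell.Basic
import Cfsg.Agent.Lib.Mitchell.Roots
import Cfsg.Agent.Lib.Mitchell.Full
import Cfsg.Agent.Lib.Mitchell.ElationThree
import Cfsg.Agent.Lib.Mitchell.Trace

/-!
Groups with elations, except those in characteristic two with all root groups of order two.
-/

set_option autoImplicit false
set_option linter.unusedSectionVars false

namespace CfsgLib.Mitchell

open Cfsg Cfsg.Geo Matrix CfsgLib.Geo.Asch CfsgLib.GeomClasses
open scoped MatrixGroups

variable {F : Type*} [Field F] [Fintype F] {P : Subgroup (GL (Fin 3) F)}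

/-- Some root group has more than `p` elements. -/
def HasLargeRoot (P : Subgroup (GL (Fin 3) F)) (p : ℕ) : Prop :=
  ∃ (u φ : Fin 3 → F) (hu : Root P u φ), u ≠ 0 ∧ φ ≠ 0 ∧ p < Nat.card (rootParam P hu.1)

theorem closed_of_root (p : ℕ) [Fact p.Prime] [CharP F p] (hgen : RootGen P)
    (hirr : ActsIrreducibly (matrixSet P)) (h2 : p ≠ 2 ∨ HasLargeRoot P p) : Closed P := by
  by_cases hbig : HasLargeRoot P p
  · exact closed_of_cases p hirr (Or.inr (Or.inl hbig))
  have hp2 := h2.resolve_right hbig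
  by_cases hp3 : p = 3
  swap
  · exact closed_of_cases p hirr (Or.inl ⟨hp2, hp3⟩)
  subst hp3
  refine closed_of_cases 3 hirr (Or.inr (Or.inr ⟨rfl, fun a α b β ha hb => ?_⟩))
  refine kappa_sq_ne_neg_one hgen hirr (fun u φ v ψ hu hv => ?_) ha hb
  by_cases hsq : kappa u φ v ψ ^ 2 = -1
  · linear_combination (kappa u φ v ψ ^ 3 - kappa u φ v ψ) * hsq
  by_cases hκ : kappa u φ v ψ = 0
  · rw [hκ]; simp
  obtain ⟨h1, h2⟩ := mul_ne_zero_iff.1 hκ
  have hu0 : u ≠ 0 := by rintro rfl; simp at h2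
  have hφ0 : φ ≠ 0 := by rintro rfl; simp at h1
  set A := rootParam P hu.1 with hA
  have h1A := one_mem_rootParam hu
  have hκA : kappa u φ v ψ ∈ A := by
    simpa using kappa_mul_mem 3 hu hv hκ (fun e => absurd e (by norm_num))
      (fun _ e => absurd e hsq) h1A
  rcases em (kappa u φ v ψ = 1 ∨ kappa u φ v ψ = -1) with (e | e) | e
  · rw [e]; simp
  · rw [e]; norm_num
  exfalso
  refine hbig ⟨u, φ, hu, hu0, hφ0, ?_⟩
  classical
  push Not at e
  have h3 : (3 : F) = 0 := by exact_mod_cast CharP.cast_eq_zero F 3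
  have h11 : (1 : F) ≠ -1 := fun h => one_ne_zero (α := F) (by linear_combination h3 - h)
  let : Fintype A := Fintype.ofFinite A
  rw [Nat.card_eq_fintype_card]
  calc 3 < ({0, 1, -1, kappa u φ v ψ} : Finset F).card := by
        rw [Finset.card_insert_of_notMem, Finset.card_insert_of_notMem, Finset.card_insert_of_notMem,
          Finset.card_singleton] <;> simp [Ne.symm hκ, Ne.symm e.1, Ne.symm e.2, h11]

    _ ≤ (Finset.univ.image (Subtype.val : A → F)).card := Finset.card_le_card (by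
        intro x hx
        simp only [Finset.mem_insert, Finset.mem_singleton] at hx
        refine Finset.mem_image.2 ⟨⟨x, ?_⟩, Finset.mem_univ _, rfl⟩
        rcases hx with rfl | rfl | rfl | rfl
        · exact A.zero_mem
        · exact h1A
        · exact A.neg_mem h1A
        · exact hκA)
    _ ≤ _ := Finset.card_image_le

/-- The two outcomes for a group with elations. -/
theorem elation_cases (p : ℕ) [Fact p.Prime] [CharP F p] (h : Hyp P) (hsub : NoSubfield P)
    {u φ : Fin 3 → F} (hu : Root P u φ) (hu0 : u ≠ 0) (hφ0 : φ ≠ 0)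
    (h2 : p ≠ 2 ∨ HasLargeRoot P p) :
    ∃ k : Subfield F, ∃ v ψ, Root P v ψ ∧ kappa u φ v ψ ≠ 0 ∧ kappa u φ v ψ ∈ k ∧
      (∀ a α, Root P a α → ∀ c ∈ k, Root P a (c • α)) ∧
      (k = ⊤ ∨ Fintype.card F = Nat.card k ^ 2 ∧
        ∀ g ∈ P, ((g⁻¹ : GL (Fin 3) F) : Matrix (Fin 3) (Fin 3) F).trace =
          (g : Matrix (Fin 3) (Fin 3) F).trace ^ Nat.card k) := by
  have hgen := h.rootGen hu hu0 hφ0
  have hcl := closed_of_root p hgen h.irreducible h2
  obtain ⟨g, hg, hκ⟩ := exists_conj_kappa_ne_zero h.irreducible hu hu0 hφ0 hu0 hφ0 hu.1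
  obtain ⟨hk, hscal⟩ := exists_root_field h.irreducible hcl hu hu0 hφ0
  set k := rootField hu
  have hv := hu.conj hg
  refine ⟨k, _, _, hv, hκ, hk _ _ _ _ hu hv, hscal, ?_⟩
  have : CharP k p := k.subtype.charP k.subtype.injective p
  let : Fintype k := Fintype.ofFinite k
  obtain ⟨n, -, hn⟩ := FiniteField.card k p
  have hcard : Nat.card k = p ^ (n : ℕ) := by rw [Nat.card_eq_fintype_card, hn]
  rcases dichotomy p n hcard hgen h.irreducible ⟨u, φ, _, _, hu, hv, hκ⟩ hk with hR | ⟨hR, ⟨x, hx⟩, htr⟩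
  · exact Or.inl (by by_contra hne; exact hsub k hne hR)
  · refine Or.inr ?_
    set K := (iterateFrobenius F p (n + n)).eqLocusField (RingHom.id F)
    have hK : K = ⊤ := by by_contra hne; exact hsub K hne hR
    have hall : ∀ y : F, y ^ p ^ ((n : ℕ) + n) = y := fun y => by
      have : y ∈ K := hK ▸ trivial
      exact this
    refine ⟨?_, fun g hg => by rw [hcard]; exact htr hall g hg⟩
    have hd := Module.card_eq_pow_finrank (K := k) (V := F)
    rw [← Nat.card_eq_fintype_card (α := k)] at hd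
    set d := Module.finrank k F
    have hk1 : 1 < Nat.card k := Finite.one_lt_card
    have hd2 : d ≠ 1 := by
      intro h1
      rw [h1, pow_one, hcard] at hd
      exact hx (by rw [← hd]; exact FiniteField.pow_card x)
    have hdvd : Fintype.card F - 1 ∣ p ^ ((n : ℕ) + n) - 1 := by
      refine (FiniteField.forall_pow_eq_one_iff F _).1 fun y => Units.ext ?_
      have h1 := hall (y : F)
      rw [← Nat.sub_add_cancel (Nat.one_le_pow _ _ (Fact.out : p.Prime).pos), pow_succ] at h1
      rw [Units.val_pow_eq_pow_val, Units.val_one]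
      exact mul_right_cancel₀ y.ne_zero (h1.trans (one_mul _).symm)
    have hpos : 1 < p ^ ((n : ℕ) + n) := Nat.one_lt_pow (by have := n.pos; omega) (Fact.out : p.Prime).one_lt
    have hle := Nat.le_of_dvd (by omega) hdvd
    have hle' : Nat.card k ^ d ≤ Nat.card k ^ 2 := by
      rw [← hd, sq, hcard, ← pow_add]; omega
    have hd0 : 0 < d := Module.finrank_pos
    rw [hd, show d = 2 by have := (Nat.pow_le_pow_iff_right hk1).1 hle'; omega]

/-- **Groups with elations**, linear case. -/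
theorem elation_linear (p : ℕ) [Fact p.Prime] [CharP F p] (h : Hyp P) (hsub : NoSubfield P)
    {u φ : Fin 3 → F} (hu : Root P u φ) (hu0 : u ≠ 0) (hφ0 : φ ≠ 0)
    (h2 : p ≠ 2 ∨ HasLargeRoot P p) :
    P = specialLinear (Fin 3) F ∨ ∃ σ f, IsUnitaryForm σ f ∧ FixesForm (matrixSet P) f := by
  obtain ⟨k, v, ψ, hv, hκ, -, hscal, rfl | ⟨hF, htr⟩⟩ := elation_cases p h hsub hu hu0 hφ0 h2
  · exact Or.inl (le_antisymm h.le_specialLinear (specialLinear_le_of_full (h.rootGen hu hu0 hφ0)
      h.irreducible (fun a α ha c => hscal a α ha c trivial) hu hv hκ))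
  · have hf := UnitPow.isUnitaryForm_hermForm hF 3
    obtain ⟨f, hf'⟩ := exists_unitary_form h.algOf_eq_top (UnitPow.conj hF) hf.1 hf.involutive htr
    exact Or.inr ⟨_, f, hf'⟩

/-- **Groups with elations**, unitary case. -/
theorem elation_unitary (p : ℕ) [Fact p.Prime] [CharP F p] (h : Hyp P) (hsub : NoSubfield P)
    {q : ℕ} (hF : Fintype.card F = q ^ 2) (hq : 3 ≤ q) (hPU : P ≤ Cfsg.GU 3 F q)
    {u φ : Fin 3 → F} (hu : Root P u φ) (hu0 : u ≠ 0) (hφ0 : φ ≠ 0)
    (h2 : p ≠ 2 ∨ HasLargeRoot P p) :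
    P = Cfsg.GU 3 F q ⊓ specialLinear (Fin 3) F := by
  obtain ⟨k, v, ψ, hv, hκ, hκk, hscal, hk⟩ := elation_cases p h hsub hu hu0 hφ0 h2
  refine le_antisymm (le_inf hPU h.le_specialLinear) ?_
  rcases hk with rfl | ⟨hF', -⟩
  · exfalso
    have hf := UnitPow.isUnitaryForm_hermForm hF 3
    have hiso : ∀ g ∈ P, Symp.IsIsometry (Cfsg.hermForm 3 F q) g :=
      fun g hg => UnitPow.mem_GU.1 (hPU hg)
    obtain ⟨-, c, hc0, hc, hφx⟩ := root_of_isometry hf hiso hu hu0 hφ0
    refine hf.1 (RingEquiv.ext fun t => ?_)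
    rcases eq_or_ne t 0 with rfl | ht
    · rw [map_zero, map_zero]
    obtain ⟨-, c', -, hc', hφx'⟩ := root_of_isometry hf hiso (hscal u φ hu t trivial) hu0
      (smul_ne_zero ht hφ0)
    obtain ⟨i, hi⟩ := Function.ne_iff.1 hφ0
    have h1 := hφx (Pi.single i 1)
    have h2 := hφx' (Pi.single i 1)
    rw [smul_dotProduct, h1, smul_eq_mul, ← mul_assoc] at h2
    have hne : Cfsg.hermForm 3 F q (Pi.single i 1) u ≠ 0 := fun e => hi (by simpa [e] using h1)
    rw [← mul_right_cancel₀ hne h2, map_mul] at hc'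
    refine mul_right_cancel₀ hc0 ?_
    rw [RingEquiv.refl_apply]
    linear_combination -hc' + UnitPow.conj hF t * hc
  · have hqk : Nat.card k = q := Nat.pow_left_injective (by norm_num) (hF'.symm.trans hF)
    exact specialUnitary_le_of_full hF hq hPU (h.rootGen hu hu0 hφ0) h.irreducible hqk hscal hu hv hκ hκk

end CfsgLib.Mitchell
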