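import Mathlib

/-!
# Conjugacy facts in small simple groups

Reality and exponents in `PSL₂(K)` and in the alternating group of degree seven; identities for
matrices of size three.
-/

set_option autoImplicit false

namespace CfsgLib.Mitchell

open Matrix Equiv
open scoped MatrixGroups

section Three

variable {R : Type*} [CommRing R]

theorem cayley_fields (M : Matrix (Fin 3) (Fin 3) R) :
    M * M * M - M.trace • (M * M) + M.adjugate.trace • M - M.det • 1 = 0 := by
  ext i j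
  fin_cases i <;> fin_cases j <;>
    simp [Matrix.mul_apply, Fin.sum_univ_three, Matrix.trace_fin_three, Matrix.det_fin_three,
      Matrix.adjugate_fin_three] <;> ring

theorem trace_sq_three (M : Matrix (Fin 3) (Fin 3) R) :
    (M * M).trace = M.trace ^ 2 - 2 * M.adjugate.trace := by
  simp [Matrix.mul_apply, Fin.sum_univ_three, Matrix.trace_fin_three, Matrix.adjugate_fin_three]
  ring

/-- An element of order five and determinant one whose square has the same real trace is trivial. -/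
theorem five_trivial {F : Type*} [Field F] (h5 : (5 : F) ≠ 0) {M : Matrix (Fin 3) (Fin 3) F}
    (hd : M.det = 1) (hM : M ^ 5 = 1) (hinv : M.adjugate.trace = M.trace) (hsq : (M * M).trace = M.trace) :
    M = 1 := by
  set a := M.trace with ha
  have hCH := cayley_fields M
  rw [hd, one_smul, hinv] at hCH
  have ha2 : a * (a - 3) = 0 := by
    have := trace_sq_three M
    rw [hsq, hinv, ← ha] at this
    linear_combination -this
  rcases mul_eq_zero.1 ha2 with h0 | h3
  · rw [← ha, h0, zero_smul, zero_smul, sub_zero, add_zero, sub_eq_zero] at hCH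
    have h6 : M ^ 6 = 1 := by
      rw [show M ^ 6 = (M * M * M) * (M * M * M) by noncomm_ring, hCH, one_mul]
    rwa [show M ^ 6 = M ^ 5 * M from pow_succ M 5, hM, one_mul] at h6
  · rw [← ha, sub_eq_zero.1 h3] at hCH
    set N := M - 1 with hN
    have h3N : N ^ 3 = 0 := by
      rw [← hCH, hN]
      simp only [pow_succ, pow_zero, one_mul, sub_mul, mul_sub, mul_one, one_smul]
      module
    have hMN : M = 1 + N := by rw [hN]; abel
    have h5N : (5 : F) • N + (10 : F) • N ^ 2 = 0 := by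
      have e : (1 + N) ^ 5 = 1 + (5 : F) • N + (10 : F) • N ^ 2 + N ^ 3 * ((10 : F) • 1 + (5 : F) • N + N ^ 2) := by
        simp only [pow_succ, pow_zero, one_mul, add_mul, mul_add, mul_one, Matrix.mul_smul, mul_assoc]
        module
      rw [← hMN, hM, h3N, zero_mul, add_zero, add_assoc] at e
      exact left_eq_add.1 e
    have h52 : (5 : F) • N ^ 2 = 0 := by
      have := congrArg (· * N) h5N
      simpa [add_mul, Matrix.smul_mul, ← pow_two, ← pow_succ, h3N] using this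
    have hN2 : N ^ 2 = 0 := (smul_eq_zero.1 h52).resolve_left h5
    rw [hN2, smul_zero, add_zero] at h5N
    rw [hMN, (smul_eq_zero.1 h5N).resolve_left h5, add_zero]

end Three

section Two

variable {K : Type*} [Field K]

local notation "SL2" => Matrix.SpecialLinearGroup (Fin 2) K
local notation "PSL2" => Matrix.ProjectiveSpecialLinearGroup (Fin 2) K

theorem sl_sq (g : SL2) :
    (g : Matrix (Fin 2) (Fin 2) K) * g = (g.1 0 0 + g.1 1 1) • (g : Matrix (Fin 2) (Fin 2) K) - 1 := by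
  have h := g.2
  rw [Matrix.det_fin_two] at h
  ext i j
  fin_cases i <;> fin_cases j <;> simp [Matrix.mul_apply, Fin.sum_univ_two] <;>
    first | ring1 | linear_combination h | linear_combination -h

theorem sl_real_of (g : SL2) {x y z : K}
    (hc : x * (g.1 0 0 - g.1 1 1) + y * g.1 1 0 + z * g.1 0 1 = 0) (hd : -x ^ 2 - y * z = 1) :
    ∃ s : SL2, s * g * s⁻¹ = g⁻¹ := by
  refine ⟨⟨!![x, y; z, -x], by rw [Matrix.det_fin_two]; simp; linear_combination hd⟩, ?_⟩
  apply mul_inv_eq_iff_eq_mul.2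
  apply Subtype.ext
  show (!![x, y; z, -x] : Matrix (Fin 2) (Fin 2) K) * g.1 = Matrix.adjugate g.1 * !![x, y; z, -x]
  rw [Matrix.adjugate_fin_two]
  ext i j
  fin_cases i <;> fin_cases j <;> simp [Matrix.mul_apply, Fin.sum_univ_two] <;>
    first | ring1 | linear_combination hc | linear_combination -hc

/-- An element of trace different from `±2`, or any element when `-1` is a square, is real. -/
theorem sl_real [Fintype K] (h2 : (2 : K) ≠ 0) (g : SL2)
    (h : (g.1 0 0 + g.1 1 1) ^ 2 ≠ 4 ∨ IsSquare (-1 : K)) : ∃ s : SL2, s * g * s⁻¹ = g⁻¹ := by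
  have hdet := g.2
  rw [Matrix.det_fin_two] at hdet
  set a := g.1 0 0
  set b := g.1 0 1
  set c := g.1 1 0
  set d := g.1 1 1
  by_cases hb : b = 0
  · by_cases hc : c = 0
    · exact sl_real_of g (x := 0) (y := 1) (z := -1) (by simp [b, c] at hb hc ⊢; simp [hb, hc]) (by ring)
    · by_cases had : a - d = 0
      · rcases h with h | ⟨i, hi⟩
        · exact absurd (by linear_combination (a - d) * had + 4 * hdet + 4 * c * hb) h
        · exact sl_real_of g (x := i) (y := 0) (z := 0) (by simp [a, d] at had ⊢; simp [had])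
            (by linear_combination hi)
      · exact sl_real_of g (x := 1) (y := -(a - d) / c) (z := 2 * c / (a - d))
          (by show 1 * (a - d) + _ * c + _ * b = 0; rw [hb]; field_simp; ring) (by field_simp; ring)
  · by_cases hsq : IsSquare (-1 : K)
    · obtain ⟨i, hi⟩ := hsq
      exact sl_real_of g (x := i) (y := 0) (z := -(i * (a - d)) / b)
        (by show i * (a - d) + 0 * c + _ * b = 0; field_simp; ring) (by linear_combination hi)
    · have hτ := h.resolve_right hsq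
      set e := (a - d) / (2 * b) with he
      set f := e ^ 2 + c / b with hf
      have hf0 : f ≠ 0 := by
        intro h0
        apply hτ
        have hf' : (2 * b) ^ 2 * f = (a - d) ^ 2 + 4 * b * c := by
          rw [hf, he, mul_add, ← mul_pow, mul_div_cancel₀ _ (mul_ne_zero h2 hb)]
          field_simp
          ring
        rw [h0, mul_zero] at hf'
        linear_combination 4 * hdet - hf'
      obtain ⟨X, Y, hXY⟩ := FiniteField.exists_root_sum_quadratic
        (f := Polynomial.C (-1 : K) * Polynomial.X ^ 2 + Polynomial.C 0 * Polynomial.X + Polynomial.C (-1))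
        (g := Polynomial.C f * Polynomial.X ^ 2 + Polynomial.C 0 * Polynomial.X + Polynomial.C 0)
        (Polynomial.degree_quadratic (by simp)) (Polynomial.degree_quadratic hf0)
        (by
          rcases Nat.mod_two_eq_zero_or_one (Fintype.card K) with e | e
          · have hc := FiniteField.even_card_iff_char_two.2 e
            have hK : CharP K 2 := hc ▸ ringChar.charP K
            exact absurd (by exact_mod_cast CharP.cast_eq_zero K 2) h2
          · exact e)
      simp at hXY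
      refine sl_real_of g (x := X + e * Y) (y := Y) (z := -((X + e * Y) * (a - d) + Y * c) / b) ?_ ?_
      · show (X + e * Y) * (a - d) + Y * c + _ * b = 0
        field_simp
        ring
      · rw [hf] at hXY
        rw [he] at hXY ⊢
        field_simp at hXY ⊢
        linear_combination hXY

theorem psl_eq_one_of_scalar {g : SL2} {c : K} (h : (g : Matrix (Fin 2) (Fin 2) K) = c • 1) :
    (g : PSL2) = 1 := by
  refine (QuotientGroup.eq_one_iff g).2 (Subgroup.mem_center_iff.2 fun k => Subtype.ext ?_)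
  show k.1 * g.1 = g.1 * k.1
  rw [h, Matrix.smul_mul, Matrix.mul_smul, one_mul, mul_one]

theorem psl_pow_of_scalar {g : SL2} {n : ℕ} {c : K}
    (h : (g : Matrix (Fin 2) (Fin 2) K) ^ n = c • 1) : (g : PSL2) ^ n = 1 := by
  rw [← QuotientGroup.mk_pow]
  exact psl_eq_one_of_scalar (c := c) ((Matrix.SpecialLinearGroup.coe_pow g n).trans h)

theorem psl_pow_small (g : SL2) :
    ((g.1 0 0 + g.1 1 1) = 0 → (g : PSL2) ^ 2 = 1) ∧
    ((g.1 0 0 + g.1 1 1) ^ 2 = 1 → (g : PSL2) ^ 3 = 1) ∧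
    ((g.1 0 0 + g.1 1 1) ^ 3 = 2 * (g.1 0 0 + g.1 1 1) → (g : PSL2) ^ 4 = 1) ∧
    ((g.1 0 0 + g.1 1 1) ^ 4 - 3 * (g.1 0 0 + g.1 1 1) ^ 2 + 1 = 0 → (g : PSL2) ^ 5 = 1) := by
  set τ := g.1 0 0 + g.1 1 1
  set M := (g : Matrix (Fin 2) (Fin 2) K)
  have h2 : M * M = τ • M - 1 := sl_sq g
  have h3 : M * M * M = (τ ^ 2 - 1) • M - τ • (1 : Matrix (Fin 2) (Fin 2) K) := by
    rw [h2, sub_mul, Matrix.smul_mul, h2, one_mul]
    module
  have h4 : M * M * M * M = (τ ^ 3 - 2 * τ) • M - (τ ^ 2 - 1) • (1 : Matrix (Fin 2) (Fin 2) K) := by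
    rw [h3, sub_mul, Matrix.smul_mul, Matrix.smul_mul, h2, one_mul]
    module
  have h5 : M * M * M * M * M =
      (τ ^ 4 - 3 * τ ^ 2 + 1) • M - (τ ^ 3 - 2 * τ) • (1 : Matrix (Fin 2) (Fin 2) K) := by
    rw [h4, sub_mul, Matrix.smul_mul, Matrix.smul_mul, h2, one_mul]
    module
  refine ⟨fun h => psl_pow_of_scalar (c := -1) ?_, fun h => psl_pow_of_scalar (c := -τ) ?_,
    fun h => psl_pow_of_scalar (c := -(τ ^ 2 - 1)) ?_, fun h => psl_pow_of_scalar (c := -(τ ^ 3 - 2 * τ)) ?_⟩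
  · rw [pow_two, h2, h, zero_smul, zero_sub, neg_smul, one_smul]
  · rw [pow_succ, pow_succ, pow_one, h3, h, sub_self, zero_smul, zero_sub, neg_smul]
  · rw [pow_succ, pow_succ, pow_succ, pow_one, h4, h, sub_self, zero_smul, zero_sub, neg_smul]
  · rw [pow_succ, pow_succ, pow_succ, pow_succ, pow_one, h5, h, zero_smul, zero_sub, neg_smul]

theorem psl_pow_char {r : ℕ} (hr : r ≠ 0) [CharP K r] (h2 : (2 : K) ≠ 0) (g : SL2) (h : (g.1 0 0 + g.1 1 1) ^ 2 = 4) :
    (g : PSL2) ^ r = 1 := by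
  set τ := g.1 0 0 + g.1 1 1 with hτ
  set c := τ / 2 with hc
  have hc2 : c * c = 1 := by
    rw [hc, div_mul_div_comm, div_eq_one_iff_eq (mul_ne_zero h2 h2)]
    linear_combination h
  set M := (g : Matrix (Fin 2) (Fin 2) K)
  set N := M - c • (1 : Matrix (Fin 2) (Fin 2) K) with hN
  have hNN : N * N = 0 := by
    have h2' : M * M = τ • M - 1 := sl_sq g
    rw [hN, sub_mul, mul_sub, mul_sub, h2', Matrix.smul_mul, Matrix.mul_smul, Matrix.mul_smul,
      Matrix.smul_mul, one_mul, one_mul, mul_one, smul_smul, hc2, one_smul,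
      show τ = c + c by rw [hc]; field_simp; ring, add_smul]
    abel
  have key : ∀ n : ℕ, M ^ (n + 1) = c ^ (n + 1) • (1 : Matrix (Fin 2) (Fin 2) K) + ((n + 1 : ℕ) * c ^ n) • N := by
    intro n
    induction n with
    | zero => simp [hN]
    | succ n ih =>
      rw [pow_succ, ih, show M = c • (1 : Matrix (Fin 2) (Fin 2) K) + N by rw [hN]; abel, add_mul,
        Matrix.smul_mul, Matrix.smul_mul, one_mul, mul_add, hNN, Matrix.mul_smul, mul_one, add_zero]
      push_cast
      module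
  refine psl_pow_of_scalar (c := c ^ r) ?_
  obtain ⟨n, rfl⟩ : ∃ n, r = n + 1 :=
    ⟨r - 1, (Nat.sub_add_cancel (Nat.one_le_iff_ne_zero.2 hr)).symm⟩
  rw [key, CharP.cast_eq_zero K (n + 1), zero_mul, zero_smul, add_zero]

theorem psl_exists_real [Fintype K] {r : ℕ} (hr : r ≠ 0) [CharP K r] (h2 : (2 : K) ≠ 0) (t : PSL2) :
    (∃ s : PSL2, s * t * s⁻¹ = t⁻¹) ∨ t ^ r = 1 := by
  obtain ⟨g, rfl⟩ := QuotientGroup.mk_surjective t
  by_cases h : (g.1 0 0 + g.1 1 1) ^ 2 = 4
  · exact Or.inr (psl_pow_char hr h2 g h)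
  · obtain ⟨s, hs⟩ := sl_real h2 g (Or.inl h)
    exact Or.inl ⟨s, by rw [← QuotientGroup.mk_inv, ← QuotientGroup.mk_mul, ← QuotientGroup.mk_mul, hs,
      QuotientGroup.mk_inv]⟩

theorem psl_real_of_square [Fintype K] (h2 : (2 : K) ≠ 0) (hsq : IsSquare (-1 : K)) (t : PSL2) :
    ∃ s : PSL2, s * t * s⁻¹ = t⁻¹ := by
  obtain ⟨g, rfl⟩ := QuotientGroup.mk_surjective t
  obtain ⟨s, hs⟩ := sl_real h2 g (Or.inr hsq)
  exact ⟨s, by rw [← QuotientGroup.mk_inv, ← QuotientGroup.mk_mul, ← QuotientGroup.mk_mul, hs,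
    QuotientGroup.mk_inv]⟩

end Two

theorem psl_seven_classes (t : Matrix.ProjectiveSpecialLinearGroup (Fin 2) (ZMod 7)) :
    ((t ^ 3 = 1 ∨ t ^ 4 = 1) ∧ ∃ s, s * t * s⁻¹ = t⁻¹) ∨ (t ^ 7 = 1 ∧ ∃ s, s * t * s⁻¹ = t ^ 2) := by
  have hu : ∀ a b c d : ZMod 7, a * d - b * c = 1 → a + d = 2 → b ≠ 0 →
      !![3, 0; -(a - 1) * (3 * b) ^ 5, 5] * !![a, b; c, d] =
        !![a, b; c, d] * !![a, b; c, d] * !![3, 0; -(a - 1) * (3 * b) ^ 5, 5] := by decide +kernel
  have hl : ∀ a b c d : ZMod 7, a * d - b * c = 1 → a + d = 2 → b = 0 →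
      !![5, 0; 0, 3] * !![a, b; c, d] = !![a, b; c, d] * !![a, b; c, d] * !![5, 0; 0, 3] := by
    decide +kernel
  have hτ : ∀ τ : ZMod 7, τ ^ 2 = 4 ∨ τ ^ 2 = 1 ∨ τ ^ 3 = 2 * τ := by decide
  have h20 : (2 : ZMod 7) ≠ 0 := by decide
  have hh : ∀ τ : ZMod 7, τ ^ 2 = 4 → τ = 2 ∨ τ = -2 := by decide
  have hd53 : (!![5, 0; 0, 3] : Matrix (Fin 2) (Fin 2) (ZMod 7)).det = 1 := by decide
  have h35 : (3 : ZMod 7) * 5 = 1 := by decide
  have : Fact (Nat.Prime 7) := ⟨by norm_num⟩
  obtain ⟨g, rfl⟩ := QuotientGroup.mk_surjective t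
  by_cases h : (g.1 0 0 + g.1 1 1) ^ 2 = 4
  · refine Or.inr ⟨psl_pow_char (r := 7) (by norm_num) h20 g h, ?_⟩
    suffices key : ∀ k : Matrix.SpecialLinearGroup (Fin 2) (ZMod 7), k.1 0 0 + k.1 1 1 = 2 →
        ∃ s : Matrix.SpecialLinearGroup (Fin 2) (ZMod 7), s * k = k * k * s by
      rcases hh _ h with h1 | h1
      · obtain ⟨s, hs⟩ := key g h1
        refine ⟨s, ?_⟩
        rw [mul_inv_eq_iff_eq_mul, ← QuotientGroup.mk_mul, hs, pow_two, QuotientGroup.mk_mul,
          QuotientGroup.mk_mul]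
      · obtain ⟨s, hs⟩ := key (-g) (by simp only [SpecialLinearGroup.coe_neg, Matrix.neg_apply]; rw [← neg_add, h1, neg_neg])
        have hneg : ((-g : Matrix.SpecialLinearGroup (Fin 2) (ZMod 7)) :
            Matrix.ProjectiveSpecialLinearGroup (Fin 2) (ZMod 7)) = g := by
          refine (QuotientGroup.eq).2 (Subgroup.mem_center_iff.2 fun k => Subtype.ext ?_)
          simp
        refine ⟨s, ?_⟩
        rw [mul_inv_eq_iff_eq_mul, ← hneg, ← QuotientGroup.mk_mul, hs, pow_two, QuotientGroup.mk_mul,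
          QuotientGroup.mk_mul]
    intro k hk
    have hd := k.2
    rw [Matrix.det_fin_two] at hd
    by_cases hb : k.1 0 1 = 0
    · refine ⟨⟨!![5, 0; 0, 3], hd53⟩, Subtype.ext ?_⟩
      have := hl _ _ _ _ hd hk hb
      rwa [← Matrix.eta_fin_two k.1] at this
    · refine ⟨⟨!![3, 0; -(k.1 0 0 - 1) * (3 * k.1 0 1) ^ 5, 5], by
        rw [Matrix.det_fin_two]; simpa using h35⟩, Subtype.ext ?_⟩
      have := hu _ _ _ _ hd hk hb
      rwa [← Matrix.eta_fin_two k.1] at this
  · obtain ⟨s, hs⟩ := sl_real h20 g (Or.inl h)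
    refine Or.inl ⟨?_, s, by rw [← QuotientGroup.mk_inv, ← QuotientGroup.mk_mul, ← QuotientGroup.mk_mul, hs,
      QuotientGroup.mk_inv]⟩
    rcases (hτ _).resolve_left h with h1 | h1
    · exact Or.inl ((psl_pow_small g).2.1 h1)
    · exact Or.inr ((psl_pow_small g).2.2.1 h1)

theorem psl_nine_pow {K : Type*} [Field K] [Fintype K] (hK : Fintype.card K = 9)
    (t : Matrix.ProjectiveSpecialLinearGroup (Fin 2) K) : t ^ 3 = 1 ∨ t ^ 4 = 1 ∨ t ^ 5 = 1 := by
  have : Fact (Nat.Prime 3) := ⟨Nat.prime_three⟩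
  have : CharP K 3 := charP_of_card_eq_prime_pow (f := 2) hK
  have h3 : (3 : K) = 0 := by exact_mod_cast CharP.cast_eq_zero K 3
  obtain ⟨g, rfl⟩ := QuotientGroup.mk_surjective t
  set τ := g.1 0 0 + g.1 1 1
  have hτ : τ ^ 9 = τ := by rw [← hK, FiniteField.pow_card]
  have : τ * (τ ^ 2 - 1) * (τ ^ 2 - 2) * (τ ^ 4 - 3 * τ ^ 2 + 1) = 0 := by
    linear_combination hτ + τ * (-2 * τ ^ 6 + 4 * τ ^ 4 - 3 * τ ^ 2 + 1) * h3
  rcases mul_eq_zero.1 this with h | h
  · rcases mul_eq_zero.1 h with h | h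
    · rcases mul_eq_zero.1 h with h | h
      · exact Or.inr (Or.inl ((psl_pow_small g).2.2.1 (by show τ ^ 3 = 2 * τ; rw [h]; ring)))
      · exact Or.inl ((psl_pow_small g).2.1 (sub_eq_zero.1 h))
    · exact Or.inr (Or.inl ((psl_pow_small g).2.2.1 (by show τ ^ 3 = 2 * τ; linear_combination τ * h)))
  · exact Or.inr (Or.inr ((psl_pow_small g).2.2.2 h))

/-- An element of order five in the alternating group of degree seven is conjugate to its square. -/
theorem alt_seven_five_conj : ∃ t s : alternatingGroup (Fin 7), t ≠ 1 ∧ t ^ 5 = 1 ∧ s * t * s⁻¹ = t ^ 2 := by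
  have key : ∃ t s : Equiv.Perm (Fin 7), Equiv.Perm.sign t = 1 ∧ Equiv.Perm.sign s = 1 ∧ t ≠ 1 ∧
      t ^ 5 = 1 ∧ s * t * s⁻¹ = t ^ 2 :=
    ⟨c[0, 1, 2, 3, 4], c[1, 2, 4, 3] * c[5, 6], by decide +kernel⟩
  obtain ⟨t, s, ht, hs, h1, h5, h⟩ := key
  exact ⟨⟨t, Equiv.Perm.mem_alternatingGroup.2 ht⟩, ⟨s, Equiv.Perm.mem_alternatingGroup.2 hs⟩,
    fun e => h1 (congrArg Subtype.val e), Subtype.ext h5, Subtype.ext h⟩

/-- The classes of the alternating group of degree seven. -/
theorem alt_seven_classes (t : alternatingGroup (Fin 7)) :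
    ((t ^ 6 = 1 ∨ t ^ 4 = 1) ∧ ∃ s, s * t * s⁻¹ = t⁻¹) ∨ t ^ 5 = 1 ∨
      (t ^ 7 = 1 ∧ ∃ s, s * t * s⁻¹ = t ^ 2) := by
  let Good : Equiv.Perm (Fin 7) → Prop := fun σ =>
    ((σ ^ 6 = 1 ∨ σ ^ 4 = 1) ∧ ∃ s, Equiv.Perm.sign s = 1 ∧ s * σ * s⁻¹ = σ⁻¹) ∨ σ ^ 5 = 1 ∨
      (σ ^ 7 = 1 ∧ ∃ s, Equiv.Perm.sign s = 1 ∧ s * σ * s⁻¹ = σ ^ 2)
  have hgood : ∀ σ ρ : Equiv.Perm (Fin 7), IsConj ρ σ → Good ρ → Good σ := by
    intro σ ρ hc hg
    obtain ⟨π, rfl⟩ := isConj_iff.1 hc
    have hs : ∀ s, Equiv.Perm.sign s = 1 → Equiv.Perm.sign (π * s * π⁻¹) = 1 := fun s hs => by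
      rw [map_mul, map_mul, hs, mul_one, map_inv, mul_inv_cancel]
    have hpow : ∀ n : ℕ, ρ ^ n = 1 → (π * ρ * π⁻¹) ^ n = 1 := fun n hn => by
      rw [conj_pow, hn, mul_one, mul_inv_cancel]
    rcases hg with ⟨h1, s, hs1, hs2⟩ | h | ⟨h1, s, hs1, hs2⟩
    · refine Or.inl ⟨h1.imp (hpow 6) (hpow 4), π * s * π⁻¹, hs s hs1, ?_⟩
      rw [show (π * ρ * π⁻¹)⁻¹ = π * ρ⁻¹ * π⁻¹ by group, ← hs2]
      group
    · exact Or.inr (Or.inl (hpow 5 h))
    · refine Or.inr (Or.inr ⟨hpow 7 h1, π * s * π⁻¹, hs s hs1, ?_⟩)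
      rw [conj_pow, ← hs2]
      group
  suffices hall : Good (t : Equiv.Perm (Fin 7)) by
    rcases hall with ⟨h1, s, hs1, hs2⟩ | h | ⟨h1, s, hs1, hs2⟩
    · exact Or.inl ⟨h1.imp (fun e => Subtype.ext e) (fun e => Subtype.ext e),
        ⟨s, Equiv.Perm.mem_alternatingGroup.2 hs1⟩, Subtype.ext hs2⟩
    · exact Or.inr (Or.inl (Subtype.ext h))
    · exact Or.inr (Or.inr ⟨Subtype.ext h1, ⟨s, Equiv.Perm.mem_alternatingGroup.2 hs1⟩, Subtype.ext hs2⟩)
  have reps : ∀ ρ ∈ ([1, c[0, 1] * c[2, 3], c[0, 1, 2], c[0, 1, 2] * c[3, 4, 5],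
      c[0, 1, 2] * (c[3, 4] * c[5, 6]), c[0, 1, 2, 3] * c[4, 5], c[0, 1, 2, 3, 4],
      c[0, 1, 2, 3, 4, 5, 6]] : List (Equiv.Perm (Fin 7))), Good ρ := by
    intro ρ hρ
    simp only [List.mem_cons, List.not_mem_nil, or_false] at hρ
    rcases hρ with rfl | rfl | rfl | rfl | rfl | rfl | rfl | rfl
    · exact Or.inl ⟨Or.inl (one_pow _), 1, map_one _, by simp⟩
    · exact Or.inl ⟨Or.inr (by decide +kernel), 1, map_one _, by decide +kernel⟩
    · exact Or.inl ⟨Or.inl (by decide +kernel), c[1, 2] * c[3, 4], by decide +kernel, by decide +kernel⟩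
    · exact Or.inl ⟨Or.inl (by decide +kernel), c[1, 2] * c[4, 5], by decide +kernel, by decide +kernel⟩
    · exact Or.inl ⟨Or.inl (by decide +kernel), c[1, 2] * c[3, 4], by decide +kernel, by decide +kernel⟩
    · exact Or.inl ⟨Or.inr (by decide +kernel), c[1, 3] * c[4, 5], by decide +kernel, by decide +kernel⟩
    · exact Or.inr (Or.inl (by decide +kernel))
    · exact Or.inr (Or.inr ⟨by decide +kernel, c[1, 2, 4] * c[3, 6, 5], by decide +kernel, by decide +kernel⟩)
  set σ := (t : Equiv.Perm (Fin 7))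
  have hsum : σ.cycleType.sum ≤ 7 := by
    rw [Equiv.Perm.sum_cycleType]
    exact (Finset.card_le_univ _).trans (by simp)
  have hev : Even (σ.cycleType.sum + Multiset.card σ.cycleType) := by
    have h1 := Equiv.Perm.mem_alternatingGroup.1 t.2
    rw [Equiv.Perm.sign_of_cycleType] at h1
    exact neg_one_pow_eq_one_iff_even (by decide) |>.1 h1
  have htwo : ∀ a ∈ σ.cycleType, 2 ≤ a := fun a ha => Equiv.Perm.two_le_of_mem_cycleType ha
  have hconj : ∀ ρ : Equiv.Perm (Fin 7), σ.cycleType = ρ.cycleType → Good ρ → Good σ := fun ρ h hg =>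
    hgood _ _ (Equiv.Perm.isConj_iff_cycleType_eq.2 h.symm) hg
  have hct : σ.cycleType = 0 ∨ σ.cycleType = {2, 2} ∨ σ.cycleType = {3} ∨ σ.cycleType = {3, 3} ∨
      σ.cycleType = {3, 2, 2} ∨ σ.cycleType = {4, 2} ∨ σ.cycleType = {5} ∨ σ.cycleType = {7} := by
    generalize σ.cycleType = m at hsum hev htwo
    have hcard : Multiset.card m ≤ 3 := by
      have := Multiset.card_nsmul_le_sum htwo
      simp at this
      omega
    rcases (by omega : Multiset.card m = 0 ∨ Multiset.card m = 1 ∨ Multiset.card m = 2 ∨ Multiset.card m = 3) with h | h | h | h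
    · exact Or.inl (Multiset.card_eq_zero.1 h)
    · obtain ⟨a, rfl⟩ := Multiset.card_eq_one.1 h
      simp [parity_simps] at hsum hev htwo
      interval_cases a <;> simp_all (config := { decide := true })
    · obtain ⟨a, b, rfl⟩ := Multiset.card_eq_two.1 h
      simp [parity_simps] at hsum hev htwo
      obtain ⟨ha, hb⟩ := htwo
      have : a ≤ 5 := by omega
      have : b ≤ 5 := by omega
      interval_cases a <;> interval_cases b <;> revert hev hsum <;> decide
    · obtain ⟨a, b, c, rfl⟩ := Multiset.card_eq_three.1 h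
      simp [parity_simps] at hsum hev htwo
      obtain ⟨ha, hb, hc⟩ := htwo
      have : a ≤ 3 := by omega
      have : b ≤ 3 := by omega
      have : c ≤ 3 := by omega
      interval_cases a <;> interval_cases b <;> interval_cases c <;> revert hev hsum <;> decide
  rcases hct with h | h | h | h | h | h | h | h
  all_goals first
    | exact hconj 1 (by rw [h]; decide +kernel) (reps _ (by simp))
    | exact hconj (c[0, 1] * c[2, 3]) (by rw [h]; decide +kernel) (reps _ (by simp))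
    | exact hconj c[0, 1, 2] (by rw [h]; decide +kernel) (reps _ (by simp))
    | exact hconj (c[0, 1, 2] * c[3, 4, 5]) (by rw [h]; decide +kernel) (reps _ (by simp))
    | exact hconj (c[0, 1, 2] * (c[3, 4] * c[5, 6])) (by rw [h]; decide +kernel) (reps _ (by simp))
    | exact hconj (c[0, 1, 2, 3] * c[4, 5]) (by rw [h]; decide +kernel) (reps _ (by simp))
    | exact hconj c[0, 1, 2, 3, 4] (by rw [h]; decide +kernel) (reps _ (by simp))
    | exact hconj c[0, 1, 2, 3, 4, 5, 6] (by rw [h]; decide +kernel) (reps _ (by simp))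

end CfsgLib.Mitchell
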