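import Cfsg.Agent.Lib.Mitchell.FieldsBase
import Cfsg.Agent.Lib.Mitchell.FieldsModel
import Cfsg.Agent.Lib.DimThreeSub.Spectral
import Cfsg.Agent.Lib.ClassicalGroups.SmallIso

/-!
# The field of a perfect group with quotient of order 168, 360 or 2520

A perfect absolutely irreducible subgroup of `GL₃(F)`, written over no proper subfield, whose
quotient modulo scalars is `PSL₃(2)`, `A₆` or `A₇`: the field and the invariant forms.
-/

set_option autoImplicit false
set_option linter.unusedSectionVars false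

namespace CfsgLib.Mitchell

open Cfsg Cfsg.Geo Matrix CfsgLib.Geo.Asch CfsgLib.DimThreeSub CfsgLib.ClassicalGroups
open scoped MatrixGroups

variable {F : Type*} [Field F] [Fintype F] {P : Subgroup (GL (Fin 3) F)}

theorem Hyp.inj_of_element (h : Hyp P) (t : Quot P) (ht : ¬ 3 ∣ (Subgroup.zpowers t).index) :
    Function.Injective (toQuot P) := by
  obtain ⟨a, rfl⟩ := toQuot_surjective (P := P) t
  refine h.inj_of_abelian_index _ ht fun x y hx hy => ?_
  obtain ⟨i, hi⟩ := hx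
  obtain ⟨j, hj⟩ := hy
  simp only [← map_zpow] at hi hj
  have hx' : toQuot P ((a ^ i)⁻¹ * x) = 1 := by rw [map_mul, map_inv, hi, inv_mul_cancel]
  have hy' : toQuot P ((a ^ j)⁻¹ * y) = 1 := by rw [map_mul, map_inv, hj, inv_mul_cancel]
  have key : Commute (a ^ i * ((a ^ i)⁻¹ * x)) (a ^ j * ((a ^ j)⁻¹ * y)) :=
    Commute.mul_left (Commute.mul_right (Commute.zpow_zpow_self a i j) (kernel_comm hy' _).symm)
      (kernel_comm hx' _)
  rwa [mul_inv_cancel_left, mul_inv_cancel_left] at key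

/-- An element of order three in a finite quotient of the right order spans a Sylow subgroup. -/
theorem Hyp.inj_of_card (h : Hyp P) (h3 : 3 ∣ Nat.card (Quot P)) (h9 : ¬ 9 ∣ Nat.card (Quot P)) :
    Function.Injective (toQuot P) := by
  have : Fact (Nat.Prime 3) := ⟨Nat.prime_three⟩
  obtain ⟨t, ht⟩ := exists_prime_orderOf_dvd_card' 3 h3
  refine h.inj_of_element t fun hd => h9 ?_
  rw [← (Subgroup.zpowers t).card_mul_index, Nat.card_zpowers, ht]
  exact Nat.mul_dvd_mul_left 3 hd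

/-- The isomorphism with the quotient when there are no scalars. -/
noncomputable def equivQuot (hinj : Function.Injective (toQuot P)) : P ≃* Quot P :=
  MulEquiv.ofBijective (toQuot P) ⟨hinj, toQuot_surjective⟩

theorem Hyp.inj_of_char_three (h : Hyp P) [CharP F 3] : Function.Injective (toQuot P) := by
  rw [injective_iff_map_eq_one]
  intro z hz
  obtain ⟨c, hc⟩ := (mem_scalars_iff _).1 (toQuot_eq_one.1 hz)
  have : Fact (Nat.Prime 3) := ⟨Nat.prime_three⟩
  have := cube_root_eq_one 3 rfl (h.scalar_cube z.2 hc)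
  rw [this, one_smul] at hc
  exact Subtype.ext (Units.ext hc)

theorem unit_prime {q p : ℕ} (hp : p.Prime) (hF : Fintype.card F = q ^ 2) (he : Fintype.card F = p ^ 2) :
    q = p ∧ q.Prime := by
  have : q = p := Nat.pow_left_injective two_ne_zero (hF.symm.trans he)
  exact ⟨this, this ▸ hp⟩

variable (p : ℕ) [Fact p.Prime] [CharP F p]

theorem pow_eq_pow_of_mod {G : Type*} [Monoid G] {x : G} {n k m : ℕ} (hx : x ^ n = 1) (h : k % n = m) :
    x ^ k = x ^ m := by
  rw [← h]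
  exact (pow_eq_pow_mod k hx)

theorem prime_of_mod_zero {r : ℕ} (hr : r.Prime) (h : p % r = 0) : p = r :=
  ((Nat.prime_dvd_prime_iff_eq hr Fact.out).1 (Nat.dvd_of_mod_eq_zero h)).symm

theorem trc_pow_eq_self {x : P} {n : ℕ} (hx : x ^ n = 1) (h : p % n = 1) : trc x ^ p = trc x := by
  rw [← trc_pow_char p, pow_eq_pow_of_mod hx h, pow_one]

theorem trc_pow_eq_inv {x : P} {n : ℕ} (hx : x ^ (n + 1) = 1) (h : p % (n + 1) = n) :
    trc x ^ p = trc x⁻¹ := by
  rw [← trc_pow_char p, pow_eq_pow_of_mod hx h,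
    (inv_eq_of_mul_eq_one_right (by rw [← pow_succ', hx]) : x⁻¹ = x ^ n)]

theorem trc_fixed_of_real (hp : p ≠ 2) {x : P} (hr : trc x⁻¹ = trc x) (hx : x ^ 3 = 1 ∨ x ^ 4 = 1) :
    trc x ^ p = trc x := by
  rcases hx with hx | hx
  · rcases (by omega : p % 3 = 0 ∨ p % 3 = 1 ∨ p % 3 = 2) with e | e | e
    · have h3 := prime_of_mod_zero p Nat.prime_three e
      rw [trc_eq_three p (show x ^ p = 1 by rw [h3, hx]), three_pow_char p]
    · exact trc_pow_eq_self p hx e
    · rw [trc_pow_eq_inv p (n := 2) hx e, hr]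
  · have hodd : p % 2 = 1 := (Fact.out : p.Prime).eq_two_or_odd.resolve_left hp
    rcases (by omega : p % 4 = 1 ∨ p % 4 = 3) with e | e
    · exact trc_pow_eq_self p hx e
    · rw [trc_pow_eq_inv p (n := 3) hx e, hr]

/-! ### Order 168 -/

theorem seven_inj (h : Hyp P)
    (hT : Nonempty (Quot P ≃* Matrix.ProjectiveSpecialLinearGroup (Fin 3) (ZMod 2))) :
    Nonempty (P ≃* Matrix.ProjectiveSpecialLinearGroup (Fin 2) (ZMod 7)) := by
  have : Fact (Nat.Prime 7) := ⟨by norm_num⟩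
  have : Fact (Nat.Prime 2) := ⟨Nat.prime_two⟩
  obtain ⟨e0⟩ := hT
  obtain ⟨e2⟩ := psl_two_seven_psl_three_two (K := ZMod 7) (L := ZMod 2) (ZMod.card 7) (ZMod.card 2)
  let e := e0.trans e2.symm
  have hcard : Nat.card (Quot P) = 168 := by
    rw [Nat.card_congr e.toEquiv]
    have := card_psl_two_gcd (K := ZMod 7)
    rw [ZMod.card, show Nat.gcd 2 (7 - 1) = 2 by decide +kernel] at this
    omega
  exact ⟨(equivQuot (h.inj_of_card (by rw [hcard]; norm_num) (by rw [hcard]; norm_num))).trans e⟩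

theorem seven_traces (hp : p ≠ 2) (e : P ≃* Matrix.ProjectiveSpecialLinearGroup (Fin 2) (ZMod 7)) (x : P) :
    ((p % 7 = 1 ∨ p % 7 = 2 ∨ p % 7 = 4) → trc x ^ p = trc x) ∧
      ((p % 7 = 3 ∨ p % 7 = 5 ∨ p % 7 = 6) → trc x⁻¹ = trc x ^ p) ∧
      (p % 7 = 0 → trc x⁻¹ = trc x) := by
  rcases psl_seven_classes (e x) with ⟨hx, hr⟩ | ⟨hx, s, hs⟩
  · have hr' := trc_inv_eq_of_equiv e hr
    have := trc_fixed_of_real p hp hr' (hx.imp (fun h => e.injective (by rw [map_pow, h, map_one]))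
      (fun h => e.injective (by rw [map_pow, h, map_one])))
    exact ⟨fun _ => this, fun _ => by rw [hr', this], fun _ => hr'⟩
  · have h7 : x ^ 7 = 1 := e.injective (by rw [map_pow, hx, map_one])
    set g := e.symm s
    have hg : g * x * g⁻¹ = x ^ 2 := e.injective (by simp [g, hs])
    have hg4 : g * g * x * (g * g)⁻¹ = x ^ 4 := by
      rw [show g * g * x * (g * g)⁻¹ = g * (g * x * g⁻¹) * g⁻¹ by group, hg, ← conj_pow, hg, ← pow_mul]
    have hgi : g * x⁻¹ * g⁻¹ = x ^ 5 := by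
      rw [show g * x⁻¹ * g⁻¹ = (g * x * g⁻¹)⁻¹ by group, hg]
      exact inv_eq_of_mul_eq_one_right (by rw [← pow_add, h7])
    have hgi4 : g * g * x⁻¹ * (g * g)⁻¹ = x ^ 3 := by
      rw [← conj_inv, hg4]
      exact inv_eq_of_mul_eq_one_right (by rw [← pow_add, h7])
    refine ⟨?_, ?_, ?_⟩
    · rintro (h | h | h)
      · exact trc_pow_eq_self p h7 h
      · rw [← trc_pow_char p, pow_eq_pow_of_mod h7 h, ← hg, trc_conj]
      · rw [← trc_pow_char p, pow_eq_pow_of_mod h7 h, ← hg4, trc_conj]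
    · rintro (h | h | h)
      · rw [← trc_pow_char p, pow_eq_pow_of_mod h7 h, ← hgi4, trc_conj]
      · rw [← trc_pow_char p, pow_eq_pow_of_mod h7 h, ← hgi, trc_conj]
      · exact (trc_pow_eq_inv p (n := 6) h7 h).symm
    · intro h
      have h' := prime_of_mod_zero p (show Nat.Prime 7 by norm_num) h
      rw [trc_eq_three p (show x ^ p = 1 by rw [h', h7]),
        trc_eq_three p (show x⁻¹ ^ p = 1 by rw [inv_pow, h', h7, inv_one])]

theorem field_seven (hp : p ≠ 2) (h : Hyp P) (hsub : NoSubfield P)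
    (hT : Nonempty (Quot P ≃* Matrix.ProjectiveSpecialLinearGroup (Fin 3) (ZMod 2))) :
    QuadForm P ∨ UnitForm P ∨ LinExc P p := by
  obtain ⟨e⟩ := seven_inj h hT
  have ht := seven_traces p hp e
  rcases (by omega : p % 7 = 0 ∨ (p % 7 = 1 ∨ p % 7 = 2 ∨ p % 7 = 4) ∨
      (p % 7 = 3 ∨ p % 7 = 5 ∨ p % 7 = 6)) with c | c | c
  · exact Or.inl (quad_of_real hp h fun x => (ht x).2.2 c)
  · exact Or.inr (Or.inr (Or.inl ⟨hT, card_eq_prime h hsub fun x => (ht x).1 c, hp, c⟩))
  · exact (quad_or_unit hp h hsub fun x => (ht x).2.1 c).imp_right fun h' => Or.inl h'.2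

theorem field_seven_unit (hp : p ≠ 2) (h : Hyp P) (hsub : NoSubfield P) {q : ℕ} (hF : Fintype.card F = q ^ 2)
    (hT : Nonempty (Quot P ≃* Matrix.ProjectiveSpecialLinearGroup (Fin 3) (ZMod 2))) :
    QuadForm P ∨ UnitExc P q := by
  obtain ⟨e⟩ := seven_inj h hT
  have ht := seven_traces p hp e
  rcases (by omega : p % 7 = 0 ∨ (p % 7 = 1 ∨ p % 7 = 2 ∨ p % 7 = 4) ∨
      (p % 7 = 3 ∨ p % 7 = 5 ∨ p % 7 = 6)) with c | c | c
  · exact Or.inl (quad_of_real hp h fun x => (ht x).2.2 c)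
  · exact absurd (card_eq_prime h hsub fun x => (ht x).1 c) (card_ne_prime_of_sq hF Fact.out)
  · refine (quad_or_unit hp h hsub fun x => (ht x).2.1 c).imp_right fun h' => ?_
    obtain ⟨rfl, hq⟩ := unit_prime Fact.out hF h'.1
    exact ⟨hq, Or.inl ⟨hT, c⟩⟩

/-! ### Order 360 -/

theorem six_facts (hT : Nonempty (Quot P ≃* alternatingGroup (Fin 6))) (t : Quot P) :
    (∃ s, s * t * s⁻¹ = t⁻¹) ∧ (t ^ 3 = 1 ∨ t ^ 4 = 1 ∨ t ^ 5 = 1) := by
  obtain ⟨e0⟩ := hT
  have hsq2 : (2 : NineField) ≠ 0 := by decide +kernel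
  have := nineField_irreducible
  obtain ⟨e2⟩ := psl_two_nine_alternating (K := NineField) card_nineField
  let e := e0.trans e2.symm
  have hsq : IsSquare (-1 : NineField) := FiniteField.isSquare_neg_one_iff.2 (by rw [card_nineField]; norm_num)
  have h2 : (2 : NineField) ≠ 0 := hsq2
  constructor
  · obtain ⟨s, hs⟩ := psl_real_of_square h2 hsq (e t)
    exact ⟨e.symm s, e.injective (by simp [hs])⟩
  · exact (psl_nine_pow card_nineField (e t)).imp (fun h => e.injective (by rw [map_pow, h, map_one]))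
      (Or.imp (fun h => e.injective (by rw [map_pow, h, map_one]))
        fun h => e.injective (by rw [map_pow, h, map_one]))

theorem six_five (h : Hyp P) (hT : Nonempty (Quot P ≃* alternatingGroup (Fin 6))) :
    ∃ y g : P, y ≠ 1 ∧ y ^ 5 = 1 ∧ g * y * g⁻¹ = y ^ 4 := by
  have : Fact (Nat.Prime 5) := ⟨by norm_num⟩
  obtain ⟨e0⟩ := hT
  obtain ⟨t, ht⟩ := exists_prime_orderOf_dvd_card' (G := Quot P) 5 (by
    rw [Nat.card_congr e0.toEquiv, nat_card_alternatingGroup, Nat.card_fin]; decide)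
  obtain ⟨y, hy, hy5⟩ := h.exists_exact (n := 5) (by norm_num) (show t ^ 5 = 1 by rw [← ht, pow_orderOf_eq_one])
  obtain ⟨s, hs⟩ := (six_facts ⟨e0⟩ t).1
  obtain ⟨g, rfl⟩ := toQuot_surjective (P := P) s
  refine ⟨y, g, ?_, hy5, h.conj_exact (n := 5) (by norm_num) hy5 ?_⟩
  · rintro rfl
    rw [map_one] at hy
    rw [← hy, orderOf_one] at ht
    norm_num at ht
  · rw [hy, hs]
    refine inv_eq_of_mul_eq_one_right ?_
    have := pow_orderOf_eq_one t
    rw [ht] at this
    rw [← pow_succ']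
    exact this

theorem six_inv (hp : p ≠ 2) (h : Hyp P) (hT : Nonempty (Quot P ≃* alternatingGroup (Fin 6)))
    (h3 : p % 3 = 2) (h5 : p % 5 = 0 ∨ p % 5 = 1 ∨ p % 5 = 4) (x : P) : trc x⁻¹ = trc x ^ p := by
  obtain ⟨hr, hx | hx | hx⟩ := six_facts hT (toQuot P x)
  · have hx3 : x ^ 3 = 1 := h.real_pow_eq_one (dvd_refl 3) hx hr
    exact (trc_pow_eq_inv p (n := 2) hx3 h3).symm
  · obtain ⟨y, hy, hy4⟩ := h.exists_exact (n := 4) (by norm_num) hx
    have hr' := h.real_exact (n := 4) (by norm_num) hy4 (by rw [hy]; exact hr)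
    exact h.inv_of_lift h3 hy.symm (by rw [trc_fixed_of_real p hp hr' (Or.inr hy4), hr'])
  · obtain ⟨y, hy, hy5⟩ := h.exists_exact (n := 5) (by norm_num) hx
    have hr' := h.real_exact (n := 5) (by norm_num) hy5 (by rw [hy]; exact hr)
    refine h.inv_of_lift h3 hy.symm ?_
    rw [hr']
    rcases h5 with c | c | c
    · have h' := prime_of_mod_zero p (show Nat.Prime 5 by norm_num) c
      rw [trc_eq_three p (show y ^ p = 1 by rw [h', hy5]), three_pow_char p]
    · rw [trc_pow_eq_self p hy5 c]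
    · rw [trc_pow_eq_inv p (n := 4) hy5 c, hr']

theorem six_fix (hp : p ≠ 2) (h : Hyp P) (hT : Nonempty (Quot P ≃* alternatingGroup (Fin 6)))
    (h3 : p % 3 = 1) (h5 : p % 5 = 1 ∨ p % 5 = 4) (x : P) : trc x ^ p = trc x := by
  obtain ⟨hr, hx | hx | hx⟩ := six_facts hT (toQuot P x)
  · exact trc_pow_eq_self p (h.real_pow_eq_one (dvd_refl 3) hx hr) h3
  · obtain ⟨y, hy, hy4⟩ := h.exists_exact (n := 4) (by norm_num) hx
    have hr' := h.real_exact (n := 4) (by norm_num) hy4 (by rw [hy]; exact hr)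
    exact h.fix_of_lift h3 hy.symm (trc_fixed_of_real p hp hr' (Or.inr hy4))
  · obtain ⟨y, hy, hy5⟩ := h.exists_exact (n := 5) (by norm_num) hx
    have hr' := h.real_exact (n := 5) (by norm_num) hy5 (by rw [hy]; exact hr)
    refine h.fix_of_lift h3 hy.symm ?_
    rcases h5 with c | c
    · exact trc_pow_eq_self p hy5 c
    · rw [trc_pow_eq_inv p (n := 4) hy5 c, hr']

theorem six_sq (h : Hyp P) (hT : Nonempty (Quot P ≃* alternatingGroup (Fin 6)))
    (h3 : p % 3 ≠ 0) (h5 : p % 5 = 2 ∨ p % 5 = 3) (hp : p ≠ 2) (x : P) : trc x ^ (p ^ 2) = trc x := by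
  have e3 : (p * p) % 3 = 1 := by
    rcases (by omega : p % 3 = 1 ∨ p % 3 = 2) with e | e <;> simp [Nat.mul_mod, e]
  have e4 : (p * p) % 4 = 1 := by
    have hodd : p % 2 = 1 := (Fact.out : p.Prime).eq_two_or_odd.resolve_left hp
    rcases (by omega : p % 4 = 1 ∨ p % 4 = 3) with e | e <;> simp [Nat.mul_mod, e]
  have e5 : (p * p) % 5 = 4 := by rcases h5 with e | e <;> simp [Nat.mul_mod, e]
  have hpp : ∀ z : P, trc z ^ (p ^ 2) = trc (z ^ (p * p)) := fun z => by
    rw [pow_two, pow_mul, ← trc_pow_char p, ← trc_pow_char p, ← pow_mul]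
  have hlift : ∀ y : P, toQuot P x = toQuot P y → trc y ^ (p ^ 2) = trc y → trc x ^ (p ^ 2) = trc x := by
    intro y hy hy'
    obtain ⟨c, hc, e, -⟩ := h.exists_trc_eq hy
    rw [e, mul_pow, hy', pow_two, pow_eq_pow_of_mod hc e3, pow_one]
  obtain ⟨hr, hx | hx | hx⟩ := six_facts hT (toQuot P x)
  · rw [hpp, pow_eq_pow_of_mod (h.real_pow_eq_one (dvd_refl 3) hx hr) e3, pow_one]
  · obtain ⟨y, hy, hy4⟩ := h.exists_exact (n := 4) (by norm_num) hx
    exact hlift y hy.symm (by rw [hpp, pow_eq_pow_of_mod hy4 e4, pow_one])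
  · obtain ⟨y, hy, hy5⟩ := h.exists_exact (n := 5) (by norm_num) hx
    have hr' := h.real_exact (n := 5) (by norm_num) hy5 (by rw [hy]; exact hr)
    refine hlift y hy.symm ?_
    rw [hpp, pow_eq_pow_of_mod hy5 e5, ← hr',
      (inv_eq_of_mul_eq_one_right (by rw [← pow_succ', hy5]) : y⁻¹ = y ^ 4)]

/-- Some element of order five has a trace moved by Frobenius. -/
theorem six_moved (h : Hyp P) (hT : Nonempty (Quot P ≃* alternatingGroup (Fin 6)))
    (h5 : p % 5 = 2 ∨ p % 5 = 3) : ∃ y : P, trc y⁻¹ = trc y ∧ trc y ^ p ≠ trc y := by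
  obtain ⟨y, g, hy1, hy5, hg⟩ := six_five h hT
  have hinv : y⁻¹ = y ^ 4 := inv_eq_of_mul_eq_one_right (by rw [← pow_succ', hy5])
  have hr : trc y⁻¹ = trc y := by rw [hinv, ← hg, trc_conj]
  refine ⟨y, hr, fun hfix => hy1 ?_⟩
  have hsq : trc (y ^ 2) = trc y := by
    rw [← trc_pow_char p] at hfix
    rcases h5 with c | c
    · rwa [pow_eq_pow_of_mod hy5 c] at hfix
    · rw [pow_eq_pow_of_mod hy5 c] at hfix
      rw [← hfix, ← trc_conj g (y ^ 2), ← conj_pow, hg, ← pow_mul,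
        pow_eq_pow_of_mod hy5 (show (4 * 2) % 5 = 3 from rfl)]
  have h5F : (5 : F) ≠ 0 := by
    intro e
    have e' : ((5 : ℕ) : F) = 0 := by exact_mod_cast e
    have := (Nat.prime_dvd_prime_iff_eq Fact.out (by norm_num : Nat.Prime 5)).1 ((CharP.cast_eq_zero_iff F p 5).1 e')
    omega
  have hdet := h.det_eq_one y.2
  have hadj : ((y : GL (Fin 3) F) : Matrix (Fin 3) (Fin 3) F).adjugate =
      ((y⁻¹ : P) : GL (Fin 3) F) := by
    rw [Subgroup.coe_inv, Matrix.coe_units_inv, Matrix.inv_def, hdet, Ring.inverse_one, one_smul]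
  refine Subtype.ext (Units.ext (five_trivial h5F hdet ?_ ?_ ?_))
  · rw [← Units.val_pow_eq_pow_val, ← Subgroup.coe_pow, hy5, Subgroup.coe_one, Units.val_one]
  · rw [hadj]; exact hr
  · rw [← Units.val_mul, ← Subgroup.coe_mul, ← pow_two]; exact hsq

theorem six_quad_three (hp : p = 3) (h : Hyp P) (hT : Nonempty (Quot P ≃* alternatingGroup (Fin 6))) :
    QuadForm P := by
  subst hp
  exact quad_of_real (p := 3) (by norm_num) h fun x =>
    trc_inv_eq_of_equiv (equivQuot h.inj_of_char_three) (six_facts hT _).1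

theorem field_six (hp : p ≠ 2) (h : Hyp P) (hsub : NoSubfield P)
    (hT : Nonempty (Quot P ≃* alternatingGroup (Fin 6))) :
    QuadForm P ∨ UnitForm P ∨ LinExc P p := by
  by_cases h3 : p = 3
  · exact Or.inl (six_quad_three p h3 h hT)
  have hm3 : p % 3 ≠ 0 := fun e => h3 (prime_of_mod_zero p Nat.prime_three e)
  by_cases h5 : p % 5 = 2 ∨ p % 5 = 3
  · rcases card_prime_or_sq h hsub (six_sq p h hT hm3 h5 hp) with e | e
    · obtain ⟨y, -, hy⟩ := six_moved p h hT h5
      have := FiniteField.pow_card (trc y)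
      rw [e] at this
      exact absurd this hy
    · exact Or.inr (Or.inr (Or.inr ⟨hT, Or.inr ⟨e, h3, h5⟩⟩))
  · rcases (by omega : p % 3 = 1 ∨ p % 3 = 2) with c | c
    · have h5' : p % 5 = 1 ∨ p % 5 = 4 := by
        by_contra hc
        have := prime_of_mod_zero p (show Nat.Prime 5 by norm_num) (by omega)
        omega
      exact Or.inr (Or.inr (Or.inr ⟨hT, Or.inl ⟨card_eq_prime h hsub (six_fix p hp h hT c h5'), by omega⟩⟩))
    · exact (quad_or_unit hp h hsub (six_inv p hp h hT c (by omega))).imp_right fun h' => Or.inl h'.2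

theorem field_six_unit (hp : p ≠ 2) (h : Hyp P) (hsub : NoSubfield P) {q : ℕ} (hF : Fintype.card F = q ^ 2)
    (hPU : P ≤ Cfsg.GU 3 F q) (hT : Nonempty (Quot P ≃* alternatingGroup (Fin 6))) :
    QuadForm P ∨ UnitExc P q := by
  by_cases h3 : p = 3
  · exact Or.inl (six_quad_three p h3 h hT)
  have hm3 : p % 3 ≠ 0 := fun e => h3 (prime_of_mod_zero p Nat.prime_three e)
  by_cases h5 : p % 5 = 2 ∨ p % 5 = 3
  · rcases card_prime_or_sq h hsub (six_sq p h hT hm3 h5 hp) with e | e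
    · exact absurd e (card_ne_prime_of_sq hF Fact.out)
    · obtain ⟨y, hyr, hy⟩ := six_moved p h hT h5
      obtain ⟨rfl, -⟩ := unit_prime Fact.out hF e
      exact absurd ((trc_inv_GU hF hPU y).symm.trans hyr) hy
  · rcases (by omega : p % 3 = 1 ∨ p % 3 = 2) with c | c
    · have h5' : p % 5 = 1 ∨ p % 5 = 4 := by
        by_contra hc
        have := prime_of_mod_zero p (show Nat.Prime 5 by norm_num) (by omega)
        omega
      exact absurd (card_eq_prime h hsub (six_fix p hp h hT c h5')) (card_ne_prime_of_sq hF Fact.out)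
    · refine (quad_or_unit hp h hsub (six_inv p hp h hT c (by omega))).imp_right fun h' => ?_
      obtain ⟨rfl, hq⟩ := unit_prime Fact.out hF h'.1
      refine ⟨hq, Or.inr (Or.inl ⟨hT, ?_⟩)⟩
      rcases (by omega : q % 5 = 0 ∨ q % 5 = 1 ∨ q % 5 = 4) with d | d | d
      · exact Or.inr (Or.inr (prime_of_mod_zero q (show Nat.Prime 5 by norm_num) d))
      · omega
      · omega

/-! ### Order 2520 -/

theorem alt_seven_char (h : Hyp P) (hT : Nonempty (Quot P ≃* alternatingGroup (Fin 7))) : p = 5 := by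
  by_contra hne
  obtain ⟨e⟩ := hT
  obtain ⟨t, s, ht1, ht5, hs⟩ := alt_seven_five_conj
  obtain ⟨y, hy, hy5⟩ := h.exists_exact (n := 5) (by norm_num) (t := e.symm t) (by rw [← map_pow, ht5, map_one])
  obtain ⟨g, hg⟩ := toQuot_surjective (P := P) (e.symm s)
  have hconj := h.conj_exact (n := 5) (k := 2) (by norm_num) hy5 (g := g) (by
    rw [hy, hg, ← map_inv, ← map_mul, ← map_mul, hs, map_pow])
  refine no_power_conj (F := F) (r := 5) (k := 2) (by norm_num) ?_ (by decide) (x := (y : GL (Fin 3) F))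
    (g := (g : GL (Fin 3) F)) (congrArg Subtype.val hy5) ?_ (congrArg Subtype.val hconj)
  · intro e'
    exact hne ((Nat.prime_dvd_prime_iff_eq Fact.out (by norm_num)).1 ((CharP.cast_eq_zero_iff F p 5).1 e'))
  · intro hy1
    apply ht1
    apply e.symm.injective
    rw [map_one, ← hy, show y = 1 from Subtype.ext hy1, map_one]

theorem alt_seven_inv (h : Hyp P) (hT : Nonempty (Quot P ≃* alternatingGroup (Fin 7))) (hp : p = 5) (x : P) :
    trc x⁻¹ = trc x ^ p := by
  obtain ⟨e⟩ := hT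
  have h3 : p % 3 = 2 := by omega
  have hreal : (∃ s, s * e (toQuot P x) * s⁻¹ = (e (toQuot P x))⁻¹) →
      ∃ s : Quot P, s * toQuot P x * s⁻¹ = (toQuot P x)⁻¹ := fun ⟨s, hs⟩ => ⟨e.symm s, e.injective (by rw [map_mul, map_mul, map_inv, map_inv, e.apply_symm_apply, hs])⟩
  have hpow : ∀ {n : ℕ}, e (toQuot P x) ^ n = 1 → toQuot P x ^ n = 1 := fun hn =>
    e.injective (by rw [map_pow, hn, map_one])
  rcases alt_seven_classes (e (toQuot P x)) with ⟨hx | hx, hr⟩ | hx | ⟨hx, s, hs⟩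
  · have hx6 : x ^ 6 = 1 := h.real_pow_eq_one (by norm_num) (hpow hx) (hreal hr)
    rw [← trc_pow_char p, hp, (inv_eq_of_mul_eq_one_right (by rw [← pow_succ', hx6]) : x⁻¹ = x ^ 5)]
  · obtain ⟨y, hy, hy4⟩ := h.exists_exact (n := 4) (by norm_num) (hpow hx)
    have hr' := h.real_exact (n := 4) (by norm_num) hy4 (by rw [hy]; exact hreal hr)
    exact h.inv_of_lift h3 hy.symm (by rw [trc_pow_eq_self p hy4 (by omega), hr'])
  · obtain ⟨y, hy, hy5⟩ := h.exists_exact (n := 5) (by norm_num) (hpow hx)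
    refine h.inv_of_lift h3 hy.symm ?_
    rw [trc_eq_three p (show y ^ p = 1 by rw [hp, hy5]),
      trc_eq_three p (show y⁻¹ ^ p = 1 by rw [inv_pow, hp, hy5, inv_one]), three_pow_char p]
  · obtain ⟨y, hy, hy7⟩ := h.exists_exact (n := 7) (by norm_num) (hpow hx)
    obtain ⟨g, hg⟩ := toQuot_surjective (P := P) (e.symm s)
    have hconj := h.conj_exact (n := 7) (k := 2) (by norm_num) hy7 (g := g) (by
      apply e.injective
      rw [map_mul, map_mul, map_inv, map_pow, hy, hg, e.apply_symm_apply, hs])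
    refine h.inv_of_lift h3 hy.symm ?_
    have h5' : g * y⁻¹ * g⁻¹ = y ^ p := by
      rw [show g * y⁻¹ * g⁻¹ = (g * y * g⁻¹)⁻¹ by group, hconj, hp]
      exact inv_eq_of_mul_eq_one_right (by rw [← pow_add, hy7])
    rw [← trc_pow_char p, ← h5', trc_conj]

theorem field_alt_seven (hp : p ≠ 2) (h : Hyp P) (hsub : NoSubfield P)
    (hT : Nonempty (Quot P ≃* alternatingGroup (Fin 7))) :
    QuadForm P ∨ UnitForm P ∨ LinExc P p :=
  (quad_or_unit hp h hsub (alt_seven_inv p h hT (alt_seven_char p h hT))).imp_right fun h' => Or.inl h'.2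

theorem field_alt_seven_unit (hp : p ≠ 2) (h : Hyp P) (hsub : NoSubfield P) {q : ℕ}
    (hF : Fintype.card F = q ^ 2) (hT : Nonempty (Quot P ≃* alternatingGroup (Fin 7))) :
    QuadForm P ∨ UnitExc P q := by
  have h5 := alt_seven_char p h hT
  refine (quad_or_unit hp h hsub (alt_seven_inv p h hT h5)).imp_right fun h' => ?_
  obtain ⟨rfl, hq⟩ := unit_prime Fact.out hF h'.1
  exact ⟨hq, Or.inr (Or.inr ⟨hT, h5⟩)⟩

end CfsgLib.Mitchell
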