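import Cfsg.Agent.Lib.Mitchell.HomologyPair

/-!
In a group without transvections no element acts as a non-trivial homology, apart from reflections.
-/

set_option autoImplicit false
set_option linter.unusedSectionVars false

namespace CfsgLib.Mitchell

open Cfsg Cfsg.Geo Matrix CfsgLib.Geo.Asch CfsgLib.GeomClasses
open scoped MatrixGroups

variable {F : Type*} [Field F] [Fintype F] {P : Subgroup (GL (Fin 3) F)}

theorem Homology.conj_sup {μ : F} {u φ : Fin 3 → F} (h : Homology P μ u φ) {g : GL (Fin 3) F}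
    (hg : g ∈ P ⊔ scalars (Fin 3) F) :
    Homology P μ ((g : Matrix (Fin 3) (Fin 3) F) *ᵥ u)
      (φ ᵥ* ((g⁻¹ : GL (Fin 3) F) : Matrix (Fin 3) (Fin 3) F)) := by
  have : (scalars (Fin 3) F).Normal := ⟨fun c hc g => by
    rw [← scalars_comm hc g, mul_inv_cancel_right]; exact hc⟩
  obtain ⟨x, hx, c, hc, rfl⟩ := Subgroup.mem_sup_of_normal_right.1 hg
  obtain ⟨a, ha⟩ := (mem_scalars_iff _).1 hc
  have hci : ((c⁻¹ : GL (Fin 3) F) : Matrix (Fin 3) (Fin 3) F) = (a : F)⁻¹ • (1 : Matrix (Fin 3) (Fin 3) F) := by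
    rw [Matrix.coe_units_inv, ha]
    exact Matrix.inv_eq_right_inv (by
      rw [Matrix.smul_mul, one_mul, smul_smul, mul_inv_cancel₀ a.ne_zero, one_smul])
  have h' := (h.conj hx).smul a.ne_zero
  rw [show ((x * c : GL (Fin 3) F) : Matrix (Fin 3) (Fin 3) F) *ᵥ u =
      (a : F) • ((x : Matrix (Fin 3) (Fin 3) F) *ᵥ u) by
        rw [Units.val_mul, ha, Matrix.mul_smul, mul_one, Matrix.smul_mulVec],
    show φ ᵥ* (((x * c)⁻¹ : GL (Fin 3) F) : Matrix (Fin 3) (Fin 3) F) =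
      (a : F)⁻¹ • (φ ᵥ* ((x⁻¹ : GL (Fin 3) F) : Matrix (Fin 3) (Fin 3) F)) by
        rw [_root_.mul_inv_rev, Units.val_mul, hci, Matrix.smul_mul, one_mul, Matrix.vecMul_smul]]
  exact h'

/-- Image of a homology under another one. -/
theorem Homology.conj_hom {μ : F} {u φ v ψ : Fin 3 → F} (h : Homology P μ u φ) (hv : Homology P μ v ψ)
    (hμ : μ ≠ 0) :
    Homology P μ (homMat v ψ μ *ᵥ u) (φ ᵥ* homMat v ψ μ⁻¹) ∧
      Homology P μ (homMat v ψ μ⁻¹ *ᵥ u) (φ ᵥ* homMat v ψ μ) := by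
  constructor
  · have := h.conj_sup (hv.hom_mem hμ)
    rwa [hom_inv hv.unit hμ, hom_val hv.unit hμ, hom_val hv.unit (inv_ne_zero hμ)] at this
  · have := h.conj_sup (Subgroup.inv_mem _ (hv.hom_mem hμ))
    rwa [inv_inv, hom_inv hv.unit hμ, hom_val hv.unit hμ, hom_val hv.unit (inv_ne_zero hμ)] at this

variable (p : ℕ) [Fact p.Prime] [CharP F p]
include p

/-- Two homologies commute, share their centre, or span a plane of type `S₄`. -/
theorem homology_cases (h2 : (2 : F) ≠ 0) (h : Hyp P) (hP : NoRoot P) {μ : F} (hμ0 : μ ≠ 0)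
    (hμ : μ ^ 2 ≠ 1) (hev : 2 ∣ orderOf μ) {u φ v ψ : Fin 3 → F} (hu : Homology P μ u φ)
    (hv : Homology P μ v ψ) :
    (φ ⬝ᵥ v = 0 ∧ ψ ⬝ᵥ u = 0) ∨ (∃ s : F, s ≠ 0 ∧ v = s • u ∧ ψ = s⁻¹ • φ) ∨
      ((φ ⬝ᵥ v) * (ψ ⬝ᵥ u) * 2 = 1 ∧ μ ^ 2 = -1) := by
  by_cases ha : φ ⬝ᵥ v = 0
  · exact Or.inl ⟨ha, orth_symm h2 hP hu.unit hv.unit hu.refl_mem hv.refl_mem ha⟩
  by_cases hb : ψ ⬝ᵥ u = 0
  · exact Or.inl ⟨orth_symm h2 hP hv.unit hu.unit hv.refl_mem hu.refl_mem hb, hb⟩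
  by_cases hc : (φ ⬝ᵥ v) * (ψ ⬝ᵥ u) = 1
  · refine Or.inr (Or.inl ⟨φ ⬝ᵥ v, ha, ?_⟩)
    obtain ⟨e1, e2⟩ := not_degenerate p h2 h hP hμ0 hμ hu (hv.smul (inv_ne_zero ha))
      (by rw [dotProduct_smul, smul_eq_mul, inv_mul_cancel₀ ha])
      (by rw [inv_inv, smul_dotProduct, smul_eq_mul, hc])
    rw [inv_inv] at e2
    exact ⟨(smul_inv_smul₀ ha v).symm.trans (congrArg _ e1), (inv_smul_smul₀ ha ψ).symm.trans (congrArg _ e2)⟩
  · exact Or.inr (Or.inr (pair_order_four p h2 h hP hμ0 hμ hev hu hv ha hb hc))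

/-- No triangle with non-coplanar centres. -/
theorem no_triangle (h2 : (2 : F) ≠ 0) (h : Hyp P) (hP : NoRoot P) {μ : F} (hμ0 : μ ≠ 0)
    (hμ : μ ^ 2 ≠ 1) (hev : 2 ∣ orderOf μ) (hμ2 : μ ^ 2 = -1) {u φ v ψ w χ : Fin 3 → F}
    (hu : Homology P μ u φ) (hv : Homology P μ v ψ) (hw : Homology P μ w χ)
    (huv : (φ ⬝ᵥ v) * (ψ ⬝ᵥ u) * 2 = 1) (huw : (φ ⬝ᵥ w) * (χ ⬝ᵥ u) * 2 = 1)
    (hvw : (ψ ⬝ᵥ w) * (χ ⬝ᵥ v) * 2 = 1) (hout : ¬ ∃ x y : F, w = x • u + y • v) : False := by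
  set a := φ ⬝ᵥ v
  set b := ψ ⬝ᵥ u
  set f := χ ⬝ᵥ u with hf
  set g := χ ⬝ᵥ v with hg
  set r := φ ⬝ᵥ w with hr
  set s := ψ ⬝ᵥ w with hs
  have hinv : μ⁻¹ = -μ := inv_eq_of_mul_eq_one_right (by linear_combination -hμ2)
  obtain ⟨h1, h3⟩ := hu.conj_hom hv hμ0
  have key : ∀ ν : F, ν ^ 2 = -1 → Homology P μ (homMat v ψ ν *ᵥ u) (φ ᵥ* homMat v ψ (-ν)) →
      ∃ X : F, (X = 0 ∨ X = 1) ∧ X = 2 - 2 * (b * g * r + a * s * f) + 2 * ν * (b * g * r - a * s * f) := by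
    intro ν hν hh
    have e1 : (φ ᵥ* homMat v ψ (-ν)) ⬝ᵥ w = r + (-ν - 1) * a * s := by
      rw [vecMul_homMat, add_dotProduct, smul_dotProduct, smul_eq_mul]
    have e2 : χ ⬝ᵥ (homMat v ψ ν *ᵥ u) = f + (ν - 1) * b * g := by
      rw [homMat_mulVec, dotProduct_add, dotProduct_smul, smul_eq_mul]
    refine ⟨2 * ((r + (-ν - 1) * a * s) * (f + (ν - 1) * b * g)), ?_, ?_⟩
    · rcases homology_cases p h2 h hP hμ0 hμ hev hh hw with ⟨c1, -⟩ | ⟨t, -, c1, -⟩ | ⟨c1, -⟩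
      · exact Or.inl (by rw [← e1, c1, zero_mul, mul_zero])
      · exact absurd ⟨t, t * ((ν - 1) * b), by rw [c1, homMat_mulVec, smul_add, smul_smul]⟩ hout
      · refine Or.inr ?_
        rw [e1, e2] at c1
        linear_combination c1
    · linear_combination huw + (-2 * a * b * g * s) * hν + (2 * g * s) * huv + hvw
  obtain ⟨X, hX, eX⟩ := key μ hμ2 (hinv ▸ h1)
  obtain ⟨Y, hY, eY⟩ := key (-μ) (by rw [neg_sq, hμ2]) (by rw [neg_neg, ← hinv]; exact h3)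
  set Q := b * g * r
  set R := a * s * f
  have hQR : Q * R * 8 = 1 := by
    linear_combination (4 * g * s * r * f) * huv + (2 * r * f) * hvw + huw
  have hsum : (4 - X - Y) ^ 2 + (X - Y) ^ 2 = 8 := by
    rw [eX, eY]
    linear_combination (16 * (Q - R) ^ 2) * hμ2 + 8 * hQR
  rcases hX with rfl | rfl <;> rcases hY with rfl | rfl
  · exact pow_ne_zero 3 h2 (by linear_combination hsum)
  · exact h2 (by linear_combination hsum)
  · exact h2 (by linear_combination hsum)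
  · exact pow_ne_zero 2 h2 (by linear_combination -hsum)

/-- The plane of an edge contains every centre joined to it. -/
theorem neighbour_mem (h2 : (2 : F) ≠ 0) (h : Hyp P) (hP : NoRoot P) {μ : F} (hμ0 : μ ≠ 0)
    (hμ : μ ^ 2 ≠ 1) (hev : 2 ∣ orderOf μ) (hμ2 : μ ^ 2 = -1) {u φ v ψ w χ : Fin 3 → F}
    (hu : Homology P μ u φ) (hv : Homology P μ v ψ) (hw : Homology P μ w χ)
    (huv : (φ ⬝ᵥ v) * (ψ ⬝ᵥ u) * 2 = 1) (huw : (φ ⬝ᵥ w) * (χ ⬝ᵥ u) * 2 = 1) :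
    ∃ x y : F, w = x • u + y • v := by
  by_contra hout
  rcases homology_cases p h2 h hP hμ0 hμ hev hv hw with ⟨c1, c2⟩ | ⟨t, -, rfl, -⟩ | ⟨c1, -⟩
  · -- a path: move the far end
    set a := φ ⬝ᵥ v with ha
    set b := ψ ⬝ᵥ u with hb
    have hab : a ≠ 0 ∧ b ≠ 0 := ⟨fun e => by simp [e] at huv, fun e => by simp [e] at huv⟩
    have hrf : φ ⬝ᵥ w ≠ 0 ∧ χ ⬝ᵥ u ≠ 0 := ⟨fun e => by simp [e] at huw, fun e => by simp [e] at huw⟩
    have hm : μ - 1 ≠ 0 := sub_ne_zero.2 fun e => hμ (by rw [e, one_pow])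
    have hm' : μ⁻¹ - 1 ≠ 0 := sub_ne_zero.2 fun e => hμ (by rw [inv_eq_one.1 e, one_pow])
    obtain ⟨hv', -⟩ := hv.conj_hom hu hμ0
    have e1 : (ψ ᵥ* homMat u φ μ⁻¹) ⬝ᵥ w = (μ⁻¹ - 1) * b * (φ ⬝ᵥ w) := by
      rw [vecMul_homMat, add_dotProduct, smul_dotProduct, smul_eq_mul, c1, zero_add]
    have e2 : χ ⬝ᵥ (homMat u φ μ *ᵥ v) = (μ - 1) * a * (χ ⬝ᵥ u) := by
      rw [homMat_mulVec, dotProduct_add, dotProduct_smul, smul_eq_mul, c2, zero_add]
    have e3 : φ ⬝ᵥ (homMat u φ μ *ᵥ v) = μ * a := by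
      rw [homMat_mulVec, dotProduct_add, dotProduct_smul, smul_eq_mul, hu.unit]; ring
    have e4 : (ψ ᵥ* homMat u φ μ⁻¹) ⬝ᵥ u = μ⁻¹ * b := by
      rw [vecMul_homMat, add_dotProduct, smul_dotProduct, smul_eq_mul, hu.unit, ← hb]; ring
    rcases homology_cases p h2 h hP hμ0 hμ hev hv' hw with ⟨d1, -⟩ | ⟨t, -, d1, -⟩ | ⟨d1, -⟩
    · rw [e1] at d1
      exact mul_ne_zero (mul_ne_zero hm' hab.2) hrf.1 d1
    · exact hout ⟨t * ((μ - 1) * a), t, by rw [d1, homMat_mulVec, smul_add, smul_smul, ← ha]; abel⟩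
    refine no_triangle p h2 h hP hμ0 hμ hev hμ2 hu hv' hw ?_ huw d1 ?_
    · rw [e3, e4]
      field_simp
      linear_combination huv
    · rintro ⟨x, y, hxy⟩
      refine hout ⟨x + y * ((μ - 1) * a), y, ?_⟩
      rw [hxy, homMat_mulVec, smul_add, smul_smul, add_smul, ← ha]
      abel
  · exact hout ⟨0, t, by rw [zero_smul, zero_add]⟩
  · exact no_triangle p h2 h hP hμ0 hμ hev hμ2 hu hv hw huv huw c1 hout

/-- Every centre of a homology conjugate to `u` lies in the plane of an edge. -/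
theorem centre_mem (h2 : (2 : F) ≠ 0) (h : Hyp P) (hP : NoRoot P) {μ : F} (hμ0 : μ ≠ 0)
    (hμ : μ ^ 2 ≠ 1) (hev : 2 ∣ orderOf μ) (hμ2 : μ ^ 2 = -1) {u φ v ψ : Fin 3 → F}
    (hu : Homology P μ u φ) (hv : Homology P μ v ψ) (huv : (φ ⬝ᵥ v) * (ψ ⬝ᵥ u) * 2 = 1)
    {g : GL (Fin 3) F} (hg : g ∈ P) :
    ∃ x y : F, (g : Matrix (Fin 3) (Fin 3) F) *ᵥ u = x • u + y • v := by
  set a := φ ⬝ᵥ v with ha
  set b := ψ ⬝ᵥ u with hb
  set u1 := (g : Matrix (Fin 3) (Fin 3) F) *ᵥ u with hu1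
  set v1 := (g : Matrix (Fin 3) (Fin 3) F) *ᵥ v with hv1
  set φ1 := φ ᵥ* ((g⁻¹ : GL (Fin 3) F) : Matrix (Fin 3) (Fin 3) F) with hφ1
  set ψ1 := ψ ᵥ* ((g⁻¹ : GL (Fin 3) F) : Matrix (Fin 3) (Fin 3) F) with hψ1
  have hu' : Homology P μ u1 φ1 := hu.conj hg
  have hv' : Homology P μ v1 ψ1 := hv.conj hg
  have e1 : φ1 ⬝ᵥ v1 = a := by rw [hφ1, hv1, ← dotProduct_mulVec, gl_inv_mulVec_mulVec]
  have e2 : ψ1 ⬝ᵥ u1 = b := by rw [hψ1, hu1, ← dotProduct_mulVec, gl_inv_mulVec_mulVec]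
  have huv' : (φ1 ⬝ᵥ v1) * (ψ1 ⬝ᵥ u1) * 2 = 1 := by rw [e1, e2, huv]
  have ha0 : a ≠ 0 := fun e => by simp [e] at huv
  by_contra hout
  have hvu : (ψ ⬝ᵥ u) * (φ ⬝ᵥ v) * 2 = 1 := by rw [← ha, ← hb, mul_comm b a, huv]
  have toU : ∀ {w χ : Fin 3 → F}, Homology P μ w χ → (∃ x y : F, w = x • u + y • v) ∨
      (φ ⬝ᵥ w = 0 ∧ χ ⬝ᵥ u = 0 ∧ ψ ⬝ᵥ w = 0 ∧ χ ⬝ᵥ v = 0) := by
    intro w χ hw
    rcases homology_cases p h2 h hP hμ0 hμ hev hu hw with ⟨c1, c2⟩ | ⟨t, -, rfl, -⟩ | ⟨c1, -⟩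
    · rcases homology_cases p h2 h hP hμ0 hμ hev hv hw with ⟨d1, d2⟩ | ⟨t, -, rfl, -⟩ | ⟨d1, -⟩
      · exact Or.inr ⟨c1, c2, d1, d2⟩
      · exact Or.inl ⟨0, t, by rw [zero_smul, zero_add]⟩
      · obtain ⟨x, y, e⟩ := neighbour_mem p h2 h hP hμ0 hμ hev hμ2 hv hu hw hvu d1
        exact Or.inl ⟨y, x, by rw [e, add_comm]⟩
    · exact Or.inl ⟨t, 0, by rw [zero_smul, add_zero]⟩
    · exact Or.inl (neighbour_mem p h2 h hP hμ0 hμ hev hμ2 hu hv hw huv c1)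
  obtain ⟨c1, c2, c3, c4⟩ := (toU hu').resolve_left hout
  rcases toU hv' with ⟨x, y, e⟩ | ⟨d1, -, d3, -⟩
  · refine ha0 ?_
    rw [← e1, e, dotProduct_add, dotProduct_smul, dotProduct_smul, c2, c4, smul_zero, smul_zero, add_zero]
  -- two independent common zeros of `φ`, `ψ`
  let T : (Fin 3 → F) →ₗ[F] (Fin 2 → F) := Matrix.toLin' (Matrix.of ![φ, ψ])
  have hT : ∀ x, T x = ![φ ⬝ᵥ x, ψ ⬝ᵥ x] := fun x => by
    ext i; fin_cases i <;> simp [T, Matrix.mulVec]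
  have hsurj : Function.Surjective T := by
    intro y
    refine ⟨(2 * (y 0 - a * y 1)) • u + (2 * (y 1 - b * y 0)) • v, ?_⟩
    rw [hT]
    ext i
    fin_cases i <;>
      simp [dotProduct_add, dotProduct_smul, hu.unit, hv.unit, ← ha, ← hb]
    · linear_combination (-y 0) * huv
    · linear_combination (-y 1) * huv
  have hker : Module.finrank F (LinearMap.ker T) = 1 := by
    have := T.finrank_range_add_finrank_ker
    rw [LinearMap.range_eq_top.2 hsurj, finrank_top, Module.finrank_fintype_fun_eq_card, Fintype.card_fin,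
      Module.finrank_fintype_fun_eq_card, Fintype.card_fin] at this
    omega
  have hu1ne : u1 ≠ 0 := fun e => by
    have := hu'.unit; rw [e, dotProduct_zero] at this; exact zero_ne_one this
  have m1 : u1 ∈ LinearMap.ker T := by
    rw [LinearMap.mem_ker, hT, c1, c3]; ext i; fin_cases i <;> simp
  have m2 : v1 ∈ LinearMap.ker T := by
    rw [LinearMap.mem_ker, hT, d1, d3]; ext i; fin_cases i <;> simp
  obtain ⟨t, ht⟩ := (finrank_eq_one_iff_of_nonzero' (⟨u1, m1⟩ : LinearMap.ker T)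
    (fun e => hu1ne (congrArg Subtype.val e))).1 hker ⟨v1, m2⟩
  have ht' : t • u1 = v1 := congrArg Subtype.val ht
  have : t * b = 1 := by rw [← e2, ← hv'.unit, ← ht', dotProduct_smul, smul_eq_mul]
  have h4 : t = a := by rw [← e1, ← ht', dotProduct_smul, hu'.unit, smul_eq_mul, mul_one]
  rw [h4] at this
  exact one_ne_zero (α := F) (by linear_combination huv - 2 * this)

/-- Homologies commute. -/
theorem not_edge (h2 : (2 : F) ≠ 0) (h : Hyp P) (hP : NoRoot P) {μ : F} (hμ0 : μ ≠ 0)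
    (hμ : μ ^ 2 ≠ 1) (hev : 2 ∣ orderOf μ) (hμ2 : μ ^ 2 = -1) {u φ v ψ : Fin 3 → F}
    (hu : Homology P μ u φ) (hv : Homology P μ v ψ) (huv : (φ ⬝ᵥ v) * (ψ ⬝ᵥ u) * 2 = 1) : False := by
  set W : Submodule F (Fin 3 → F) :=
    Submodule.span F (Set.range fun g : P => ((g : GL (Fin 3) F) : Matrix (Fin 3) (Fin 3) F) *ᵥ u) with hW
  have hle : W ≤ Submodule.span F (Set.range ![u, v]) := by
    rw [hW, Submodule.span_le]
    rintro _ ⟨g, rfl⟩
    obtain ⟨x, y, e⟩ := centre_mem p h2 h hP hμ0 hμ hev hμ2 hu hv huv g.2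
    simp only [SetLike.mem_coe]
    rw [e]
    exact add_mem (Submodule.smul_mem _ _ (Submodule.subset_span ⟨0, rfl⟩))
      (Submodule.smul_mem _ _ (Submodule.subset_span ⟨1, rfl⟩))
  have hWtop : W = ⊤ := by
    refine eq_top_of_invariant h.irreducible W (fun g hg => ?_) ?_
    · rw [hW, Submodule.map_span_le]
      rintro _ ⟨k, rfl⟩
      refine Submodule.subset_span ⟨⟨g, hg⟩ * k, ?_⟩
      simp [Matrix.mulVec_mulVec]
    · intro e
      have : u ∈ W := Submodule.subset_span ⟨1, by simp⟩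
      rw [e, Submodule.mem_bot] at this
      have hone := hu.unit
      rw [this, dotProduct_zero] at hone
      exact zero_ne_one hone
  have h3 := Submodule.finrank_mono hle
  rw [hWtop, finrank_top, Module.finrank_fintype_fun_eq_card, Fintype.card_fin] at h3
  have h4 : Module.finrank F (Submodule.span F (Set.range ![u, v])) ≤ 2 := by
    refine (finrank_range_le_card _).trans ?_
    simp
  omega

/-- A homology of ratio different from `±1` is impossible. -/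
theorem Homology.false_of_ratio (h2 : (2 : F) ≠ 0) (h : Hyp P) (hP : NoRoot P) {μ : F} (hμ0 : μ ≠ 0)
    (hμ : μ ^ 2 ≠ 1) (hev : 2 ∣ orderOf μ) {u φ : Fin 3 → F} (hu : Homology P μ u φ) : False := by
  set S : Set (GL (Fin 3) F) := {x | ∃ v ψ : Fin 3 → F, Homology P μ v ψ ∧ x = refl v ψ}
  set N := Subgroup.closure S
  have hcomm : ∀ x ∈ S, ∀ y ∈ S, x * y = y * x := by
    rintro _ ⟨v, ψ, hv, rfl⟩ _ ⟨w, χ, hw, rfl⟩
    rcases homology_cases p h2 h hP hμ0 hμ hev hv hw with ⟨c1, c2⟩ | ⟨t, ht, rfl, rfl⟩ | ⟨c1, c2⟩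
    · exact refl_commute hv.unit hw.unit c1 c2
    · have : refl (t • v) (t⁻¹ • ψ) = refl v ψ := by
        refine Units.ext ?_
        rw [refl_val hw.unit, refl_val hv.unit, smul_vecMulVec, vecMulVec_smul, smul_inv_smul₀ ht]
      rw [this]
    · exact (not_edge p h2 h hP hμ0 hμ hev c2 hv hw c1).elim
  have hNP : N ≤ P := (Subgroup.closure_le _).2 (by rintro _ ⟨v, ψ, hv, rfl⟩; exact hv.refl_mem)
  have hnorm : ∀ g ∈ P, ∀ x ∈ N, g * x * g⁻¹ ∈ N := by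
    intro g hg x hx
    have : N ≤ N.comap (MulAut.conj g).toMonoidHom := by
      refine (Subgroup.closure_le _).2 ?_
      rintro _ ⟨v, ψ, hv, rfl⟩
      exact Subgroup.subset_closure ⟨_, _, hv.conj hg, (conj_refl g hv.unit).2⟩
    exact this hx
  have hns : ¬ N ≤ scalars (Fin 3) F := by
    intro hle
    obtain ⟨c, hc⟩ := (mem_scalars_iff _).1 (hle (Subgroup.subset_closure ⟨u, φ, hu, rfl⟩))
    obtain ⟨e, he0, he, -⟩ := exists_common_zero φ φ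
    have q1 := congrArg (fun M : Matrix (Fin 3) (Fin 3) F => φ ⬝ᵥ (M *ᵥ u)) hc
    have q2 := congrArg (fun M : Matrix (Fin 3) (Fin 3) F => M *ᵥ e) hc
    simp only [refl_mulVec hu.unit, hu.unit, Matrix.smul_mulVec, Matrix.one_mulVec, dotProduct_sub,
      dotProduct_smul, smul_eq_mul, mul_one] at q1 q2
    rw [he, mul_zero, zero_smul, zero_sub] at q2
    obtain ⟨i, hi⟩ := Function.ne_iff.1 he0
    have q3 := congrFun q2 i
    simp only [Pi.neg_apply, Pi.smul_apply, smul_eq_mul] at q3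
    exact h2 (mul_right_cancel₀ hi (by linear_combination (e i) * q1 - q3))
  refine h.not_comm ?_
  rw [← h.normal_eq hNP hnorm hns]
  intro x hx y hy
  have := Subgroup.closure_le_centralizer_centralizer S
  have hy' : y ∈ Subgroup.centralizer S := by
    refine (Subgroup.closure_le _).2 ?_ hy
    intro z hz
    exact Subgroup.mem_centralizer_iff.2 fun w hw => hcomm w hw z hz
  exact (Subgroup.mem_centralizer_iff.1 (this hx) y hy').symm

omit p in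
theorem homMat_neg_one {u φ : Fin 3 → F} (h : φ ⬝ᵥ u = 1) :
    homMat u φ (-1) = -(refl u φ : Matrix (Fin 3) (Fin 3) F) := by
  rw [homMat, refl_val h, neg_sub, show (-1 - 1 : F) = -2 by ring, neg_smul, sub_eq_add_neg]

omit p in
theorem homMat_mul_refl {u φ : Fin 3 → F} (h : φ ⬝ᵥ u = 1) (μ : F) :
    homMat u φ μ * (refl u φ : Matrix (Fin 3) (Fin 3) F) = -homMat u φ (-μ) := by
  rw [eq_neg_iff_add_eq_zero, ← neg_eq_iff_eq_neg.2 (homMat_neg_one h), Matrix.mul_neg, homMat_mul h,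
    mul_neg_one, neg_add_cancel]

/-- An element commuting with a reflection and scalar on its axis is scalar up to that reflection. -/
theorem homology_trivial (h2 : (2 : F) ≠ 0) (h : Hyp P) (hP : NoRoot P) {u φ : Fin 3 → F}
    (hu : φ ⬝ᵥ u = 1) (hr : refl u φ ∈ P) {k : GL (Fin 3) F} (hk : k ∈ P)
    (hc : k * refl u φ = refl u φ * k) {l : F}
    (hl : ∀ x, φ ⬝ᵥ x = 0 → (k : Matrix (Fin 3) (Fin 3) F) *ᵥ x = l • x) :
    k ∈ scalars (Fin 3) F ∨ k * refl u φ ∈ scalars (Fin 3) F := by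
  obtain ⟨a, ha0, hku, -⟩ := eigen_of_commute_refl h2 hu hc
  obtain ⟨e, he0, he, -⟩ := exists_common_zero φ φ
  have hl0 : l ≠ 0 := fun e' => gl_mulVec_ne_zero k he0 (by rw [hl e he, e', zero_smul])
  have hval : (k : Matrix (Fin 3) (Fin 3) F) = l • homMat u φ (a / l) := by
    refine Matrix.ext_of_mulVec_single fun j => ?_
    set x : Fin 3 → F := Pi.single j 1
    have hx := hl (x - (φ ⬝ᵥ x) • u) (by rw [dotProduct_sub, dotProduct_smul, hu, smul_eq_mul, mul_one, sub_self])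
    rw [Matrix.mulVec_sub, Matrix.mulVec_smul, hku, sub_eq_iff_eq_add] at hx
    rw [Matrix.smul_mulVec, homMat_mulVec, hx, smul_sub, smul_smul, smul_smul, smul_add, smul_smul,
      show l * ((a / l - 1) * (φ ⬝ᵥ x)) = (φ ⬝ᵥ x) * a - l * (φ ⬝ᵥ x) by field_simp, sub_smul]
    abel
  set μ := a / l with hμ
  have hμ0 : μ ≠ 0 := div_ne_zero ha0 hl0
  rcases eq_or_ne μ 1 with h1 | h1
  · refine Or.inl ((mem_scalars_iff _).2 ⟨Units.mk0 l hl0, ?_⟩)
    rw [hval, h1, homMat_one, Units.val_mk0]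
  rcases eq_or_ne μ (-1) with h1' | h1'
  · refine Or.inr ((mem_scalars_iff _).2 ⟨-Units.mk0 l hl0, ?_⟩)
    rw [Units.val_mul, hval, Matrix.smul_mul, homMat_mul_refl hu, h1', neg_neg, homMat_one, Units.val_neg,
      Units.val_mk0, smul_neg, neg_smul]
  have hμ2 : μ ^ 2 ≠ 1 := fun e' => (sq_eq_one_iff.1 e').elim h1 h1'
  exfalso
  by_cases hev : 2 ∣ orderOf μ
  · exact Homology.false_of_ratio p h2 h hP hμ0 hμ2 hev ⟨hu, hr, k, hk, l, hl0, hval⟩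
  · refine Homology.false_of_ratio p h2 h hP (neg_ne_zero.2 hμ0) (by rwa [neg_sq]) ?_
      ⟨hu, hr, k * refl u φ, P.mul_mem hk hr, -l, neg_ne_zero.2 hl0, by
        rw [Units.val_mul, hval, Matrix.smul_mul, homMat_mul_refl hu, smul_neg, neg_smul]⟩
    by_contra hodd
    rw [Nat.two_dvd_ne_zero, ← Nat.odd_iff] at hodd hev
    have q1 : μ ^ (orderOf μ * orderOf (-μ)) = 1 := by rw [pow_mul, pow_orderOf_eq_one, one_pow]
    have q2 : (-μ) ^ (orderOf μ * orderOf (-μ)) = 1 := by rw [mul_comm, pow_mul, pow_orderOf_eq_one, one_pow]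
    rw [(hev.mul hodd).neg_pow, q1] at q2
    exact h2 (by linear_combination -q2)

end CfsgLib.Mitchell
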