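import Cfsg.Agent.Lib.PSL2.Dickson
import Cfsg.Agent.Lib.PSL2.AltFiveDescent

/-!
Groups of order prime to the characteristic in `PGL₂`.
-/

set_option autoImplicit false
set_option linter.unusedSectionVars false

namespace CfsgLib.Mitchell

open OnePoint Matrix MulAction CfsgLib.PSL2 CfsgLib.PermSmall.Moebius

/-- The five types of finite subgroups of `PGL₂` of order prime to the characteristic. -/
def TwoShape (H : Type*) [Group H] : Prop :=
  IsCyclic H ∨ (∃ n, 0 < n ∧ Nonempty (H ≃* DihedralGroup n)) ∨ Nonempty (H ≃* alternatingGroup (Fin 4)) ∨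
    Nonempty (H ≃* Equiv.Perm (Fin 4)) ∨ Nonempty (H ≃* alternatingGroup (Fin 5))

theorem twoShape_of_pgl {F : Type*} [Field F] [Fintype F] (p : ℕ) [Fact p.Prime] [CharP F p]
    {H : Type*} [Group H] [Finite H] (φ : H →* ProjGenLinGroup (Fin 2) F) (hφ : Function.Injective φ)
    (hp : ∀ g : H, g ^ p = 1 → g = 1) : TwoShape H := by
  classical
  rcases subsingleton_or_nontrivial H with hH | hH
  · exact Or.inl isCyclic_of_subsingleton
  let ι : F →+* AlgebraicClosure F := algebraMap F _
  have : CharP (AlgebraicClosure F) p := charP_of_injective_ringHom ι.injective p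
  obtain ⟨Φ, hΦ⟩ := exists_frob (F := F) (L := AlgebraicClosure F) p
  let f : H →* Equiv.Perm (OnePoint (AlgebraicClosure F)) := (lineHom ι).comp φ
  have hf : Function.Injective f := (lineHom_injective ι).comp hφ
  have hA := isLineAction f p hf fun g => lineHom_mem_range ι (φ g)
  rcases classify_coprime hA hp with ⟨a, b, -, -, hcyc⟩ | ⟨a, b, -, -, -, hd⟩ | h | h | h
  · exact Or.inl hcyc
  · exact Or.inr (Or.inl ⟨_, Nat.card_pos, hd⟩)
  · exact Or.inr (Or.inr (Or.inl h))
  · exact Or.inr (Or.inr (Or.inr (Or.inl h)))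
  · exact Or.inr (Or.inr (Or.inr (Or.inr h)))

theorem perm_four_spectrum : ∀ a : Equiv.Perm (Fin 4), a ^ 4 = 1 ∨ a ^ 3 = 1 := by decide +kernel

theorem perm_four_pairs : ∀ a b : Equiv.Perm (Fin 4), a ^ 4 = 1 → a ^ 2 ≠ 1 → b ^ 4 = 1 → b ^ 2 ≠ 1 →
    a * b ≠ b * a → (a * b) ^ 3 = 1 ∧ (a * b⁻¹) ^ 3 = 1 := by decide +kernel

theorem perm_four_even : ∀ a : Equiv.Perm (Fin 4), Equiv.Perm.sign a = 1 → a ^ 2 = 1 ∨ a ^ 3 = 1 := by
  decide +kernel

/-- Non-commuting elements of equal even order at least four: the order is four and they generate `S₄`. -/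
theorem TwoShape.pair {H : Type*} [Group H] (hH : TwoShape H) {a b : H} {n : ℕ} (ha : orderOf a = n)
    (hb : orderOf b = n) (hev : 2 ∣ n) (h4 : 4 ≤ n) (hne : a * b ≠ b * a) :
    n = 4 ∧ (a * b) ^ 3 = 1 ∧ (a * b⁻¹) ^ 3 = 1 := by
  have hsmall : ∀ {k : ℕ} {x : H}, x ^ k = 1 → orderOf x = n → 0 < k → n ≤ k := fun hx hox hk =>
    hox ▸ Nat.le_of_dvd hk (orderOf_dvd_of_pow_eq_one hx)
  rcases hH with hc | ⟨m, -, ⟨e⟩⟩ | ⟨⟨e⟩⟩ | ⟨⟨e⟩⟩ | ⟨⟨e⟩⟩
  · have := hc.isMulCommutative
    exact absurd (this.is_comm.comm a b) hne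
  · exfalso
    have hrot : ∀ x : H, orderOf x = n → ∃ i, e x = DihedralGroup.r i := by
      intro x hx
      rcases hx' : e x with i | i
      · exact ⟨i, rfl⟩
      · exfalso
        have : x ^ 2 = 1 := e.injective (by rw [map_pow, map_one, hx', sq, DihedralGroup.sr_mul_self])
        have := hsmall this hx two_pos
        omega
    obtain ⟨i, hi⟩ := hrot a ha
    obtain ⟨j, hj⟩ := hrot b hb
    exact hne (e.injective (by rw [map_mul, map_mul, hi, hj, DihedralGroup.r_mul_r, DihedralGroup.r_mul_r, add_comm]))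
  · exfalso
    rcases perm_four_even (e a).1 (Equiv.Perm.mem_alternatingGroup.1 (e a).2) with h | h
    · have h' : a ^ 2 = 1 := e.injective (by rw [map_pow, map_one]; exact Subtype.ext h)
      have := hsmall h' ha two_pos
      omega
    · have h' : a ^ 3 = 1 := e.injective (by rw [map_pow, map_one]; exact Subtype.ext h)
      have := hsmall h' ha three_pos
      omega
  · have hord : ∀ x : H, orderOf x = n → (e x) ^ 4 = 1 ∧ (e x) ^ 2 ≠ 1 := by
      intro x hx
      have h2 : (e x) ^ 2 ≠ 1 := fun h => by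
        have := hsmall (e.injective (by rw [map_pow, map_one]; exact h) : x ^ 2 = 1) hx two_pos
        omega
      rcases perm_four_spectrum (e x) with h | h
      · exact ⟨h, h2⟩
      · exfalso
        have := hsmall (e.injective (by rw [map_pow, map_one]; exact h) : x ^ 3 = 1) hx three_pos
        omega
    obtain ⟨ha4, ha2⟩ := hord a ha
    obtain ⟨hb4, hb2⟩ := hord b hb
    obtain ⟨h1, h2⟩ := perm_four_pairs _ _ ha4 ha2 hb4 hb2 (fun h => hne (e.injective (by rw [map_mul, map_mul, h])))
    refine ⟨?_, e.injective (by rw [map_pow, map_mul, map_one, h1]),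
      e.injective (by rw [map_pow, map_mul, map_inv, map_one, h2])⟩
    have := hsmall (e.injective (by rw [map_pow, map_one]; exact ha4) : a ^ 4 = 1) ha four_pos
    omega
  · exfalso
    rcases alt_five_spectrum (e a) with h | h | h
    all_goals have h' := e.injective (show e (a ^ _) = e 1 by rw [map_pow, map_one]; exact h)
    · have := hsmall h' ha two_pos
      omega
    · have := hsmall h' ha three_pos
      omega
    · have hn : n ∣ 5 := ha ▸ orderOf_dvd_of_pow_eq_one h'
      have := (Nat.dvd_trans hev hn)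
      omega

end CfsgLib.Mitchell
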