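import Cfsg.Agent.Lib.Mitchell.Reflection
import Cfsg.Agent.Lib.Mitchell.PglShape

/-!
Two homologies in a group without transvections.
-/

set_option autoImplicit false
set_option linter.unusedSectionVars false

namespace CfsgLib.Mitchell

open Cfsg Cfsg.Geo Matrix CfsgLib.Geo.Asch CfsgLib.GeomClasses
open scoped MatrixGroups

variable {F : Type*} [Field F] {P : Subgroup (GL (Fin 3) F)}

/-- The homology with centre `u`, axis `ker φ` and ratio `μ`. -/
def homMat (u φ : Fin 3 → F) (μ : F) : Matrix (Fin 3) (Fin 3) F := 1 + (μ - 1) • vecMulVec u φ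

theorem homMat_mulVec (u φ x : Fin 3 → F) (μ : F) :
    homMat u φ μ *ᵥ x = x + ((μ - 1) * (φ ⬝ᵥ x)) • u := by
  rw [homMat, Matrix.add_mulVec, Matrix.one_mulVec, Matrix.smul_mulVec, vecMulVec_mulVec, op_smul_eq_smul,
    smul_smul]

theorem vecMul_homMat (u φ χ : Fin 3 → F) (μ : F) :
    χ ᵥ* homMat u φ μ = χ + ((μ - 1) * (χ ⬝ᵥ u)) • φ := by
  rw [homMat, Matrix.vecMul_add, Matrix.vecMul_one, Matrix.vecMul_smul, vecMul_vecMulVec, smul_smul]

theorem homMat_mul {u φ : Fin 3 → F} (h : φ ⬝ᵥ u = 1) (μ ν : F) :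
    homMat u φ μ * homMat u φ ν = homMat u φ (μ * ν) := by
  simp only [homMat, add_mul, mul_add, one_mul, mul_one, Matrix.smul_mul, Matrix.mul_smul,
    vecMulVec_mul_vecMulVec, h, one_smul, smul_smul]
  ext i j
  simp only [Matrix.add_apply, Matrix.smul_apply, smul_eq_mul]
  ring

theorem homMat_one (u φ : Fin 3 → F) : homMat u φ 1 = 1 := by rw [homMat, sub_self, zero_smul, add_zero]

/-- The homology as an invertible matrix. -/
noncomputable def hom (u φ : Fin 3 → F) (μ : F) : GL (Fin 3) F := by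
  classical
  exact if h : φ ⬝ᵥ u = 1 ∧ μ ≠ 0 then
    ⟨homMat u φ μ, homMat u φ μ⁻¹, by rw [homMat_mul h.1, mul_inv_cancel₀ h.2, homMat_one],
      by rw [homMat_mul h.1, inv_mul_cancel₀ h.2, homMat_one]⟩
  else 1

theorem hom_val {u φ : Fin 3 → F} {μ : F} (h : φ ⬝ᵥ u = 1) (hμ : μ ≠ 0) :
    (hom u φ μ : Matrix (Fin 3) (Fin 3) F) = homMat u φ μ := by
  rw [hom, dif_pos ⟨h, hμ⟩]

theorem hom_inv {u φ : Fin 3 → F} {μ : F} (h : φ ⬝ᵥ u = 1) (hμ : μ ≠ 0) :
    (hom u φ μ)⁻¹ = hom u φ μ⁻¹ :=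
  inv_eq_of_mul_eq_one_right (Units.ext (by
    rw [Units.val_mul, hom_val h hμ, hom_val h (inv_ne_zero hμ), homMat_mul h, mul_inv_cancel₀ hμ,
      homMat_one, Units.val_one]))

theorem hom_pow {u φ : Fin 3 → F} {μ : F} (h : φ ⬝ᵥ u = 1) (hμ : μ ≠ 0) (n : ℕ) :
    hom u φ μ ^ n = hom u φ (μ ^ n) := by
  induction n with
  | zero => exact Units.ext (by rw [pow_zero, pow_zero, hom_val h one_ne_zero, homMat_one, Units.val_one])
  | succ n ih =>
    refine Units.ext ?_
    rw [pow_succ, ih, Units.val_mul, hom_val h (pow_ne_zero _ hμ), hom_val h hμ, homMat_mul h, ← pow_succ,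
      hom_val h (pow_ne_zero _ hμ)]

variable [Fintype F]

/-- Transvections in `P` times scalars already lie in `P`. -/
theorem NoRoot.sup (p : ℕ) [Fact p.Prime] [CharP F p] (hP : NoRoot P) (h : Hyp P) :
    NoRoot (P ⊔ scalars (Fin 3) F) := by
  intro u φ hr
  have : (scalars (Fin 3) F).Normal := ⟨fun c hc g => by
    rw [← scalars_comm hc g, mul_inv_cancel_right]; exact hc⟩
  obtain ⟨x, hx, c, hc, e⟩ := Subgroup.mem_sup_of_normal_right.1 hr.2
  suffices hcP : c ∈ P by exact hP u φ ⟨hr.1, e ▸ P.mul_mem hx hcP⟩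
  obtain ⟨a, ha⟩ := (mem_scalars_iff _).1 hc
  have ha3 : (a : F) ^ 3 = 1 := by
    have h1 := congrArg (fun g : GL (Fin 3) F => (g : Matrix (Fin 3) (Fin 3) F).det) e
    simp only [Units.val_mul, Matrix.det_mul, h.det_eq_one hx, one_mul, ha, Matrix.det_smul,
      Matrix.det_one, mul_one, Fintype.card_fin] at h1
    rw [h1, tv_val hr.1, vecMulVec_eq (Fin 1), Matrix.det_one_add_replicateCol_mul_replicateRow, hr.1,
      add_zero]
  have htp : tv u φ ^ p = 1 := by
    refine Units.ext ?_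
    rw [Units.val_pow_eq_pow_val, tv_val hr.1, add_pow_char_of_commute _ (Commute.one_left _), one_pow,
      Units.val_one]
    obtain ⟨n, hn⟩ := Nat.exists_eq_add_of_le (Fact.out : p.Prime).two_le
    rw [hn, pow_add, sq, vecMulVec_mul_vecMulVec, hr.1, zero_smul]
    simp
  have hcp : c ^ p ∈ P := by
    have h1 : x ^ p * c ^ p = 1 := by
      rw [← (show Commute x c from (scalars_comm hc x).symm).mul_pow]
      exact e ▸ htp
    rw [← inv_eq_of_mul_eq_one_right h1]
    exact P.inv_mem (P.pow_mem hx p)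
  have hc3 : c ^ 3 = 1 := Units.ext (by
    rw [Units.val_pow_eq_pow_val, ha, smul_pow, one_pow, ha3, one_smul, Units.val_one])
  by_cases h3 : p = 3
  · subst h3
    have : (a : F) = 1 := frobenius_inj F 3 (by simpa [frobenius_def] using ha3)
    rw [show c = 1 from Units.ext (by rw [ha, this, one_smul, Units.val_one])]
    exact P.one_mem
  · have hco : Nat.Coprime p 3 := (Nat.coprime_primes (Fact.out : p.Prime) Nat.prime_three).2 h3
    have hcop : Nat.Coprime p (orderOf c) := hco.coprime_dvd_right (orderOf_dvd_of_pow_eq_one hc3)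
    obtain ⟨j, hj⟩ := exists_pow_eq_self_of_coprime hcop
    exact hj ▸ P.pow_mem hcp j

/-- A homology of ratio `μ` belonging to `P` modulo scalars, with its reflection. -/
structure Homology (P : Subgroup (GL (Fin 3) F)) (μ : F) (u φ : Fin 3 → F) : Prop where
  unit : φ ⬝ᵥ u = 1
  refl_mem : refl u φ ∈ P
  mem : ∃ g ∈ P, ∃ l : F, l ≠ 0 ∧ (g : Matrix (Fin 3) (Fin 3) F) = l • homMat u φ μ

theorem Homology.conj {μ : F} {u φ : Fin 3 → F} (h : Homology P μ u φ) {g : GL (Fin 3) F} (hg : g ∈ P) :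
    Homology P μ ((g : Matrix (Fin 3) (Fin 3) F) *ᵥ u)
      (φ ᵥ* ((g⁻¹ : GL (Fin 3) F) : Matrix (Fin 3) (Fin 3) F)) := by
  obtain ⟨h1, h2⟩ := conj_refl g h.unit
  obtain ⟨k, hk, l, hl, e⟩ := h.mem
  refine ⟨h1, h2 ▸ P.mul_mem (P.mul_mem hg h.refl_mem) (P.inv_mem hg), g * k * g⁻¹,
    P.mul_mem (P.mul_mem hg hk) (P.inv_mem hg), l, hl, ?_⟩
  rw [Units.val_mul, Units.val_mul, e, Matrix.mul_smul, Matrix.smul_mul, homMat, homMat, Matrix.mul_add,
    Matrix.add_mul, mul_one, ← Units.val_mul, mul_inv_cancel, Units.val_one, Matrix.mul_smul,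
    Matrix.smul_mul, mul_vecMulVec, vecMulVec_mul]

theorem Homology.smul {μ : F} {u φ : Fin 3 → F} (h : Homology P μ u φ) {s : F} (hs : s ≠ 0) :
    Homology P μ (s • u) (s⁻¹ • φ) := by
  have hv : vecMulVec (s • u) (s⁻¹ • φ) = vecMulVec u φ := by
    rw [smul_vecMulVec, vecMulVec_smul, smul_smul, mul_inv_cancel₀ hs, one_smul]
  have h1 : (s⁻¹ • φ) ⬝ᵥ (s • u) = 1 := by
    rw [smul_dotProduct, dotProduct_smul, h.unit, smul_eq_mul, smul_eq_mul, mul_one, inv_mul_cancel₀ hs]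
  refine ⟨h1, ?_, ?_⟩
  · rw [show refl (s • u) (s⁻¹ • φ) = refl u φ from Units.ext (by rw [refl_val h1, refl_val h.unit, hv])]
    exact h.refl_mem
  · rw [homMat, hv]; exact h.mem

theorem Homology.hom_mem {μ : F} {u φ : Fin 3 → F} (h : Homology P μ u φ) (hμ : μ ≠ 0) :
    hom u φ μ ∈ P ⊔ scalars (Fin 3) F := by
  obtain ⟨g, hg, l, hl, e⟩ := h.mem
  let c : GL (Fin 3) F := ⟨l⁻¹ • 1, l • 1, by simp [smul_smul, hl], by simp [smul_smul, hl]⟩
  have hc : c ∈ scalars (Fin 3) F := (mem_scalars_iff _).2 ⟨(Units.mk0 l hl)⁻¹, by simp [c]⟩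
  have : hom u φ μ = g * c := Units.ext (by
    rw [hom_val h.unit hμ, Units.val_mul, e]
    simp [c, smul_smul, hl])
  rw [this]
  exact Subgroup.mul_mem _ (Subgroup.mem_sup_left hg) (Subgroup.mem_sup_right hc)

variable (p : ℕ) [Fact p.Prime] [CharP F p]
include p

/-- Degenerate pairs give transvections. -/
theorem not_degenerate (h2 : (2 : F) ≠ 0) (h : Hyp P) (hP : NoRoot P) {μ : F} (hμ0 : μ ≠ 0)
    (hμ : μ ^ 2 ≠ 1) {u φ v ψ : Fin 3 → F} (hu : Homology P μ u φ) (hv : Homology P μ v ψ)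
    (hvu : φ ⬝ᵥ v = 1) (huv : ψ ⬝ᵥ u = 1) : v = u ∧ ψ = φ := by
  by_cases he : v = u
  · subst he
    exact ⟨rfl, refl_unique_centre h2 hP hv.unit hu.unit hv.refl_mem hu.refl_mem⟩
  exfalso
  set m := μ - 1 with hm
  set m' := μ⁻¹ - 1 with hm'
  set e := v - u with hedef
  set α := ψ - φ with hα
  have he0 : e ≠ 0 := sub_ne_zero.2 he
  have hφe : φ ⬝ᵥ e = 0 := by rw [hedef, dotProduct_sub, hvu, hu.unit, sub_self]
  have hψe : ψ ⬝ᵥ e = 0 := by rw [hedef, dotProduct_sub, hv.unit, huv, sub_self]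
  have hαu : α ⬝ᵥ u = 0 := by rw [hα, sub_dotProduct, huv, hu.unit, sub_self]
  have hαe : α ⬝ᵥ e = 0 := by rw [hα, sub_dotProduct, hψe, hφe, sub_self]
  set β := ψ + m' • φ with hβ
  set β' := ψ + (m' + m' / μ) • φ with hβ'
  have hβu : β ⬝ᵥ u = 1 + m' := by simp [hβ, add_dotProduct, smul_dotProduct, huv, hu.unit]
  have hβ'u : β' ⬝ᵥ u = 1 + (m' + m' / μ) := by simp [hβ', add_dotProduct, smul_dotProduct, huv, hu.unit]
  have hβe : β ⬝ᵥ e = 0 := by simp [hβ, add_dotProduct, smul_dotProduct, hψe, hφe]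
  have hβ'e : β' ⬝ᵥ e = 0 := by simp [hβ', add_dotProduct, smul_dotProduct, hψe, hφe]
  set H1 := hom u φ μ
  set H2 := hom v ψ μ
  set x := H2 * H1⁻¹ with hx
  set y := H1 * x * H1⁻¹ with hy
  have hxPS : x ∈ P ⊔ scalars (Fin 3) F :=
    Subgroup.mul_mem _ (hv.hom_mem hμ0) (Subgroup.inv_mem _ (hu.hom_mem hμ0))
  have hyPS : y ∈ P ⊔ scalars (Fin 3) F :=
    Subgroup.mul_mem _ (Subgroup.mul_mem _ (hu.hom_mem hμ0) hxPS) (Subgroup.inv_mem _ (hu.hom_mem hμ0))
  set X : Matrix (Fin 3) (Fin 3) F := m • vecMulVec u α + m • vecMulVec e β with hX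
  set Y : Matrix (Fin 3) (Fin 3) F := (μ * m) • vecMulVec u α + m • vecMulVec e β' with hY
  have hxval : (x : Matrix (Fin 3) (Fin 3) F) = 1 + X := by
    rw [hx, hom_inv hu.unit hμ0, Units.val_mul, hom_val hv.unit hμ0, hom_val hu.unit (inv_ne_zero hμ0)]
    simp only [homMat, hX, ← hm, ← hm', add_mul, mul_add, one_mul, mul_one, Matrix.smul_mul, Matrix.mul_smul,
      vecMulVec_mul_vecMulVec, huv, one_smul, smul_smul]
    ext i j
    simp only [Matrix.add_apply, Matrix.smul_apply, smul_eq_mul, vecMulVec_apply, hα, hβ, hedef,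
      Pi.sub_apply, Pi.add_apply, Pi.smul_apply]
    have hrel : m * m' = -(m + m') := by rw [hm, hm']; field_simp; ring
    linear_combination (u i * φ j) * hrel
  have hyval : (y : Matrix (Fin 3) (Fin 3) F) = 1 + Y := by
    rw [hy, Units.val_mul, Units.val_mul, hxval, Matrix.mul_add, Matrix.add_mul, mul_one, ← Units.val_mul,
      mul_inv_cancel, Units.val_one, hX, Matrix.mul_add, Matrix.add_mul, Matrix.mul_smul, Matrix.smul_mul,
      Matrix.mul_smul, Matrix.smul_mul, mul_vecMulVec, vecMulVec_mul, mul_vecMulVec, vecMulVec_mul,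
      hom_inv hu.unit hμ0, hom_val hu.unit hμ0, hom_val hu.unit (inv_ne_zero hμ0), homMat_mulVec,
      homMat_mulVec, vecMul_homMat, vecMul_homMat, hu.unit, hαu, hφe, hβu]
    congr 1
    ext i j
    simp only [hY, hβ', hβ, hm, hm', Matrix.add_apply, Matrix.smul_apply, smul_eq_mul, vecMulVec_apply,
      Pi.add_apply, Pi.smul_apply, mul_zero, zero_mul, add_zero]
    field_simp
    ring
  set Z : Matrix (Fin 3) (Fin 3) F := (m * m * (μ * (β ⬝ᵥ u) - β' ⬝ᵥ u)) • vecMulVec e α with hZ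
  have hkey : (1 + X) * (1 + Y) = (1 + Z) * ((1 + Y) * (1 + X)) := by
    simp only [hX, hY, hZ, add_mul, mul_add, one_mul, mul_one, Matrix.smul_mul, Matrix.mul_smul,
      vecMulVec_mul_vecMulVec, hαu, hαe, hβe, hβ'e, zero_smul, add_zero, smul_smul, vecMulVec_smul,
      vecMulVec_zero, smul_zero, mul_zero]
    ext i j
    simp only [Matrix.add_apply, Matrix.smul_apply, smul_eq_mul, vecMulVec_apply]
    ring
  set z := x * y * (y * x)⁻¹ with hz
  have hzval : (z : Matrix (Fin 3) (Fin 3) F) = 1 + Z := by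
    have h1 : (z : Matrix (Fin 3) (Fin 3) F) * ((y * x : GL (Fin 3) F) : Matrix (Fin 3) (Fin 3) F) =
        (1 + Z) * ((y * x : GL (Fin 3) F) : Matrix (Fin 3) (Fin 3) F) := by
      rw [← Units.val_mul, hz, inv_mul_cancel_right, Units.val_mul x y, Units.val_mul y x, hxval, hyval, hkey]
    exact (y * x).isUnit.mul_right_cancel h1
  have hz1 := (hP.sup p h).eq_one
    (Subgroup.mul_mem _ (Subgroup.mul_mem _ hxPS hyPS) (Subgroup.inv_mem _ (Subgroup.mul_mem _ hyPS hxPS)))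
    (v := (m * m * (μ * (β ⬝ᵥ u) - β' ⬝ᵥ u)) • e) (ψ := α) (by simp [hαe])
    (by rw [← hz, hzval, hZ, smul_vecMulVec])
  rw [← hz] at hz1
  rw [hz1, Units.val_one, eq_comm, add_eq_left, hZ, smul_eq_zero] at hzval
  rcases hzval with h0 | h0
  · rw [hβu, hβ'u, mul_eq_zero, mul_self_eq_zero] at h0
    rcases h0 with h0 | h0
    · exact hμ (by rw [sub_eq_zero.1 h0, one_pow])
    · rw [hm'] at h0
      field_simp at h0
      exact hμ (by linear_combination h0)
  · obtain ⟨i, hi⟩ := Function.ne_iff.1 he0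
    have hα0 : α = 0 := funext fun j => (mul_eq_zero.1 (congrFun (congrFun h0 i) j)).resolve_left hi
    -- equal axes: the product of the reflections is a transvection
    have hψφ : ψ = φ := sub_eq_zero.1 hα0
    have hd : φ ⬝ᵥ ((2 : F) • (u - v)) = 0 := by simp [dotProduct_sub, hvu, hu.unit]
    have hval : ((refl u φ * refl v ψ : GL (Fin 3) F) : Matrix (Fin 3) (Fin 3) F) =
        1 + vecMulVec ((2 : F) • (u - v)) φ := by
      rw [Units.val_mul, refl_val hu.unit, refl_val hv.unit]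
      simp only [sub_mul, mul_sub, Matrix.smul_mul, Matrix.mul_smul, vecMulVec_mul_vecMulVec, hvu, one_smul,
        one_mul, mul_one, smul_smul, hψφ]
      ext a b
      simp [vecMulVec_apply]
      ring
    have h4 := congrArg (fun g : GL (Fin 3) F => (g : Matrix (Fin 3) (Fin 3) F))
      (hP.eq_one (P.mul_mem hu.refl_mem hv.refl_mem) hd hval)
    simp only [hval, Units.val_one, add_eq_left] at h4
    refine he (funext fun a => ?_)
    obtain ⟨b, hb⟩ : ∃ b, φ b ≠ 0 := Function.ne_iff.1 (fun e0 => by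
      have := hu.unit; simp [e0, dotProduct] at this)
    have := congrFun (congrFun h4 a) b
    simp [vecMulVec_apply, hb, h2, sub_eq_zero] at this
    exact this.symm

/-- A matrix of determinant `d` whose cube is scalar. -/
theorem trace_sq_of_cube {M : Matrix (Fin 2) (Fin 2) F} (h01 : M 0 1 ≠ 0)
    (h3 : (M * M * M) 0 1 = 0) : M.trace ^ 2 = M.det := by
  simp [Matrix.mul_apply, Fin.sum_univ_two] at h3
  rw [Matrix.trace_fin_two, Matrix.det_fin_two]
  refine sub_eq_zero.1 ((mul_eq_zero.1 ?_).resolve_right h01)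
  linear_combination h3

set_option maxHeartbeats 1600000 in
/-- Non-degenerate pairs: the ratio has order four. -/
theorem pair_order_four (h2 : (2 : F) ≠ 0) (h : Hyp P) (hP : NoRoot P) {μ : F} (hμ0 : μ ≠ 0)
    (hμ : μ ^ 2 ≠ 1) (hev : 2 ∣ orderOf μ) {u φ v ψ : Fin 3 → F} (hu : Homology P μ u φ)
    (hv : Homology P μ v ψ) (hvu : φ ⬝ᵥ v ≠ 0) (huv : ψ ⬝ᵥ u ≠ 0)
    (hc : (φ ⬝ᵥ v) * (ψ ⬝ᵥ u) ≠ 1) :
    (φ ⬝ᵥ v) * (ψ ⬝ᵥ u) * 2 = 1 ∧ μ ^ 2 = -1 := by
  set a := φ ⬝ᵥ v with ha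
  set b := ψ ⬝ᵥ u with hb
  set m := μ - 1 with hm
  obtain ⟨e, he0, heφ, heψ⟩ := exists_common_zero φ ψ
  set Bm : Matrix (Fin 3) (Fin 3) F := Matrix.of fun i j => (![u, v, e] : Fin 3 → Fin 3 → F) j i with hBm
  have hBmul : ∀ c : Fin 3 → F, Bm *ᵥ c = c 0 • u + c 1 • v + c 2 • e := fun c => by
    funext i
    simp [hBm, Matrix.mulVec, dotProduct, Fin.sum_univ_three]
    ring
  have hBu : IsUnit Bm := by
    rw [← Matrix.mulVec_injective_iff_isUnit]
    intro c c' hcc
    rw [← sub_eq_zero]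
    set d := c - c' with hd
    have h0 : d 0 • u + d 1 • v + d 2 • e = 0 := by
      rw [← hBmul, hd, Matrix.mulVec_sub, hcc, sub_self]
    have e1 := congrArg (φ ⬝ᵥ ·) h0
    have e2 := congrArg (ψ ⬝ᵥ ·) h0
    simp only [dotProduct_add, dotProduct_smul, hu.unit, hv.unit, ← ha, ← hb, heφ, heψ, smul_eq_mul,
      dotProduct_zero, mul_zero, add_zero, mul_one] at e1 e2
    have h1 : d 1 = 0 := by
      refine (mul_eq_zero.1 (show d 1 * (1 - a * b) = 0 by linear_combination e2 - b * e1)).resolve_right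
        fun h' => hc (sub_eq_zero.1 h').symm
    have h0' : d 0 = 0 := by rw [h1, zero_mul, add_zero] at e1; exact e1
    rw [h0', h1, zero_smul, zero_smul, zero_add, zero_add, smul_eq_zero] at h0
    funext i
    fin_cases i
    · exact h0'
    · exact h1
    · exact h0.resolve_right he0
  set Bi := Bm⁻¹ with hBi
  have hdBm := (Matrix.isUnit_iff_isUnit_det _).1 hBu
  have hBB : Bm * Bi = 1 := Matrix.mul_nonsing_inv _ hdBm
  have hBB' : Bi * Bm = 1 := Matrix.nonsing_inv_mul _ hdBm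
  let B : GL (Fin 3) F := ⟨Bm, Bi, hBB, hBB'⟩
  let cf : GL (Fin 3) F →* GL (Fin 3) F := (MulAut.conj B⁻¹).toMonoidHom
  have cfv : ∀ g : GL (Fin 3) F, (cf g : Matrix (Fin 3) (Fin 3) F) =
      Bi * (g : Matrix (Fin 3) (Fin 3) F) * Bm := fun g => by
    simp [cf, MulAut.conj_apply, B]
  have hcol : ∀ j, Bm *ᵥ Pi.single j 1 = (![u, v, e] : Fin 3 → Fin 3 → F) j := fun j => by
    rw [Matrix.mulVec_single_one]; rfl
  have hBi' : ∀ c : Fin 3 → F, Bi *ᵥ (c 0 • u + c 1 • v + c 2 • e) = c := fun c => by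
    rw [← hBmul, Matrix.mulVec_mulVec, hBB', Matrix.one_mulVec]
  have hcfu : (cf (hom u φ μ) : Matrix (Fin 3) (Fin 3) F) = !![μ, m * a, 0; 0, 1, 0; 0, 0, 1] := by
    refine Matrix.ext_of_mulVec_single fun j => ?_
    rw [cfv, hom_val hu.unit hμ0, ← Matrix.mulVec_mulVec, ← Matrix.mulVec_mulVec, hcol, Matrix.mulVec_single_one,
      homMat_mulVec, ← hm]
    fin_cases j
    · have := hBi' ![μ, 0, 0]
      simp [hu.unit, hm] at this ⊢
      rw [show u + (μ - 1) • u = μ • u by rw [sub_smul, one_smul]; abel, this]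
      funext i; fin_cases i <;> simp
    · have := hBi' ![m * a, 1, 0]
      simp [← ha] at this ⊢
      rw [add_comm, this]
      funext i; fin_cases i <;> simp
    · have := hBi' ![0, 0, 1]
      simp [heφ] at this ⊢
      rw [this]
      funext i; fin_cases i <;> simp
  have hcfv : (cf (hom v ψ μ) : Matrix (Fin 3) (Fin 3) F) = !![1, 0, 0; m * b, μ, 0; 0, 0, 1] := by
    refine Matrix.ext_of_mulVec_single fun j => ?_
    rw [cfv, hom_val hv.unit hμ0, ← Matrix.mulVec_mulVec, ← Matrix.mulVec_mulVec, hcol, Matrix.mulVec_single_one,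
      homMat_mulVec, ← hm]
    fin_cases j
    · have := hBi' ![1, m * b, 0]
      simp [← hb] at this ⊢
      rw [this]
      funext i; fin_cases i <;> simp
    · have := hBi' ![0, μ, 0]
      simp [hv.unit, hm] at this ⊢
      rw [show v + (μ - 1) • v = μ • v by rw [sub_smul, one_smul]; abel, this]
      funext i; fin_cases i <;> simp
    · have := hBi' ![0, 0, 1]
      simp [heψ] at this ⊢
      rw [this]
      funext i; fin_cases i <;> simp
  set K := Subgroup.closure ({hom u φ μ, hom v ψ μ} : Set (GL (Fin 3) F)) with hK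
  have hKPS : K ≤ P ⊔ scalars (Fin 3) F := (Subgroup.closure_le _).2 (by
    rintro _ (rfl | rfl)
    · exact hu.hom_mem hμ0
    · exact hv.hom_mem hμ0)
  -- block shape
  let Blk : Matrix (Fin 3) (Fin 3) F → Prop := fun M =>
    M 0 2 = 0 ∧ M 1 2 = 0 ∧ M 2 0 = 0 ∧ M 2 1 = 0 ∧ M 2 2 = 1
  let top : Matrix (Fin 3) (Fin 3) F → Matrix (Fin 2) (Fin 2) F := fun M => !![M 0 0, M 0 1; M 1 0, M 1 1]
  have hBlkK : ∀ g ∈ K, Blk (cf g : Matrix (Fin 3) (Fin 3) F) := by
    intro g hg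
    have hinv : ∀ M N : Matrix (Fin 3) (Fin 3) F, M * N = 1 → Blk M → Blk N := by
      intro M N hMN ⟨a1, a2, a3, a4, a5⟩
      have hNM : N * M = 1 := mul_eq_one_comm.1 hMN
      have q : ∀ i j, (M * N) i j = (1 : Matrix (Fin 3) (Fin 3) F) i j := fun i j => by rw [hMN]
      have r : ∀ i j, (N * M) i j = (1 : Matrix (Fin 3) (Fin 3) F) i j := fun i j => by rw [hNM]
      have q20 := q 2 0; have q21 := q 2 1; have q22 := q 2 2
      have r02 := r 0 2; have r12 := r 1 2
      simp [Matrix.mul_apply, Fin.sum_univ_three, a1, a2, a3, a4, a5] at q20 q21 q22 r02 r12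
      exact ⟨r02, r12, q20, q21, q22⟩
    induction hg using Subgroup.closure_induction with
    | mem g hg =>
      rcases hg with rfl | rfl
      · rw [hcfu]; simp [Blk]
      · rw [hcfv]; simp [Blk]
    | one => rw [map_one, Units.val_one]; simp [Blk]
    | mul g g' _ _ h1 h3 =>
      obtain ⟨a1, a2, a3, a4, a5⟩ := h1
      obtain ⟨b1, b2, b3, b4, b5⟩ := h3
      rw [map_mul, Units.val_mul]
      simp [Blk, Matrix.mul_apply, Fin.sum_univ_three, a1, a2, a3, a4, a5, b1, b2, b3, b4, b5]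
    | inv g _ h1 =>
      exact hinv _ _ (by rw [← Units.val_mul, map_inv, mul_inv_cancel, Units.val_one]) h1
  let ρ : K →* GL (Fin 2) F := MonoidHom.toHomUnits
    { toFun := fun g => top (cf g.1 : Matrix (Fin 3) (Fin 3) F)
      map_one' := by
        simp [top]
        ext i j
        fin_cases i <;> fin_cases j <;> simp
      map_mul' := fun g g' => by
        obtain ⟨a1, a2, a3, a4, a5⟩ := hBlkK g g.2
        obtain ⟨b1, b2, b3, b4, b5⟩ := hBlkK g' g'.2
        show top (cf (g.1 * g'.1) : Matrix (Fin 3) (Fin 3) F) = _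
        rw [map_mul, Units.val_mul]
        ext i j
        fin_cases i <;> fin_cases j <;>
          simp [top, Matrix.mul_apply, Fin.sum_univ_three, a1, a2, b3, b4] }
  have ρv : ∀ g : K, (ρ g : Matrix (Fin 2) (Fin 2) F) = top (cf g.1 : Matrix (Fin 3) (Fin 3) F) := fun _ => rfl
  set π := (ProjGenLinGroup.mk : GL (Fin 2) F →* ProjGenLinGroup (Fin 2) F).comp ρ with hπ
  have hπ1 : ∀ g : K, π g = 1 → top (cf g.1 : Matrix (Fin 3) (Fin 3) F) 0 1 = 0 ∧
      top (cf g.1 : Matrix (Fin 3) (Fin 3) F) 0 0 = top (cf g.1 : Matrix (Fin 3) (Fin 3) F) 1 1 := by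
    intro g hg
    rw [hπ, MonoidHom.comp_apply, ProjGenLinGroup.mk_eq_one, GeneralLinearGroup.center_eq_range_scalar] at hg
    obtain ⟨s, hs⟩ := hg
    rw [← ρv, ← hs]
    simp
  set A : K := ⟨hom u φ μ, Subgroup.subset_closure (Or.inl rfl)⟩
  set B' : K := ⟨hom v ψ μ, Subgroup.subset_closure (Or.inr rfl)⟩
  have tA : top (cf A.1 : Matrix (Fin 3) (Fin 3) F) = !![μ, m * a; 0, 1] := by
    show top (cf (hom u φ μ) : Matrix (Fin 3) (Fin 3) F) = _
    rw [hcfu]; simp [top]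
  have tB : top (cf B'.1 : Matrix (Fin 3) (Fin 3) F) = !![1, 0; m * b, μ] := by
    show top (cf (hom v ψ μ) : Matrix (Fin 3) (Fin 3) F) = _
    rw [hcfv]; simp [top]
  have hpow : ∀ (w χ : Fin 3 → F) (g : K), χ ⬝ᵥ w = 1 → g.1 = hom w χ μ → g ^ orderOf μ = 1 := by
    intro w χ g hw hg
    refine Subtype.ext ?_
    rw [SubmonoidClass.coe_pow, hg, hom_pow hw hμ0, pow_orderOf_eq_one]
    exact Units.ext (by rw [hom_val hw one_ne_zero, homMat_one]; rfl)
  have hordA : orderOf (π A) = orderOf μ := by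
    refine Nat.dvd_antisymm (orderOf_dvd_of_pow_eq_one (by rw [← map_pow, hpow u φ A hu.unit rfl, map_one])) ?_
    refine orderOf_dvd_of_pow_eq_one ?_
    have h1 := (hπ1 _ (show π (A ^ orderOf (π A)) = 1 by rw [map_pow, pow_orderOf_eq_one])).2
    rw [← ρv, map_pow, Units.val_pow_eq_pow_val, ρv, tA] at h1
    have hpw : ∀ n : ℕ, ((!![μ, m * a; 0, 1] : Matrix (Fin 2) (Fin 2) F) ^ n) 0 0 = μ ^ n ∧
        ((!![μ, m * a; 0, 1] : Matrix (Fin 2) (Fin 2) F) ^ n) 1 1 = 1 ∧
        ((!![μ, m * a; 0, 1] : Matrix (Fin 2) (Fin 2) F) ^ n) 1 0 = 0 := by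
      intro n
      induction n with
      | zero => simp
      | succ n ih => simp [pow_succ, Matrix.mul_apply, Fin.sum_univ_two, ih.1, ih.2.1, ih.2.2]
    rw [(hpw _).1, (hpw _).2.1] at h1
    exact h1
  have hordB : orderOf (π B') = orderOf μ := by
    refine Nat.dvd_antisymm (orderOf_dvd_of_pow_eq_one (by rw [← map_pow, hpow v ψ B' hv.unit rfl, map_one])) ?_
    refine orderOf_dvd_of_pow_eq_one ?_
    have h1 := (hπ1 _ (show π (B' ^ orderOf (π B')) = 1 by rw [map_pow, pow_orderOf_eq_one])).2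
    rw [← ρv, map_pow, Units.val_pow_eq_pow_val, ρv, tB] at h1
    have hpw : ∀ n : ℕ, ((!![1, 0; m * b, μ] : Matrix (Fin 2) (Fin 2) F) ^ n) 0 0 = 1 ∧
        ((!![1, 0; m * b, μ] : Matrix (Fin 2) (Fin 2) F) ^ n) 1 1 = μ ^ n ∧
        ((!![1, 0; m * b, μ] : Matrix (Fin 2) (Fin 2) F) ^ n) 0 1 = 0 := by
      intro n
      induction n with
      | zero => simp
      | succ n ih => simp [pow_succ, Matrix.mul_apply, Fin.sum_univ_two, ih.1, ih.2.1, ih.2.2]
    rw [(hpw _).1, (hpw _).2.1] at h1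
    exact h1.symm
  have hm0 : m ≠ 0 := sub_ne_zero.2 fun e' => hμ (by rw [e', one_pow])
  have hne : π A * π B' ≠ π B' * π A := by
    intro heq
    rw [← map_mul, ← map_mul, hπ, MonoidHom.comp_apply, MonoidHom.comp_apply, ProjGenLinGroup.mk_eq_mk_iff] at heq
    obtain ⟨s, hs⟩ := heq
    have h01 := congrFun (congrFun (congrArg (fun g : GL (Fin 2) F => (g : Matrix (Fin 2) (Fin 2) F)) hs) 0) 1
    have h10 := congrFun (congrFun (congrArg (fun g : GL (Fin 2) F => (g : Matrix (Fin 2) (Fin 2) F)) hs) 1) 0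
    simp [ρv, tA, tB, Matrix.mul_apply, Fin.sum_univ_two] at h01 h10
    rcases h10 with e1 | e1 | e1
    · rw [e1] at h01
      refine hμ (mul_left_cancel₀ (mul_ne_zero hm0 hvu) ?_)
      linear_combination h01
    · exact hm0 e1
    · exact huv e1
  -- no elements of order `p`
  have hp' : ∀ g : K, g ^ p = 1 → g = 1 := by
    intro g hg
    obtain ⟨a1, a2, a3, a4, a5⟩ := hBlkK g g.2
    set N := top (cf g.1 : Matrix (Fin 3) (Fin 3) F) - 1 with hN
    have hNp : N ^ p = 0 := by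
      rw [hN, sub_pow_char_of_commute _ (Commute.one_right _), one_pow, ← ρv, ← Units.val_pow_eq_pow_val,
        ← map_pow, hg, map_one, Units.val_one, sub_self]
    obtain ⟨w, hw0, hwk⟩ := Matrix.exists_mulVec_eq_zero_iff.2 (show N.det = 0 from
      (pow_eq_zero_iff (Fact.out : p.Prime).ne_zero).1 (by rw [← Matrix.det_pow, hNp, Matrix.det_zero]))
    set w' : Fin 3 → F := ![w 0, w 1, 0] with hw'
    have hfix : ∀ z : Fin 3 → F, (cf g.1 : Matrix (Fin 3) (Fin 3) F) *ᵥ z = z →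
        ((g.1 : GL (Fin 3) F) : Matrix (Fin 3) (Fin 3) F) *ᵥ (Bm *ᵥ z) = Bm *ᵥ z := fun z hz => by
      rw [cfv] at hz
      conv_rhs => rw [← hz]
      simp only [Matrix.mulVec_mulVec, ← mul_assoc, hBB, one_mul]
    have h1 : (cf g.1 : Matrix (Fin 3) (Fin 3) F) *ᵥ w' = w' := by
      have q0 := congrFun hwk 0
      have q1 := congrFun hwk 1
      simp [hN, top, Matrix.mulVec, dotProduct, Fin.sum_univ_two, sub_eq_zero] at q0 q1
      funext i
      fin_cases i <;> simp [hw', Matrix.mulVec, dotProduct, Fin.sum_univ_three, a3, a4]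
      · linear_combination q0
      · linear_combination q1
    have h3 : (cf g.1 : Matrix (Fin 3) (Fin 3) F) *ᵥ Pi.single 2 1 = Pi.single 2 1 := by
      rw [Matrix.mulVec_single_one]
      funext i
      fin_cases i <;> simp [a1, a2, a5]
    refine Subtype.ext (eq_one_of_unipotent p (hP.sup p h) (hKPS g.2)
      (by rw [← SubmonoidClass.coe_pow, hg]; rfl)
      (x := Bm *ᵥ w') (y := Bm *ᵥ Pi.single 2 1) ?_ (hfix _ h1) (hfix _ h3))
    rw [LinearIndependent.pair_iff]
    intro s t hst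
    rw [← Matrix.mulVec_smul, ← Matrix.mulVec_smul, ← Matrix.mulVec_add] at hst
    have hz := congrArg (Bi *ᵥ ·) hst
    simp only [Matrix.mulVec_mulVec, hBB', Matrix.one_mulVec, Matrix.mulVec_zero] at hz
    have z2 := congrFun hz 2
    simp [hw'] at z2
    refine ⟨?_, z2⟩
    have z0 := congrFun hz 0
    have z1 := congrFun hz 1
    simp [hw'] at z0 z1
    by_contra hs
    exact hw0 (funext fun i => by fin_cases i <;> simp_all)
  have hHp : ∀ x : π.range, x ^ p = 1 → x = 1 := by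
    rintro ⟨x, g, rfl⟩ hx
    refine Subtype.ext ?_
    have hx' : π g ^ p = 1 := congrArg Subtype.val hx
    have hpd : ¬ p ∣ orderOf g := fun hd => by
      have h1 := hp' _ (show (g ^ (orderOf g / p)) ^ p = 1 by
        rw [← pow_mul, Nat.div_mul_cancel hd, pow_orderOf_eq_one])
      have h3 := orderOf_pow_orderOf_div (orderOf_pos g).ne' hd
      rw [h1, orderOf_one] at h3
      exact (Fact.out : p.Prime).ne_one h3.symm
    exact orderOf_eq_one_iff.1 (Nat.eq_one_of_dvd_coprimes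
      ((Fact.out : p.Prime).coprime_iff_not_dvd.2 hpd) (orderOf_dvd_of_pow_eq_one hx') (orderOf_map_dvd π g))
  have hshape := twoShape_of_pgl p π.range.subtype (Subgroup.subtype_injective _) hHp
  have h4 : 4 ≤ orderOf μ := by
    have hfin : IsOfFinOrder (Units.mk0 μ hμ0) := isOfFinOrder_of_finite _
    have hpos : 0 < orderOf μ := by
      have := hfin.orderOf_pos
      rwa [← orderOf_units, Units.val_mk0] at this
    have hn2 : orderOf μ ≠ 2 := fun e' => hμ (by rw [← e', pow_orderOf_eq_one])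
    obtain ⟨k, hk⟩ := hev
    omega
  have cv : ∀ (g : K) (n : ℕ), orderOf (π g) = n → orderOf (⟨π g, g, rfl⟩ : π.range) = n := fun g n hn => by
    rw [← Subgroup.orderOf_coe]; exact hn
  obtain ⟨hn4, h3ab, h3ab'⟩ := hshape.pair (cv A _ hordA) (cv B' _ hordB) hev h4
    (fun hcomm => hne (congrArg Subtype.val hcomm))
  have hμ4 : μ ^ 4 = 1 := by rw [← hn4, pow_orderOf_eq_one]
  have hμ2 : μ ^ 2 = -1 := by
    have : (μ ^ 2 - 1) * (μ ^ 2 + 1) = 0 := by linear_combination hμ4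
    exact eq_neg_of_add_eq_zero_left ((mul_eq_zero.1 this).resolve_left (sub_ne_zero.2 hμ))
  have hcube : ∀ g : K, π g ^ 3 = 1 → top (cf g.1 : Matrix (Fin 3) (Fin 3) F) 0 1 ≠ 0 →
      (top (cf g.1 : Matrix (Fin 3) (Fin 3) F)).trace ^ 2 = (top (cf g.1 : Matrix (Fin 3) (Fin 3) F)).det := by
    intro g hg h01
    rw [← map_pow] at hg
    have h1 := (hπ1 _ hg).1
    rw [← ρv, map_pow, Units.val_pow_eq_pow_val, ρv, pow_succ, sq] at h1
    exact trace_sq_of_cube p h01 h1
  have h3AB : π (A * B') ^ 3 = 1 := by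
    rw [map_mul]; exact congrArg Subtype.val h3ab
  have h3AB' : π (A * B'⁻¹) ^ 3 = 1 := by
    rw [map_mul, map_inv]; exact congrArg Subtype.val h3ab'
  have tBi : top (cf (B'⁻¹ : K).1 : Matrix (Fin 3) (Fin 3) F) = !![1, 0; -(m * b) / μ, μ⁻¹] := by
    rw [← ρv, map_inv, Matrix.coe_units_inv, ρv, tB]
    refine Matrix.inv_eq_right_inv ?_
    ext i j
    fin_cases i <;> fin_cases j <;> simp [Matrix.mul_apply, Fin.sum_univ_two]
    all_goals field_simp
    all_goals ring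
  have tAB : top (cf (A * B').1 : Matrix (Fin 3) (Fin 3) F) = !![μ + m * a * (m * b), m * a * μ; m * b, μ] := by
    rw [← ρv, map_mul, Units.val_mul, ρv, ρv, tA, tB]
    ext i j
    fin_cases i <;> fin_cases j <;> simp [Matrix.mul_apply, Fin.sum_univ_two]
  have tAB' : top (cf (A * B'⁻¹).1 : Matrix (Fin 3) (Fin 3) F) =
      !![μ + m * a * (-(m * b) / μ), m * a * μ⁻¹; -(m * b) / μ, μ⁻¹] := by
    rw [← ρv, map_mul, Units.val_mul, ρv, ρv, tA, tBi]
    ext i j
    fin_cases i <;> fin_cases j <;> simp [Matrix.mul_apply, Fin.sum_univ_two]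
  have q1 := hcube _ h3AB (by rw [tAB]; simp [hm0, hvu, hμ0])
  have q2 := hcube _ h3AB' (by rw [tAB']; simp [hm0, hvu, hμ0])
  rw [tAB, Matrix.trace_fin_two, Matrix.det_fin_two] at q1
  rw [tAB', Matrix.trace_fin_two, Matrix.det_fin_two] at q2
  simp at q1 q2
  have hm2 : m * m = -(2 * μ) := by rw [hm]; linear_combination hμ2
  have hinv : μ⁻¹ = -μ := inv_eq_of_mul_eq_one_right (by linear_combination -hμ2)
  have t1 : μ + m * a * (m * b) + μ = 2 * μ * (1 - a * b) := by linear_combination (a * b) * hm2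
  have t2 : μ + m * a * (-(m * b) / μ) + μ⁻¹ = 2 * (a * b) := by
    rw [div_eq_mul_inv, hinv]; linear_combination (μ * a * b) * hm2 + (-2 * a * b) * hμ2
  rw [t1] at q1
  rw [t2] at q2
  refine ⟨?_, hμ2⟩
  have e1 : 4 * (1 - a * b) ^ 2 = 1 := by linear_combination -q1 + (4 * (1 - a * b) ^ 2 - 1) * hμ2
  have e2 : 4 * (a * b) ^ 2 = 1 := by
    rw [div_eq_mul_inv, hinv] at q2
    linear_combination q2 - hμ2
  refine mul_left_cancel₀ h2 (mul_left_cancel₀ h2 ?_)
  linear_combination e2 - e1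

end CfsgLib.Mitchell
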