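import Cfsg.Agent.Lib.Mitchell.LocalRecogTools
import Cfsg.Agent.Lib.Mitchell.RecogA7
import Cfsg.Agent.Lib.SelfCentralSimple.Local
import Cfsg.Agent.Lib.TwoGroups.Semidihedral
import Cfsg.Agent.Lib.BSW.Main
import Cfsg.Agent.Lib.BSW.Recog
import Cfsg.Agent.S1213
import Cfsg.Agent.S3035

/-!
Simple groups with an involution centraliser which is, modulo the involution, dihedral.
-/

set_option autoImplicit false

namespace CfsgLib.Mitchell

open Subgroup
open scoped Pointwise

universe u

variable {T : Type u} [Group T] [Finite T]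

/-- The possible groups. -/
def RecogConcl (T : Type u) [Group T] : Prop :=
  (∃ (K : Type) (_ : Field K) (_ : Fintype K), Odd (Fintype.card K) ∧
      Nonempty (T ≃* Matrix.ProjectiveSpecialLinearGroup (Fin 2) K)) ∨
    Nonempty (T ≃* Matrix.SpecialLinearGroup (Fin 3) (ZMod 2)) ∨
    Nonempty (T ≃* alternatingGroup (Fin 6)) ∨ Nonempty (T ≃* alternatingGroup (Fin 7))

theorem exists_conj_mem_sylow_two (P : Sylow 2 T) {u : T} (hu : u * u = 1) :
    ∃ g : T, g * u * g⁻¹ ∈ (P : Subgroup T) := by
  haveI := Fact.mk Nat.prime_two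
  have h2 : IsPGroup 2 (zpowers u) := by
    rintro ⟨x, hx⟩
    obtain ⟨i, rfl⟩ := hx
    refine ⟨1, Subtype.ext ?_⟩
    show (u ^ i) ^ (2 ^ 1 : ℕ) = 1
    rw [pow_one, pow_two, ← zpow_add, ← two_mul, zpow_mul, zpow_two, hu, one_zpow]
  obtain ⟨Q, hQ⟩ := h2.exists_le_sylow
  obtain ⟨g, rfl⟩ := MulAction.exists_smul_eq T Q P
  exact ⟨g, Subgroup.smul_mem_pointwise_smul _ _ _ (hQ (mem_zpowers u))⟩

theorem card_sylow_eq (P Q : Sylow 2 T) :
    Nat.card (P : Subgroup T) = Nat.card (Q : Subgroup T) := by
  haveI := Fact.mk Nat.prime_two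
  rw [P.card_eq_multiplicity, Q.card_eq_multiplicity]

theorem not_perm_iso [IsSimpleGroup T] (hna : ¬ IsMulCommutative T) {n : ℕ} (hn : 3 ≤ n)
    (e : T ≃* Equiv.Perm (Fin n)) : False := by
  set f : T →* ℤˣ := Equiv.Perm.sign.comp e.toMonoidHom
  rcases (inferInstance : f.ker.Normal).eq_bot_or_eq_top with hk | hk
  · refine hna ⟨⟨fun a b => (MonoidHom.ker_eq_bot_iff f).1 hk ?_⟩⟩
    rw [map_mul, map_mul, mul_comm]
  · have h1 : f (e.symm (Equiv.swap ⟨0, by omega⟩ ⟨1, by omega⟩)) = -1 := by
      simp [f, Equiv.Perm.sign_swap']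
    rw [MonoidHom.mem_ker.1 (hk ▸ Subgroup.mem_top _)] at h1
    exact absurd h1 (by decide)

theorem pow_four_of_sq {t x : T} (ht2 : t * t = 1) (h : x * x = 1 ∨ x * x = t) : x ^ 4 = 1 := by
  rw [show x ^ 4 = x * x * (x * x) by simp [pow_succ, mul_assoc]]
  rcases h with e | e <;> rw [e]
  · rw [one_mul]
  · rw [ht2]

/-- Odd-order elements of `A` are inverted outside `A`. -/
theorem Dih.inverts_odd {t : T} {A : Subgroup T} {n : ℕ} (D : Dih t A n) (ht : orderOf t = 2)
    {s a : T} (hs : s ∈ Cen t) (hsA : s ∉ A) (ha : a ∈ A) (hodd : Odd (orderOf a)) :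
    s * a * s⁻¹ = a⁻¹ := by
  rcases D.conj s hs hsA a ha with h | h
  · exact eq_inv_of_mul_eq_one_left h
  · exfalso
    have e : s * a * s⁻¹ = t * a⁻¹ := eq_mul_inv_of_mul_eq h
    have hc : Commute t a⁻¹ := (show Commute a t from mem_cen.1 (D.le ha)).symm.inv_right
    have h1 : (s * a * s⁻¹) ^ orderOf a = 1 := by
      rw [conj_pow, pow_orderOf_eq_one, mul_one, mul_inv_cancel]
    rw [e, hc.mul_pow, inv_pow, pow_orderOf_eq_one, inv_one, mul_one] at h1
    obtain ⟨j, hj⟩ := hodd
    rw [hj, pow_succ, pow_mul, pow_two, sq_eq_one_of_orderOf ht, one_pow, one_mul] at h1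
    exact ne_one_of_orderOf ht h1

/-- The noncyclic case. -/
theorem dihedral_four [IsSimpleGroup T] (hna : ¬ IsMulCommutative T) (hd : LocalData T) {t : T}
    (ht : orderOf t = 2) (S : Sylow 2 T) (hS : (S : Subgroup T) ≤ Cen t) {A : Subgroup T} {n : ℕ}
    (D : Dih t A n) {e : T} (heA : e ∈ A) (he : orderOf e = 2) (het : e ≠ t) : RecogConcl T := by
  classical
  haveI := Fact.mk Nat.prime_two
  have ht2 := sq_eq_one_of_orderOf ht
  have ht1 := ne_one_of_orderOf ht
  have he2 := sq_eq_one_of_orderOf he
  have he1 := ne_one_of_orderOf he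
  have htA := D.mem
  have hte : t * e = e * t := D.comm htA heA
  have hteA : t * e ∈ A := mul_mem htA heA
  have hte1 : t * e ≠ 1 := fun h => het (by
    rw [← inv_eq_of_mul_eq_one_right h, inv_of_sq ht2])
  have htet : t * e ≠ t := fun h => he1 (mul_eq_left.1 h)
  have htee : t * e ≠ e := fun h => ht1 (mul_eq_right.1 h)
  have hte2 : t * e * (t * e) = 1 := by
    calc t * e * (t * e) = t * (e * t) * e := by group
      _ = t * t * (e * e) := by rw [← hte]; group
      _ = 1 := by rw [ht2, he2, one_mul]
  have h4no : ∀ y ∈ A, y ^ 4 = 1 → y * y = 1 := by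
    intro y hy h4
    by_contra hy2
    have hy4 : y * y * (y * y) = 1 := by rw [← h4]; simp [pow_succ, mul_assoc]
    by_cases h : e = y * y
    · exact hd.no_four ht hy4 hy2 (fun h' => het (h.trans h'.symm)) (D.comm hy htA)
    · exact hd.no_four he hy4 hy2 h (D.comm hy heA)
  -- elements outside `A`
  have hanti : ∀ x ∈ Cen t, x ∉ A → x * e * x⁻¹ = t * e := by
    intro x hx hxA
    have hne : e * x ≠ x * e := hd.anticomm t e x ht (D.le heA) hx (Or.inl he2) (D.outside x hx hxA)
      he1 het (fun h => hxA (by rw [h]; exact one_mem A)) (fun h => hxA (by rw [h]; exact htA))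
      (fun h => hxA (by rw [h]; exact heA)) (fun h => hxA (by rw [h]; exact hteA))
    rcases D.conj x hx hxA e heA with h | h
    · exact absurd (mul_inv_eq_iff_eq_mul.1
        ((eq_inv_of_mul_eq_one_left h).trans (inv_of_sq he2))).symm hne
    · rw [eq_mul_inv_of_mul_eq h, inv_of_sq he2]
  obtain ⟨s, hs, hsA, hs2⟩ : ∃ s ∈ Cen t, s ∉ A ∧ s * s = 1 := by
    obtain ⟨s₀, hs₀, hsA₀⟩ := D.exists_outside
    rcases D.outside s₀ hs₀ hsA₀ with h | h
    · exact ⟨s₀, hs₀, hsA₀, h⟩
    · refine ⟨e * s₀, mul_mem (D.le heA) hs₀,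
        fun h' => hsA₀ (by simpa using mul_mem (inv_mem heA) h'), ?_⟩
      calc e * s₀ * (e * s₀) = e * (s₀ * e * s₀⁻¹) * (s₀ * s₀) := by group
        _ = e * (t * e) * t := by rw [hanti s₀ hs₀ hsA₀, h]
        _ = e * t * (e * t) := by group
        _ = 1 := by rw [← hte, hte2]
  have hs1 : s ≠ 1 := fun h => hsA (h ▸ one_mem A)
  have hso : orderOf s = 2 := orderOf_two_of_sq hs2 hs1
  have hst : s * t = t * s := mem_cen.1 hs
  have hsis : s⁻¹ = s := inv_of_sq hs2
  have hse : s * e * s⁻¹ = t * e := hanti s hs hsA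
  have hR : s * e * (s * e) = t := by
    calc s * e * (s * e) = (s * e * s⁻¹) * (s * s) * e := by group
      _ = t * (e * e) := by rw [hse, hs2]; group
      _ = t := by rw [he2, mul_one]
  have hRo : orderOf (s * e) = 4 := by
    refine orderOf_eq_prime_pow (p := 2) (n := 1) ?_ ?_
    · rw [pow_one, pow_two, hR]; exact ht1
    · rw [show s * e * (s * e) = (s * e) ^ 2 by rw [pow_two]] at hR
      rw [show 2 ^ (1 + 1) = 2 * 2 by norm_num, pow_mul, hR, pow_two, ht2]
  have hR4 : (s * e) ^ 4 = 1 := by rw [← hRo, pow_orderOf_eq_one]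
  have hsRA : s * e ∉ A := fun h => hsA (by simpa using mul_mem h (inv_mem heA))
  have four_of : ∀ x ∈ A, x * x = 1 → x = 1 ∨ x = t ∨ x = e ∨ x = t * e := by
    intro x hx hx2
    by_cases h1 : x = 1
    · exact Or.inl h1
    by_cases h2 : x = t
    · exact Or.inr (Or.inl h2)
    rcases D.toRot.involution D.pos heA hx he2 hx2 he1 het h1 h2 with h | h
    · exact Or.inr (Or.inr (Or.inl h))
    · exact Or.inr (Or.inr (Or.inr h))
  set V := CfsgLib.SelfCentralSimple.four ht2 he2 (show Commute t e from hte)
  have hVcard : Nat.card V = 4 :=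
    (CfsgLib.SelfCentralSimple.four_facts ht he (Ne.symm het) hte).1
  have hA2 : IsMulCommutative A := ⟨⟨fun a b => Subtype.ext (D.comm a.2 b.2)⟩⟩
  -- the dihedral group of order eight and its Sylow subgroup
  have hSsq : ∀ x ∈ A ⊓ (S : Subgroup T), x ∈ V := by
    rintro x ⟨hxA, hxS⟩
    have hx2 : x * x = 1 := by
      obtain ⟨k, hk⟩ := S.isPGroup' ⟨x, hxS⟩
      have hk' : x ^ 2 ^ k = 1 := congrArg Subtype.val hk
      clear hk
      induction k generalizing x with
      | zero => rw [pow_zero, pow_one] at hk'; rw [hk', one_mul]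
      | succ k ih =>
        have h := ih (x * x) (mul_mem hxA hxA) (mul_mem hxS hxS)
          (by rw [← pow_two, ← pow_mul, ← pow_succ']; exact hk')
        exact h4no x hxA (by rw [← h]; simp [pow_succ, mul_assoc])
    exact four_of x hxA hx2
  have hScard : Nat.card (S : Subgroup T) ≤ 8 := by
    have hle := Subgroup.card_le_of_le (show A ⊓ (S : Subgroup T) ≤ V from hSsq)
    by_cases hout : (S : Subgroup T) ≤ A
    · rw [inf_eq_right.2 hout] at hle; omega
    · obtain ⟨x, hx, hxA⟩ := SetLike.not_le_iff_exists.1 hout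
      rw [D.card_eq hS hx hxA]; omega
  obtain ⟨g, hg⟩ : ∃ g : T, g * e * g⁻¹ = t := by
    have hnorm : zpowers s ≤ normalizer (V : Set T) := by
      refine zpowers_le.2 (mem_normalizer_iff.2 fun x => ?_)
      have h1 : ∀ y ∈ V, s * y * s⁻¹ ∈ V := by
        have hst' : s * t * s⁻¹ = t := by rw [hst, mul_inv_cancel_right]
        rintro y (rfl | rfl | rfl | rfl)
        · exact Or.inl (by group)
        · exact Or.inr (Or.inl hst')
        · exact Or.inr (Or.inr (Or.inr hse))
        · refine Or.inr (Or.inr (Or.inl ?_))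
          rw [← conj_mul, hst', hse, ← mul_assoc, ht2, one_mul]
      refine ⟨h1 x, fun h => ?_⟩
      have h' := h1 _ h
      rwa [show s * (s * x * s⁻¹) * s⁻¹ = s * s * x * (s * s)⁻¹ by group, hs2, one_mul, inv_one,
        mul_one] at h'
    have hV2 : IsPGroup 2 V := IsPGroup.of_card (n := 2) (by rw [hVcard]; norm_num)
    have hs2' : IsPGroup 2 (zpowers s) :=
      IsPGroup.of_card (n := 1) (by rw [Nat.card_zpowers, hso, pow_one])
    obtain ⟨P, hP⟩ := (hV2.to_sup_of_normal_left' hs2' hnorm).exists_le_sylow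
    have heP : e ∈ (P : Subgroup T) := hP (mem_sup_left (Or.inr (Or.inr (Or.inl rfl))))
    have hsP : s ∈ (P : Subgroup T) := hP (mem_sup_right (mem_zpowers s))
    have hMP : zpowers (s * e) ≤ (P : Subgroup T) := zpowers_le.2 (mul_mem hsP heP)
    have hM : ∀ u ∈ zpowers (s * e), u * u = 1 → u = 1 ∨ u = t := by
      intro u hu hu2
      rw [← mem_powers_iff_mem_zpowers, Submonoid.mem_powers_iff] at hu
      obtain ⟨i, rfl⟩ := hu
      rw [← pow_add] at hu2
      obtain ⟨c, hc⟩ : 2 ∣ i := by
        have h := orderOf_dvd_of_pow_eq_one hu2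
        rw [hRo] at h
        omega
      rw [hc, pow_mul, pow_two, hR]
      rcases Nat.even_or_odd c with ⟨d, rfl⟩ | ⟨d, rfl⟩
      · left; rw [← two_mul, pow_mul, pow_two, ht2, one_pow]
      · right; rw [pow_succ, pow_mul, pow_two, ht2, one_pow, one_mul]
    have hdM : (zpowers (s * e)).relIndex (P : Subgroup T) = 2 := by
      have h := Subgroup.card_mul_index ((zpowers (s * e)).subgroupOf (P : Subgroup T))
      rw [Nat.card_congr (subgroupOfEquivOfLe hMP).toEquiv, Nat.card_zpowers, hRo,
        card_sylow_eq P S] at h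
      have h1 : (zpowers (s * e)).relIndex (P : Subgroup T) ≠ 1 := by
        rw [ne_eq, relIndex_eq_one]
        intro hle
        rcases hM e (hle heP) he2 with h | h
        · exact he1 h
        · exact het h
      simp only [relIndex] at h1 ⊢
      have h0 : ((zpowers (s * e)).subgroupOf (P : Subgroup T)).index ≠ 0 := index_ne_zero_of_finite
      omega
    obtain ⟨g, -, hgM⟩ := exists_conj_into hna P _ hdM he2
    refine ⟨g, (hM _ hgM ?_).resolve_left fun h => he1 (conj_eq_one_iff.1 h)⟩
    rw [show g * e * g⁻¹ * (g * e * g⁻¹) = g * (e * e) * g⁻¹ by group, he2, mul_one, mul_inv_cancel]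
  by_cases hall : ∀ a ∈ A, a * a = 1
  · -- `C(t)` is dihedral of order eight
    have hSR : s * (s * e) * s⁻¹ = (s * e)⁻¹ := by
      rw [mul_inv_rev, inv_of_sq he2, hsis, ← mul_assoc, hs2, one_mul]
    have hnot : s ∉ zpowers (s * e) := fun h => by
      have hc : Commute s (s * e) := by
        obtain ⟨i, hi⟩ := h
        simp only at hi
        conv_lhs => rw [← hi]
        exact (Commute.refl _).zpow_left i
      have h1 : s * e * s⁻¹ = e := by
        rw [mul_inv_eq_iff_eq_mul]
        have h2 : s * (s * e) = s * e * s := hc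
        rw [← mul_assoc, hs2, one_mul] at h2
        calc s * e = s * (s * e * s) := by rw [← h2]
          _ = e * s := by rw [mul_assoc s e, ← mul_assoc, hs2, one_mul]
      rw [hse] at h1
      exact htee h1
    have hrange : (CfsgLib.TwoGroups.SD.dihedralHom (s * e) s hR4 hs2 hSR).range = Cen t := by
      rw [CfsgLib.TwoGroups.SD.range_dihedralHom]
      refine le_antisymm ((closure_le _).2 ?_) fun x hx => ?_
      · rintro _ (rfl | rfl)
        · exact mul_mem hs (D.le heA)
        · exact hs
      · have hsc : s ∈ closure ({s * e, s} : Set T) := subset_closure (Or.inr rfl)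
        have hRc : s * e ∈ closure ({s * e, s} : Set T) := subset_closure (Or.inl rfl)
        have hec : e ∈ closure ({s * e, s} : Set T) := by
          have := mul_mem hsc hRc
          rwa [← mul_assoc, hs2, one_mul] at this
        have hAc : ∀ a ∈ A, a ∈ closure ({s * e, s} : Set T) := by
          intro a ha
          have htc : t ∈ closure ({s * e, s} : Set T) := hR ▸ mul_mem hRc hRc
          rcases four_of a ha (hall a ha) with rfl | rfl | rfl | rfl
          exacts [one_mem _, htc, hec, mul_mem htc hec]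
        by_cases hxA : x ∈ A
        · exact hAc x hxA
        · have := mul_mem (hAc _ (D.mul x hx s hs hxA hsA)) hsc
          rwa [mul_assoc, hs2, mul_one] at this
    have hC : Nonempty (Cen t ≃* DihedralGroup 4) :=
      ⟨((MonoidHom.ofInjective (CfsgLib.TwoGroups.SD.dihedralHom_injective (s * e) s hR4 hs2 hSR hRo
        hnot)).trans (MulEquiv.subgroupCongr hrange)).symm⟩
    rcases Cfsg.Agent.S3035.result t ht hC with h1 | ⟨⟨i⟩⟩ | ⟨⟨i⟩⟩ | h2 | h3
    · exfalso
      have heven := CfsgLib.SelfCentralSimple.even_card (G := T) hna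
      have hodd : Cfsg.oddCore T = ⊥ :=
        ((inferInstance : (Cfsg.oddCore T).Normal).eq_bot_or_eq_top).resolve_right fun e => by
          have := CfsgLib.PCore.pPrimeCore_coprime (p := 2) (G := T)
          rw [show Cfsg.pPrimeCore 2 T = ⊤ from e, Subgroup.card_top] at this
          exact Nat.not_coprime_of_dvd_of_dvd one_lt_two heven dvd_rfl this
      rw [hodd, sup_bot_eq, Subgroup.centralizer_eq_top_iff_subset, Set.singleton_subset_iff,
        SetLike.mem_coe, CfsgLib.SelfCentralSimple.center_eq_bot hna, Subgroup.mem_bot] at h1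
      exact ht1 h1
    · exact (not_perm_iso hna (by norm_num) i).elim
    · exact (not_perm_iso hna (by norm_num) i).elim
    · exact Or.inr (Or.inl h2)
    · exact Or.inr (Or.inr (Or.inl h3))
  · -- `C(t)` has order 24
    push Not at hall
    obtain ⟨a₀, ha₀, ha₀2⟩ := hall
    have hoddsq : ∀ a ∈ A, Odd (orderOf (a * a)) := by
      intro a ha
      rw [← pow_two, orderOf_pow]
      have h4 : ¬ 4 ∣ orderOf a := fun h => by
        have ho := orderOf_pow_orderOf_div (orderOf_pos a).ne' h
        have h2 := h4no _ (pow_mem ha (orderOf a / 4))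
          (orderOf_dvd_iff_pow_eq_one.1 (dvd_of_eq ho))
        have := Nat.le_of_dvd two_pos (orderOf_dvd_of_pow_eq_one (by rw [pow_two]; exact h2) :
          orderOf (a ^ (orderOf a / 4)) ∣ 2)
        omega
      rw [Nat.odd_iff]
      rcases Nat.even_or_odd (orderOf a) with ⟨m, hm⟩ | ⟨m, hm⟩
      · rw [hm] at h4 ⊢
        rw [show Nat.gcd (m + m) 2 = 2 from Nat.gcd_eq_right ⟨m, by ring⟩]
        omega
      · rw [hm, show Nat.gcd (2 * m + 1) 2 = 1 from Nat.coprime_two_right.2 ⟨m, rfl⟩]
        omega
    have hr : g⁻¹ * s * g ∈ Cen e := by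
      rw [mem_cen, show e = g⁻¹ * t * g by rw [← hg]; group]
      calc g⁻¹ * s * g * (g⁻¹ * t * g) = g⁻¹ * (s * t) * g := by group
        _ = g⁻¹ * t * g * (g⁻¹ * s * g) := by rw [hst]; group
    have hcube : ∀ z ∈ A, Odd (orderOf z) → z ^ 3 = 1 := by
      intro z hz hzo
      refine hd.cube t e s (g⁻¹ * s * g) z ht he het hte.symm (mem_cen.1 (D.le hz))
        (D.comm hz heA) hzo hs hr (D.inverts_odd ht hs hsA hz hzo) ?_
      set y := g * z * g⁻¹ with hy
      have hyo : orderOf y = orderOf z := (MulAut.conj g).orderOf_eq z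
      have hyC : y ∈ Cen t := by
        rw [mem_cen, hy, ← hg]
        calc g * z * g⁻¹ * (g * e * g⁻¹) = g * (z * e) * g⁻¹ := by group
          _ = g * e * g⁻¹ * (g * z * g⁻¹) := by rw [D.comm hz heA]; group
      have hyA : y ∈ A := by
        by_contra hyA
        have h4 := orderOf_dvd_of_pow_eq_one (pow_four_of_sq ht2 (D.outside y hyC hyA))
        have h1 : orderOf y = 1 := by
          refine Nat.eq_one_of_dvd_coprimes (a := orderOf y) (b := 4) ?_ dvd_rfl h4
          rw [hyo]
          exact (Nat.coprime_two_right.2 hzo).pow_right 2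
        exact hyA (by rw [orderOf_eq_one_iff.1 h1]; exact one_mem A)
      have hinv := D.inverts_odd ht hs hsA hyA (hyo.symm ▸ hzo)
      calc g⁻¹ * s * g * z * (g⁻¹ * s * g)⁻¹ = g⁻¹ * (s * y * s⁻¹) * g := by rw [hy]; group
        _ = z⁻¹ := by rw [hinv, hy]; group
    letI : CommGroup A := { (inferInstance : Group A) with mul_comm := hA2.is_comm.comm }
    set sq : A →* A := powMonoidHom 2 with hsq
    set cu : A →* A := powMonoidHom 3 with hcu
    have hker : Nat.card sq.ker = 4 := by
      rw [Nat.card_congr (sq.ker.equivMapOfInjective _ A.subtype_injective).toEquiv,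
        show sq.ker.map A.subtype = V from ?_, hVcard]
      ext x
      constructor
      · rintro ⟨z, hz, rfl⟩
        exact four_of _ z.2 (by rw [← pow_two]; exact congrArg Subtype.val (MonoidHom.mem_ker.1 hz))
      · intro hx
        have hxA : x ∈ A := by
          rcases hx with rfl | rfl | rfl | rfl
          exacts [one_mem A, htA, heA, hteA]
        refine ⟨⟨x, hxA⟩, MonoidHom.mem_ker.2 (Subtype.ext ?_), rfl⟩
        show x ^ 2 = 1
        rw [pow_two]
        rcases hx with rfl | rfl | rfl | rfl
        exacts [one_mul 1, ht2, he2, hte2]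
    have hrange : sq.range ≤ cu.ker := by
      rintro _ ⟨z, rfl⟩
      refine MonoidHom.mem_ker.2 (Subtype.ext ?_)
      show ((z : T) ^ 2) ^ 3 = 1
      exact hcube _ (pow_mem z.2 2) (by rw [pow_two]; exact hoddsq _ z.2)
    have hcu3 : Nat.card cu.ker ≤ 3 := by
      haveI : NeZero n := ⟨D.pos.ne'⟩
      let ψ : cu.ker → {w : Multiplicative (ZMod n) // w ^ 3 = 1} := fun z =>
        ⟨D.φ z.1, by rw [← map_pow, show (z.1 : A) ^ 3 = 1 from MonoidHom.mem_ker.1 z.2, map_one]⟩
      have hψ : Function.Injective ψ := by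
        intro z w h
        rcases D.toRot.eq_or (congrArg Subtype.val h) with e' | e'
        · exact Subtype.ext (Subtype.ext e'.symm)
        · exfalso
          have hz : ((z.1 : A) : T) ^ 3 = 1 := congrArg Subtype.val (MonoidHom.mem_ker.1 z.2)
          have hw : ((w.1 : A) : T) ^ 3 = 1 := congrArg Subtype.val (MonoidHom.mem_ker.1 w.2)
          rw [e', (show Commute t (z.1 : T) from D.comm htA z.1.2).mul_pow, hz, mul_one,
            pow_succ, pow_two, ht2, one_mul] at hw
          exact ht1 hw
      refine (Nat.card_le_card_of_injective ψ hψ).trans ?_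
      rw [Nat.card_eq_fintype_card, Fintype.card_subtype]
      exact IsCyclic.card_pow_eq_one_le three_pos
    have hA12 : Nat.card A = 12 := by
      have h := Subgroup.card_mul_index sq.ker
      rw [Subgroup.index_ker, hker] at h
      have hle := (Subgroup.card_le_of_le hrange).trans hcu3
      have h3 : 3 ∣ Nat.card sq.range := by
        set x : sq.range := ⟨sq ⟨a₀, ha₀⟩, ⟨_, rfl⟩⟩
        have hx : orderOf x = 3 := by
          haveI : Fact (Nat.Prime 3) := ⟨Nat.prime_three⟩
          refine orderOf_eq_prime (Subtype.ext ?_) fun h => ha₀2 ?_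
          · exact MonoidHom.mem_ker.1 (hrange x.2)
          · have := congrArg (fun z : sq.range => ((z : A) : T)) h
            simpa [x, hsq, pow_two] using this
        exact hx ▸ orderOf_dvd_natCard x
      have := Nat.le_of_dvd Nat.card_pos h3
      nlinarith
    have hCA : Nat.card (Cen t) = 24 := by
      rw [D.card_eq le_rfl hs hsA, inf_eq_left.2 D.le, hA12]
    have hCz : Nat.card (centralizer ({t, e} : Set T)) = 12 := by
      rw [show centralizer ({t, e} : Set T) = A from ?_, hA12]
      ext x
      refine ⟨fun hx => ?_, fun hx => mem_centralizer_iff.2 ?_⟩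
      · have hxt : x ∈ Cen t := centralizer_le (by simp) hx
        by_contra hxA
        have hxe : x * e = e * x := (mem_centralizer_iff.1 hx e (by simp)).symm
        have := hanti x hxt hxA
        rw [hxe, mul_inv_cancel_right] at this
        exact htee this.symm
      · rintro y (rfl | rfl)
        · exact D.comm htA hx
        · exact D.comm heA hx
    have hCs : Nat.card (centralizer ({t, s} : Set T)) = 4 := by
      set X := centralizer ({t, s} : Set T)
      have hX : X ≤ Cen t := centralizer_le (by simp)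
      have hsX : s ∈ X := mem_centralizer_iff.2 (by rintro y (rfl | rfl); exacts [hst.symm, rfl])
      rw [D.card_eq hX hsX hsA, show A ⊓ X = zpowers t from ?_, Nat.card_zpowers, ht]
      refine le_antisymm ?_ (zpowers_le.2 ⟨htA, mem_centralizer_iff.2 (by
        rintro y (rfl | rfl); exacts [rfl, hst])⟩)
      rintro x ⟨hxA, hxX⟩
      have hxs : s * x = x * s := mem_centralizer_iff.1 hxX s (by simp)
      have hx2 : x * x = 1 := by
        refine h4no x hxA ?_
        refine pow_four_of_sq ht2 ?_
        have := D.conj s hs hsA x hxA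
        rwa [hxs, mul_inv_cancel_right] at this
      rcases four_of x hxA hx2 with rfl | rfl | rfl | rfl
      · exact one_mem _
      · exact mem_zpowers _
      · rw [hxs, mul_inv_cancel_right] at hse
        exact absurd hse.symm htee
      · exfalso
        have h1 : s * e = e * s := by
          have h2 : t * (s * e) = t * (e * s) := by
            rw [← mul_assoc, ← hst, mul_assoc, hxs]; group
          exact mul_left_cancel h2
        rw [h1, mul_inv_cancel_right] at hse
        exact htee hse.symm
    exact Or.inr (Or.inr (Or.inr (a7_of_centralizer t s e ht hso he hst hte.symm het hse hCA hCs hCz)))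

end CfsgLib.Mitchell
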