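import Cfsg.Agent.Lib.Mitchell.LocalData
import Cfsg.Agent.Lib.Transfer.Basic

/-!
Involution centralisers with cyclic, dihedral, or alternating quotient: first consequences of the
geometric axioms.
-/

set_option autoImplicit false

namespace CfsgLib.Mitchell

open Subgroup

universe u

variable {T : Type u} [Group T]

theorem sq_eq_one_of_orderOf {t : T} (ht : orderOf t = 2) : t * t = 1 := by
  rw [← pow_two, ← ht, pow_orderOf_eq_one]

theorem ne_one_of_orderOf {t : T} (ht : orderOf t = 2) : t ≠ 1 := fun h => by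
  rw [h, orderOf_one] at ht; omega

theorem orderOf_two_of_sq {t : T} (h : t * t = 1) (h1 : t ≠ 1) : orderOf t = 2 :=
  orderOf_eq_prime (by rw [pow_two, h]) h1

theorem inv_of_sq {t : T} (h : t * t = 1) : t⁻¹ = t := inv_eq_of_mul_eq_one_right h

theorem mem_cen {t x : T} : x ∈ Cen t ↔ x * t = t * x := mem_centralizer_singleton_iff

/-- A square root of an involution centralises no further involution. -/
theorem LocalData.no_four (hd : LocalData T) {e y : T} (he : orderOf e = 2)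
    (hy : y * y * (y * y) = 1) (hy2 : y * y ≠ 1) (hne : e ≠ y * y) (hc : y * e = e * y) : False :=
  hd.no_sqrt (y * y) e y (orderOf_two_of_sq hy hy2) he hne
    (show Commute e (y * y) from ((show Commute e y from hc.symm).mul_right hc.symm)).eq hc rfl

theorem cyclic_sq_unique {Z : Type*} [Group Z] [Finite Z] [IsCyclic Z] {a b : Z} (ha : a * a = 1)
    (hb : b * b = 1) (ha1 : a ≠ 1) (hb1 : b ≠ 1) : a = b := by
  classical
  let _ := Fintype.ofFinite Z
  by_contra h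
  have h2 := IsCyclic.card_pow_eq_one_le (α := Z) (n := 2) two_pos
  have hsub : ({1, a, b} : Finset Z) ⊆ Finset.univ.filter fun z => z ^ 2 = 1 := by
    intro z hz
    simp only [Finset.mem_insert, Finset.mem_singleton] at hz
    rcases hz with rfl | rfl | rfl <;> simp [pow_two, ha, hb]
  have h3 := (Finset.card_le_card hsub).trans h2
  rw [Finset.card_insert_of_notMem (by simp [ha1.symm, hb1.symm]),
    Finset.card_insert_of_notMem (by simp [h]), Finset.card_singleton] at h3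
  omega

/-- A subgroup of `C(t)` with cyclic image modulo `⟨t⟩`. -/
structure Rot (t : T) (A : Subgroup T) (n : ℕ) where
  le : A ≤ Cen t
  mem : t ∈ A
  φ : A →* Multiplicative (ZMod n)
  ker : ∀ x : A, φ x = 1 → (x : T) = 1 ∨ (x : T) = t

theorem Rot.comm {t : T} {A : Subgroup T} {n : ℕ} (R : Rot t A n) {x y : T} (hx : x ∈ A)
    (hy : y ∈ A) : x * y = y * x := by
  have h := commutative_of_cyclic_center_quotient R.φ (fun z hz => Subgroup.mem_center_iff.2 fun w =>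
    Subtype.ext (by
      show (w : T) * z = z * w
      rcases R.ker z (MonoidHom.mem_ker.1 hz) with e | e <;> rw [e]
      · simp
      · exact mem_cen.1 (R.le w.2))) ⟨x, hx⟩ ⟨y, hy⟩
  exact congrArg Subtype.val h

theorem Rot.eq_or {t : T} {A : Subgroup T} {n : ℕ} (R : Rot t A n) {x y : A} (h : R.φ x = R.φ y) :
    (y : T) = x ∨ (y : T) = t * x := by
  rcases R.ker (y * x⁻¹) (by rw [map_mul, map_inv, h, mul_inv_cancel]) with e | e
  · left
    rw [Subgroup.coe_mul, Subgroup.coe_inv, mul_inv_eq_one] at e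
    exact e
  · right
    rw [Subgroup.coe_mul, Subgroup.coe_inv, mul_inv_eq_iff_eq_mul] at e
    exact e

theorem Rot.involution {t : T} {A : Subgroup T} {n : ℕ} (hn : 0 < n) (R : Rot t A n) {e u : T}
    (he : e ∈ A) (hu : u ∈ A) (hee : e * e = 1) (huu : u * u = 1) (he1 : e ≠ 1) (het : e ≠ t)
    (hu1 : u ≠ 1) (hut : u ≠ t) : u = e ∨ u = t * e := by
  haveI : NeZero n := ⟨hn.ne'⟩
  have key : ∀ z : A, (z : T) * z = 1 → (z : T) ≠ 1 → (z : T) ≠ t →
      R.φ z * R.φ z = 1 ∧ R.φ z ≠ 1 := fun z h h1 h2 =>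
    ⟨by rw [← map_mul, show z * z = 1 from Subtype.ext h, map_one],
      fun e => (R.ker z e).elim h1 h2⟩
  obtain ⟨a1, a2⟩ := key ⟨e, he⟩ hee he1 het
  obtain ⟨b1, b2⟩ := key ⟨u, hu⟩ huu hu1 hut
  exact R.eq_or (x := ⟨e, he⟩) (y := ⟨u, hu⟩) (cyclic_sq_unique a1 b1 a2 b2)

/-- The data of a centraliser with dihedral quotient: `A` is the preimage of the rotations. -/
structure Dih (t : T) (A : Subgroup T) (n : ℕ) extends Rot t A n where
  pos : 0 < n
  outside : ∀ x ∈ Cen t, x ∉ A → x * x = 1 ∨ x * x = t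
  mul : ∀ x ∈ Cen t, ∀ y ∈ Cen t, x ∉ A → y ∉ A → x * y ∈ A
  conj : ∀ s ∈ Cen t, s ∉ A → ∀ a ∈ A, s * a * s⁻¹ * a = 1 ∨ s * a * s⁻¹ * a = t
  exists_outside : ∃ s ∈ Cen t, s ∉ A

/-- The index of a rotation. -/
def rotIdx {n : ℕ} : DihedralGroup n → ZMod n
  | .r i => i
  | .sr i => i

theorem QuotBy.exists_dih {t : T} (ht : orderOf t = 2) {n : ℕ} (hn : 0 < n)
    (h : QuotBy t (DihedralGroup n)) : ∃ A : Subgroup T, Nonempty (Dih t A n) := by
  obtain ⟨f, hf, hk⟩ := h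
  let A : Subgroup T :=
    { carrier := {x | ∃ h : x ∈ Cen t, ∃ i, f ⟨x, h⟩ = DihedralGroup.r i}
      one_mem' := ⟨one_mem _, 0, (map_one f).trans DihedralGroup.one_def⟩
      mul_mem' := by
        rintro x y ⟨hx, i, hi⟩ ⟨hy, j, hj⟩
        exact ⟨mul_mem hx hy, i + j, by
          rw [show (⟨x * y, mul_mem hx hy⟩ : Cen t) = ⟨x, hx⟩ * ⟨y, hy⟩ from rfl, map_mul, hi, hj,
            DihedralGroup.r_mul_r]⟩
      inv_mem' := by
        rintro x ⟨hx, i, hi⟩
        exact ⟨inv_mem hx, -i, by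
          rw [show (⟨x⁻¹, inv_mem hx⟩ : Cen t) = ⟨x, hx⟩⁻¹ from rfl, map_inv, hi,
            DihedralGroup.inv_r]⟩ }
  have htC : t ∈ Cen t := mem_cen.2 rfl
  have ht1 : f ⟨t, htC⟩ = 1 := (hk _).2 (Or.inr rfl)
  have hnot : ∀ x (hx : x ∈ Cen t), x ∉ A → ∃ i, f ⟨x, hx⟩ = DihedralGroup.sr i := by
    intro x hx hxA
    rcases he : f ⟨x, hx⟩ with i | i
    · exact absurd ⟨hx, i, he⟩ hxA
    · exact ⟨i, rfl⟩
  have hin : ∀ x : A, ∃ i, f ⟨x, x.2.1⟩ = DihedralGroup.r i := fun x => x.2.2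
  let φ : A →* Multiplicative (ZMod n) :=
    { toFun := fun x => Multiplicative.ofAdd (rotIdx (f ⟨x, x.2.1⟩))
      map_one' := by
        rw [show (⟨((1 : A) : T), (1 : A).2.1⟩ : Cen t) = 1 from rfl, map_one, DihedralGroup.one_def]
        rfl
      map_mul' := fun x y => by
        obtain ⟨i, hi⟩ := hin x
        obtain ⟨j, hj⟩ := hin y
        rw [show (⟨((x * y : A) : T), (x * y).2.1⟩ : Cen t) = ⟨x, x.2.1⟩ * ⟨y, y.2.1⟩ from rfl,
          map_mul, hi, hj, DihedralGroup.r_mul_r]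
        rfl }
  refine ⟨A, ⟨⟨⟨fun x hx => hx.1, ⟨htC, 0, ht1.trans DihedralGroup.one_def⟩, φ, fun x hx => ?_⟩,
    hn, fun x hx hxA => ?_, fun x hx y hy hxA hyA => ?_, fun s hs hsA a ha => ?_, ?_⟩⟩⟩
  · obtain ⟨i, hi⟩ := hin x
    have h0 : rotIdx (f ⟨x, x.2.1⟩) = 0 := hx
    rw [hi] at h0
    exact (hk ⟨x, x.2.1⟩).1 (by rw [hi, show i = 0 from h0, DihedralGroup.one_def])
  · obtain ⟨i, hi⟩ := hnot x hx hxA
    exact (hk (⟨x, hx⟩ * ⟨x, hx⟩)).1 (by rw [map_mul, hi, DihedralGroup.sr_mul_self])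
  · obtain ⟨i, hi⟩ := hnot x hx hxA
    obtain ⟨j, hj⟩ := hnot y hy hyA
    exact ⟨mul_mem hx hy, j - i, by
      rw [show (⟨x * y, mul_mem hx hy⟩ : Cen t) = ⟨x, hx⟩ * ⟨y, hy⟩ from rfl, map_mul, hi, hj,
        DihedralGroup.sr_mul_sr]⟩
  · obtain ⟨i, hi⟩ := hnot s hs hsA
    obtain ⟨hac, j, hj⟩ := ha
    exact (hk (⟨s, hs⟩ * ⟨a, hac⟩ * ⟨s, hs⟩⁻¹ * ⟨a, hac⟩)).1 (by
      rw [map_mul, map_mul, map_mul, map_inv, hi, hj, DihedralGroup.inv_sr, DihedralGroup.sr_mul_r,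
        DihedralGroup.sr_mul_sr, DihedralGroup.r_mul_r, DihedralGroup.one_def]
      congr 1
      abel)
  · obtain ⟨y, hy⟩ := hf (DihedralGroup.sr 0)
    refine ⟨y, y.2, fun hA => ?_⟩
    obtain ⟨h', i, hi⟩ := hA
    rw [hy] at hi
    cases hi

/-- Subgroups of `C(t)` outside `A` meet `A` in index two. -/
theorem Dih.relIndex_two {t : T} {A : Subgroup T} {n : ℕ} (D : Dih t A n) {X : Subgroup T}
    (hX : X ≤ Cen t) {x : T} (hx : x ∈ X) (hxA : x ∉ A) : A.relIndex X = 2 := by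
  rw [relIndex, index_eq_two_iff]
  refine ⟨⟨x, hx⟩, fun b => ?_⟩
  rw [mem_subgroupOf, mem_subgroupOf, Subgroup.coe_mul]
  by_cases hb : (b : T) ∈ A
  · refine Or.inr ⟨hb, fun h => hxA ?_⟩
    simpa using A.mul_mem (A.inv_mem hb) h
  · exact Or.inl ⟨D.mul _ (hX b.2) _ (hX hx) hb hxA, hb⟩

theorem Dih.card_eq [Finite T] {t : T} {A : Subgroup T} {n : ℕ} (D : Dih t A n) {X : Subgroup T}
    (hX : X ≤ Cen t) {x : T} (hx : x ∈ X) (hxA : x ∉ A) :
    Nat.card X = 2 * Nat.card ↥(A ⊓ X) := by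
  have h := Subgroup.card_mul_index (A.subgroupOf X)
  rw [show (A.subgroupOf X).index = 2 from D.relIndex_two hX hx hxA, ← inf_subgroupOf_right,
    Nat.card_congr (subgroupOfEquivOfLe (inf_le_right : A ⊓ X ≤ X)).toEquiv] at h
  omega

/-- An involution conjugate into a subgroup of index two of a Sylow 2-subgroup of a simple group. -/
theorem exists_conj_into [Finite T] [IsSimpleGroup T] (hna : ¬ IsMulCommutative T) (P : Sylow 2 T)
    (Q : Subgroup T) (hQ : Q.relIndex (P : Subgroup T) = 2) {u : T} (hu : u * u = 1) :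
    ∃ g : T, g * u * g⁻¹ ∈ (P : Subgroup T) ∧ g * u * g⁻¹ ∈ Q := by
  by_contra hcon
  push Not at hcon
  obtain ⟨M, hM, hM2, -⟩ := CfsgLib.Transfer.thompson_transfer P Q hQ u (by rw [pow_two, hu]) hcon
  rcases hM.eq_bot_or_eq_top with h | h
  · rw [h, index_bot] at hM2
    haveI := Fact.mk Nat.prime_two
    haveI : IsCyclic T := isCyclic_of_prime_card hM2
    exact hna inferInstance
  · rw [h, index_top] at hM2
    omega

/-- Lifts of a Klein four group permuted by an element of order three contradict a second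
involution. -/
theorem false_of_klein_quot (hd : LocalData T) {H : Type} [Group H] {t : T} (ht : orderOf t = 2)
    (hq : QuotBy t H)
    (hH : ∃ a b w : H, a * a = 1 ∧ b * b = 1 ∧ a ≠ 1 ∧ b ≠ 1 ∧ a ≠ b ∧ a * b = b * a ∧
      w * a * w⁻¹ = b ∧ w * b * w⁻¹ = a * b ∧ ∀ u : H, u * u = 1 → u ≠ 1 → ∃ g : H, g * a * g⁻¹ = u)
    {v : T} (hv : orderOf v = 2) (hvC : v ∈ Cen t) (hvt : v ≠ t) : False := by
  obtain ⟨f, hf, hk⟩ := hq
  obtain ⟨a, b, w, ha, hb, ha1, hb1, hab, hcomm, hwa, hwb, hall⟩ := hH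
  obtain ⟨X, rfl⟩ := hf a
  obtain ⟨Y, rfl⟩ := hf b
  obtain ⟨W, rfl⟩ := hf w
  have htC : t ∈ Cen t := mem_cen.2 rfl
  have hcen : ∀ Z : Cen t, Commute (Z : T) t := fun Z => mem_cen.1 Z.2
  have ht2 := sq_eq_one_of_orderOf ht
  have hsq : ∀ Z : Cen t, f Z * f Z = 1 → (Z : T) * Z = 1 ∨ (Z : T) * Z = t := fun Z h =>
    (hk (Z * Z)).1 (by rw [map_mul, h])
  have hker : ∀ Z Z' : Cen t, f Z' = f Z → (Z' : T) = Z ∨ (Z' : T) = t * Z := fun Z Z' h => by
    rcases (hk (Z' * Z⁻¹)).1 (by rw [map_mul, map_inv, h, mul_inv_cancel]) with e | e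
    · left; exact mul_inv_eq_one.1 e
    · right; exact mul_inv_eq_iff_eq_mul.1 e
  have hne1 : ∀ Z : Cen t, f Z ≠ 1 → (Z : T) ≠ 1 ∧ (Z : T) ≠ t := fun Z h =>
    ⟨fun e => h ((hk Z).2 (Or.inl e)), fun e => h ((hk Z).2 (Or.inr e))⟩
  have hsame : ∀ Z Z' : Cen t, f Z' = f Z → (Z' : T) * Z' = (Z : T) * Z := fun Z Z' h => by
    rcases hker Z Z' h with e | e <;> rw [e]
    rw [mul_assoc, ← mul_assoc (Z : T) t, (hcen Z).eq, mul_assoc, ← mul_assoc t t, ht2, one_mul]
  -- the squares of the three lifts agree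
  have hconj : ∀ G Z : Cen t, f Z * f Z = 1 →
      ((G * Z * G⁻¹ : Cen t) : T) * ((G * Z * G⁻¹ : Cen t) : T) = (Z : T) * Z := fun G Z h => by
    rw [← Subgroup.coe_mul, show G * Z * G⁻¹ * (G * Z * G⁻¹) = G * (Z * Z) * G⁻¹ by group]
    push_cast
    rcases hsq Z h with e | e <;> rw [e]
    · simp
    · rw [(hcen G).eq, mul_inv_cancel_right]
  have hXY : (Y : T) * Y = (X : T) * X := by
    rw [← hconj W X ha]
    exact (hsame _ _ (by rw [map_mul, map_mul, map_inv, hwa])).symm.symm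
  have hXYY : ((X * Y : Cen t) : T) * ((X * Y : Cen t) : T) = (Y : T) * Y := by
    rw [← hconj W Y hb]
    exact hsame _ _ (by rw [map_mul, map_mul, map_mul, map_inv, hwb])
  have hanti : (X : T) * Y ≠ Y * X := by
    refine hd.anticomm t _ _ ht X.2 Y.2 (hsq X ha) (hsq Y hb) (hne1 X ha1).1 (hne1 X ha1).2
      (hne1 Y hb1).1 (hne1 Y hb1).2 (fun e => hab (congrArg f (Subtype.ext e)).symm) fun e => hab ?_
    rw [show Y = ⟨t, htC⟩ * X from Subtype.ext e, map_mul, (hk ⟨t, htC⟩).2 (Or.inr rfl), one_mul]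
  have hswap : (Y : T) * X = t * (X * Y) := by
    rcases hker (X * Y) (Y * X) (by rw [map_mul, map_mul, hcomm]) with e | e
    · exact absurd (e : (Y : T) * X = X * Y).symm hanti
    · exact e
  have hXX : (X : T) * X = t := by
    have e : ((X * Y : Cen t) : T) * ((X * Y : Cen t) : T) = t * ((X : T) * X * ((Y : T) * Y)) := by
      push_cast
      calc (X : T) * Y * (X * Y) = X * ((Y : T) * X) * Y := by group
        _ = (X : T) * t * (X * Y * Y) := by rw [hswap]; group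
        _ = t * ((X : T) * X * ((Y : T) * Y)) := by rw [(hcen X).eq]; group
    rw [hXYY] at e
    rw [← mul_assoc] at e
    have e1 : t * ((X : T) * X) = 1 := mul_eq_right.1 e.symm
    calc (X : T) * X = t * (t * ((X : T) * X)) := by rw [← mul_assoc, ht2, one_mul]
      _ = t := by rw [e1, mul_one]
  set V : Cen t := ⟨v, hvC⟩
  have hv2 := sq_eq_one_of_orderOf hv
  have hfV : f V * f V = 1 := by
    rw [← map_mul]; exact (hk _).2 (Or.inl hv2)
  have hfV1 : f V ≠ 1 := fun e => ((hk V).1 e).elim (ne_one_of_orderOf hv) hvt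
  obtain ⟨g, hg⟩ := hall _ hfV hfV1
  obtain ⟨G, rfl⟩ := hf g
  have h := hsame _ _ (show f V = f (G * X * G⁻¹) by rw [map_mul, map_mul, map_inv, hg])
  rw [hconj G X ha, hXX] at h
  exact ne_one_of_orderOf ht (h.symm.trans hv2)

end CfsgLib.Mitchell
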