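import Cfsg.Agent.Lib.Mitchell.LocalRecogDihedral

/-!
Simple groups with an involution centraliser which is, modulo the involution, dihedral, with a
single involution among the rotations: the Brauer–Suzuki–Wall situation.
-/

set_option autoImplicit false
set_option linter.style.haveILetI false

namespace CfsgLib.Mitchell

open Subgroup

universe u

variable {T : Type u} [Group T] [Finite T]

theorem exists_pow_two_odd (a : T) : ∃ k m : ℕ, Odd m ∧ orderOf a = 2 ^ k * m :=
  let ⟨k, m, hm, h⟩ := Nat.exists_eq_two_pow_mul_odd (orderOf_pos a).ne'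
  ⟨k, m, hm, h⟩

theorem dihedral_unique [IsSimpleGroup T] (hna : ¬ IsMulCommutative T) (hd : LocalData T) {t : T}
    (ht : orderOf t = 2) (S : Sylow 2 T) (hS : (S : Subgroup T) ≤ Cen t) (htS : t ∈ (S : Subgroup T))
    {v : T} (hv : orderOf v = 2) (hvS : v ∈ (S : Subgroup T)) (hvt : v ≠ t)
    {A : Subgroup T} {n : ℕ} (D : Dih t A n)
    (huni : ∀ u ∈ A, u * u = 1 → u = 1 ∨ u = t) : RecogConcl T := by
  haveI := Fact.mk Nat.prime_two
  have ht2 := sq_eq_one_of_orderOf ht
  have ht1 := ne_one_of_orderOf ht
  have hv2 := sq_eq_one_of_orderOf hv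
  have hv1 := ne_one_of_orderOf hv
  have hvC : v ∈ Cen t := hS hvS
  have hvA : v ∉ A := fun h => (huni v h hv2).elim hv1 hvt
  have htA : t ∈ A := D.mem
  have hvv : v⁻¹ = v := inv_of_sq hv2
  have hvtc : v * t = t * v := mem_cen.1 hvC
  have hidx : (A ⊓ (S : Subgroup T)).relIndex (S : Subgroup T) = 2 := by
    rw [inf_relIndex_right]
    exact D.relIndex_two hS hvS hvA
  by_cases hinv : ∀ a ∈ A, v * a * v⁻¹ = a⁻¹
  · -- the Brauer–Suzuki–Wall configuration
    have hclass : ∀ u : T, orderOf u = 2 → IsConj u t := by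
      intro u hu
      have hu2 := sq_eq_one_of_orderOf hu
      obtain ⟨g, -, hg⟩ := exists_conj_into hna S _ hidx hu2
      refine isConj_iff.2 ⟨g, (huni _ hg.1 ?_).resolve_left fun h =>
        ne_one_of_orderOf hu (conj_eq_one_iff.1 h)⟩
      rw [show g * u * g⁻¹ * (g * u * g⁻¹) = g * (u * u) * g⁻¹ by group, hu2, mul_one,
        mul_inv_cancel]
    have hset : CfsgLib.BSW.Setup A t v :=
      { ht := ht
        hs := hv
        htK := htA
        hsK := hvA
        comm := fun x hx y hy => D.comm hx hy
        inv := hinv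
        cent := by
          refine le_antisymm (fun x hx => ?_) (sup_le D.le (zpowers_le.2 hvC))
          by_cases hxA : x ∈ A
          · exact mem_sup_left hxA
          · have h1 := mul_mem (mem_sup_left (D.mul x hx v hvC hxA hvA) : x * v ∈ A ⊔ zpowers v)
              (mem_sup_right (mem_zpowers v))
            rwa [mul_assoc, hv2, mul_one] at h1
        fix := fun x hx hc => huni x hx (by
          have h := hinv x hx
          rw [← hc, mul_inv_cancel_right] at h
          exact eq_inv_iff_mul_eq_one.1 h)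
        hti := by
          intro g x hg hx hgx
          by_contra hx1
          by_cases hxt : x = t
          · subst hxt
            have h := (huni _ hgx (by
              rw [show g * x * g⁻¹ * (g * x * g⁻¹) = g * (x * x) * g⁻¹ by group, ht2, mul_one,
                mul_inv_cancel])).resolve_left fun h => ht1 (conj_eq_one_iff.1 h)
            exact hg (mem_cen.2 (mul_inv_eq_iff_eq_mul.1 h))
          have hxx : x * x ≠ 1 := fun h => (huni x hx h).elim hx1 hxt
          set y := g⁻¹ * t * g with hy
          have hy2 : y * y = 1 := by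
            rw [hy, show g⁻¹ * t * g * (g⁻¹ * t * g) = g⁻¹ * (t * t) * g by group, ht2, mul_one,
              inv_mul_cancel]
          have hyx : y * x = x * y := by
            calc y * x = g⁻¹ * (t * (g * x * g⁻¹)) * g := by rw [hy]; group
              _ = g⁻¹ * (g * x * g⁻¹ * t) * g := by rw [D.comm htA hgx]
              _ = x * y := by rw [hy]; group
          have hyC : y ∈ Cen t := hd.ti t v x y ht hvC (D.le hx) hx1 hxt (hinv x hx) hyx hxx
            ⟨1, by rw [one_mul, mul_one], by rw [one_mul, inv_one, mul_one, inv_of_sq hy2]⟩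
          by_cases hyA : y ∈ A
          · have h := (huni y hyA hy2).resolve_left fun h => ht1 (by
              rw [show t = g * y * g⁻¹ by rw [hy]; group, h, mul_one, mul_inv_cancel])
            refine hg (mem_cen.2 ?_)
            calc g * t = g * y := by rw [h]
              _ = t * g := by rw [hy]; group
          · have hya : y * v ∈ A := D.mul y hyC v hvC hyA hvA
            refine hxx ?_
            have h1 : y * x * y⁻¹ = x⁻¹ := by
              calc y * x * y⁻¹ = y * v * (v * x * v⁻¹) * (y * v)⁻¹ := by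
                    rw [show y * v * (v * x * v⁻¹) * (y * v)⁻¹ = y * (v * v) * x * (v * v)⁻¹ * y⁻¹ by
                      group, hv2, inv_one, mul_one, mul_one]
                _ = x⁻¹ := by rw [hinv x hx, D.comm hya (inv_mem hx), mul_inv_cancel_right]
            rw [hyx, mul_inv_cancel_right] at h1
            exact eq_inv_iff_mul_eq_one.1 h1
        hconj := fun x y hx hy => (hclass x hx).trans (hclass y hy).symm }
    exact Or.inl (CfsgLib.BSW.psl_of_concl (CfsgLib.BSW.concl_of_setup hset))
  · -- semidihedral Sylow subgroups are impossible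
    exfalso
    push Not at hinv
    obtain ⟨a, ha, hane⟩ := hinv
    have hat : v * a * v⁻¹ = t * a⁻¹ := by
      rcases D.conj v hvC hvA a ha with h | h
      · exact absurd (eq_inv_of_mul_eq_one_left h) hane
      · exact eq_mul_inv_of_mul_eq h
    haveI : IsMulCommutative A := ⟨⟨fun a b => Subtype.ext (D.comm a.2 b.2)⟩⟩
    set B := A ⊓ (S : Subgroup T) with hB
    -- `B` is cyclic
    haveI : NeZero n := ⟨D.pos.ne'⟩
    obtain ⟨b, hbB, hgen⟩ : ∃ b ∈ B, B = zpowers b := by
      obtain ⟨c, hc⟩ := IsCyclic.exists_generator (α := (D.φ.comp (inclusion (inf_le_left : B ≤ A))).range)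
      obtain ⟨b, hb⟩ := c.2
      have hcase : ∀ x ∈ B, ∃ i : ℤ, x = (b : T) ^ i ∨ x = t * (b : T) ^ i := by
        intro x hx
        obtain ⟨i, hi⟩ := hc ⟨_, ⟨⟨x, hx⟩, rfl⟩⟩
        refine ⟨i, ?_⟩
        have hi' : D.φ (inclusion (inf_le_left : B ≤ A) (b ^ i)) =
            D.φ (inclusion (inf_le_left : B ≤ A) ⟨x, hx⟩) := by
          have := congrArg Subtype.val hi
          simpa [← hb, map_zpow] using this
        simpa using D.toRot.eq_or hi'
      by_cases hbt : t ∈ zpowers (b : T)
      · refine ⟨b, b.2, le_antisymm (fun x hx => ?_) (zpowers_le.2 b.2)⟩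
        obtain ⟨i, rfl | rfl⟩ := hcase x hx
        · exact zpow_mem (mem_zpowers _) i
        · exact mul_mem hbt (zpow_mem (mem_zpowers _) i)
      · have hb1 : (b : T) = 1 := by
          by_contra hb1
          obtain ⟨k, hk⟩ := (IsPGroup.iff_orderOf.1 S.isPGroup') ⟨b, b.2.2⟩
          rw [Subgroup.orderOf_mk] at hk
          have hk0 : k ≠ 0 := fun h => hb1 (orderOf_eq_one_iff.1 (by rw [hk, h, pow_zero]))
          obtain ⟨j, rfl⟩ := Nat.exists_eq_succ_of_ne_zero hk0
          have ho : orderOf ((b : T) ^ 2 ^ j) = 2 := by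
            rw [orderOf_pow_of_dvd (pow_ne_zero _ two_ne_zero) (by rw [hk]; exact pow_dvd_pow 2 j.le_succ),
              hk, pow_succ, Nat.mul_div_cancel_left _ (pow_pos two_pos j)]
          refine hbt ?_
          rw [← (huni _ (pow_mem b.2.1 _) (sq_eq_one_of_orderOf ho)).resolve_left
            (ne_one_of_orderOf ho)]
          exact pow_mem (mem_zpowers _) _
        refine ⟨t, ⟨htA, htS⟩, le_antisymm (fun x hx => ?_) (zpowers_le.2 ⟨htA, htS⟩)⟩
        obtain ⟨i, rfl | rfl⟩ := hcase x hx <;> rw [hb1, one_zpow]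
        · exact one_mem _
        · rw [mul_one]; exact mem_zpowers t
    obtain ⟨hbA, hbS⟩ := hbB
    -- `v` inverts `B` twisted by `t`
    have hbt : v * b * v⁻¹ = t * b⁻¹ := by
      rcases D.conj v hvC hvA b hbA with h | h
      swap
      · exact eq_mul_inv_of_mul_eq h
      exfalso
      obtain ⟨k, m, ⟨j, rfl⟩, hkm⟩ := exists_pow_two_odd a
      set z := a ^ (2 * j + 1) with hz
      have hz2 : z ^ 2 ^ k = 1 := by
        rw [hz, ← pow_mul, mul_comm, ← hkm, pow_orderOf_eq_one]
      have hzA : z ∈ A := pow_mem ha _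
      have hzB : z ∈ B := by
        have hP : IsPGroup 2 (B ⊔ zpowers z : Subgroup T) := by
          refine IsPGroup.to_sup_of_normal_left' (S.isPGroup'.to_le inf_le_right) ?_ ?_
          · obtain ⟨i, -, hi⟩ := (Nat.dvd_prime_pow Nat.prime_two).1 (orderOf_dvd_of_pow_eq_one hz2)
            exact IsPGroup.of_card (n := i) (by rw [Nat.card_zpowers, hi])
          · refine zpowers_le.2 (mem_normalizer_iff.2 fun x => ⟨fun hx => ?_, fun hx => ?_⟩)
            · rwa [D.comm hzA hx.1, mul_inv_cancel_right]
            · have hxA : x ∈ A := by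
                simpa [mul_assoc] using mul_mem (mul_mem (inv_mem hzA) hx.1) hzA
              rwa [D.comm hzA hxA, mul_inv_cancel_right] at hx
        -- conjugate the join into `S` inside `C(t)`
        have hle : B ⊔ zpowers z ≤ Cen t := (sup_le inf_le_left (zpowers_le.2 hzA)).trans D.le
        obtain ⟨P, hP'⟩ := (hP.comap_subtype (K := Cen t)).exists_le_sylow
        obtain ⟨g, hg⟩ := MulAction.exists_smul_eq (Cen t) P (S.subtype hS)
        have hmem : ((g : T) * z * (g : T)⁻¹) ∈ (S : Subgroup T) := by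
          have h1 : (⟨z, D.le hzA⟩ : Cen t) ∈ (P : Subgroup (Cen t)) :=
            hP' (show z ∈ B ⊔ zpowers z from mem_sup_right (mem_zpowers z))
          have h2 : g * ⟨z, D.le hzA⟩ * g⁻¹ ∈ (S.subtype hS : Subgroup (Cen t)) := by
            rw [← hg]
            exact Subgroup.smul_mem_pointwise_smul _ _ _ h1
          exact h2
        by_cases hgA : (g : T) ∈ A
        · rw [D.comm hgA hzA, mul_inv_cancel_right] at hmem
          exact ⟨hzA, hmem⟩
        · have hgv : (g : T) * v ∈ A := D.mul g g.2 v hvC hgA hvA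
          have h1 : (g : T) * z * (g : T)⁻¹ = v * z * v⁻¹ := by
            have hvzA : v * z * v⁻¹ ∈ A := by
              rcases D.conj v hvC hvA z hzA with h | h
              · rw [eq_inv_of_mul_eq_one_left h]; exact inv_mem hzA
              · rw [eq_mul_inv_of_mul_eq h]; exact mul_mem htA (inv_mem hzA)
            calc (g : T) * z * (g : T)⁻¹ = g * v * (v * z * v⁻¹) * (g * v)⁻¹ := by
                  rw [show (g : T) * v * (v * z * v⁻¹) * (g * v)⁻¹
                    = g * (v * v) * z * (v * v)⁻¹ * (g : T)⁻¹ by group, hv2, inv_one, mul_one, mul_one]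
              _ = v * z * v⁻¹ := by rw [D.comm hgv hvzA, mul_inv_cancel_right]
          rw [h1] at hmem
          have := mul_mem (mul_mem (inv_mem hvS) hmem) hvS
          rw [show v⁻¹ * (v * z * v⁻¹) * v = z by group] at this
          exact ⟨hzA, this⟩
      rw [hgen] at hzB
      obtain ⟨i, hi⟩ := hzB
      simp only at hi
      have h1 : v * z * v⁻¹ = z⁻¹ := by
        rw [← hi, ← conj_zpow, eq_inv_of_mul_eq_one_left h, inv_zpow]
      have hc : Commute t a⁻¹ := D.comm htA (inv_mem ha)
      rw [hz, ← conj_pow, hat, hc.mul_pow, inv_pow, pow_succ t, pow_mul, pow_two, ht2, one_pow,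
        one_mul] at h1
      exact ht1 (mul_eq_right.1 h1)
    -- the Sylow subgroup
    obtain ⟨k, hk⟩ := (IsPGroup.iff_orderOf.1 S.isPGroup') ⟨b, hbS⟩
    rw [Subgroup.orderOf_mk] at hk
    obtain ⟨i, hi⟩ := (show t ∈ zpowers b from hgen ▸ (⟨htA, htS⟩ : t ∈ B))
    simp only at hi
    have hk0 : k ≠ 0 := fun h0 => ht1 (by
      rw [← hi, show b = 1 from orderOf_eq_one_iff.1 (by rw [hk, h0, pow_zero]), one_zpow])
    obtain ⟨j, rfl⟩ := Nat.exists_eq_succ_of_ne_zero hk0
    have htb : b ^ 2 ^ j = t := by
      have ho : orderOf (b ^ 2 ^ j) = 2 := by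
        rw [orderOf_pow_of_dvd (pow_ne_zero _ two_ne_zero) (by rw [hk]; exact pow_dvd_pow 2 j.le_succ),
          hk, pow_succ, Nat.mul_div_cancel_left _ (pow_pos two_pos j)]
      exact (huni _ (pow_mem hbA _) (sq_eq_one_of_orderOf ho)).resolve_left (ne_one_of_orderOf ho)
    rcases Nat.lt_or_ge j 2 with hj | hj
    · interval_cases j
      · rw [pow_zero, pow_one] at htb
        rw [htb, mul_inv_cancel, hvtc, mul_inv_cancel_right] at hbt
        exact ht1 hbt
      · rw [pow_one, pow_two] at htb
        refine hd.no_sqrt t v b ht hv hvt hvtc ?_ htb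
        have h1 : v * b * v⁻¹ = b := by rw [hbt, ← htb, mul_assoc, mul_inv_cancel, mul_one]
        exact (mul_inv_eq_iff_eq_mul.1 h1).symm
    have hScard : Nat.card (S : Subgroup T) = 2 ^ (j + 1 + 1) := by
      rw [D.card_eq hS hvS hvA, ← hB, hgen, Nat.card_zpowers, hk, Nat.succ_eq_add_one, pow_succ 2 (j + 1)]; ring
    have hQD : Cfsg.IsQuasiDihedral (S : Subgroup T) := by
      refine ⟨j + 1, by omega, hScard, ⟨b, hbS⟩, ⟨v, hvS⟩, ?_, ?_, Subtype.ext ?_⟩
      · rw [Subgroup.orderOf_mk, hk]
      · rw [Subgroup.orderOf_mk, hv]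
      · push_cast
        rw [hbt, ← htb, pow_sub _ (Nat.one_le_two_pow), pow_one]
    obtain ⟨R, -, ⟨K, -, ⟨-, hK2, hKQ⟩⟩, -⟩ := Cfsg.Agent.S1213.result S (Or.inl hQD)
      (fun H hH => by
        haveI := normal_of_index_eq_two hH
        rcases (inferInstance : H.Normal).eq_bot_or_eq_top with h | h <;> rw [h] at hH
        · rw [index_bot] at hH
          haveI : IsCyclic T := isCyclic_of_prime_card hH
          exact hna inferInstance
        · rw [index_top] at hH; omega) t ht
    have hKA : ∀ x ∈ K, (x : T) ∈ A := by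
      by_contra hcon
      push Not at hcon
      obtain ⟨x, hxK, hxA⟩ := hcon
      refine hK2 (A.comap ((Cen t).subtype.comp K.subtype)) ?_
      rw [index_comap]
      exact D.relIndex_two (x := (x : T)) (by rintro _ ⟨y, rfl⟩; exact y.1.2) ⟨⟨x, hxK⟩, rfl⟩ hxA
    obtain ⟨P⟩ := (inferInstance : Nonempty (Sylow 2 K))
    obtain ⟨m, hm, ⟨e⟩⟩ := hKQ P
    have hcomm : ∀ p q : QuaternionGroup (2 ^ m), p * q = q * p := fun p q => by
      have : e.symm p * e.symm q = e.symm q * e.symm p :=
        Subtype.ext (Subtype.ext (Subtype.ext (D.comm (hKA _ (e.symm p).1.2) (hKA _ (e.symm q).1.2))))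
      simpa using congrArg e this
    have h := hcomm (.a 1) (.xa 0)
    rw [QuaternionGroup.a_mul_xa, QuaternionGroup.xa_mul_a, QuaternionGroup.xa.injEq, zero_sub,
      zero_add] at h
    haveI : Fact (2 < 2 * 2 ^ m) := ⟨by
      have := Nat.pow_le_pow_right two_pos hm
      rw [pow_one] at this; omega⟩
    exact ZMod.neg_one_ne_one h

end CfsgLib.Mitchell
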