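import Cfsg.Agent.Lib.RootGroups.SimpleExtensionFinite

/-!
A subgroup of `SL₂(F)` containing upper root elements with parameters in `A` and lower ones in `B`:
apart from two small exceptions, `a b A ⊆ A`.
-/

set_option autoImplicit false
set_option linter.unusedSectionVars false

namespace CfsgLib.Mitchell

open Matrix CfsgLib.RootGroups.SimpleExt CfsgLib.PermSmall.Moebius

variable {F : Type*} [Field F] [Fintype F]

theorem commute_U_lift {g : SpecialLinearGroup (Fin 2) F} {a : F} (ha : a ≠ 0)
    (h : toP g * toP (U a) = toP (U a) * toP g) : g.1 1 0 = 0 ∧ g.1 0 0 = g.1 1 1 := by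
  set w := (U a * g)⁻¹ * (g * U a) with hw
  have hw1 : toP w = 1 := by rw [hw, map_mul, map_inv, map_mul, map_mul, h, inv_mul_cancel]
  obtain ⟨w01, w10, w00⟩ := toP_eq_one hw1
  have e : U a * g * w = g * U a := by rw [hw, mul_inv_cancel_left]
  have hd := w.2
  rw [det_fin_two, w01, w00] at hd
  simp only [zero_mul, sub_zero] at hd
  have e10 : g.1 1 0 * w.1 0 0 = g.1 1 0 := by
    simpa [mul_00, mul_01, mul_10, mul_11, w01, w10, w00] using congrArg (fun m => m.1 1 0) e
  have e00 : (g.1 0 0 + a * g.1 1 0) * w.1 0 0 = g.1 0 0 := by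
    rw [w00]
    simpa [mul_00, mul_01, mul_10, mul_11, w01, w10, w00] using congrArg (fun m => m.1 0 0) e
  have e01 : (g.1 0 1 + a * g.1 1 1) * w.1 1 1 = g.1 0 0 * a + g.1 0 1 := by
    simpa [mul_00, mul_01, mul_10, mul_11, w01, w10, w00] using congrArg (fun m => m.1 0 1) e
  have hs : w.1 1 1 = 1 := by
    by_contra hs
    rw [w00] at e10 e00
    have h10 : g.1 1 0 = 0 :=
      (mul_eq_zero.1 (show g.1 1 0 * (w.1 1 1 - 1) = 0 by linear_combination e10)).resolve_right
        (sub_ne_zero.2 hs)
    have h00 : g.1 0 0 = 0 := by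
      rw [h10] at e00
      exact (mul_eq_zero.1 (show g.1 0 0 * (w.1 1 1 - 1) = 0 by linear_combination e00)).resolve_right
        (sub_ne_zero.2 hs)
    have := g.2
    rw [det_fin_two, h10, h00] at this
    simp at this
  rw [w00, hs] at e00
  rw [hs] at e01
  have h10 : g.1 1 0 = 0 :=
    (mul_eq_zero.1 (show a * g.1 1 0 = 0 by linear_combination e00)).resolve_left ha
  exact ⟨h10, (sub_eq_zero.1 ((mul_eq_zero.1
    (show a * (g.1 0 0 - g.1 1 1) = 0 by linear_combination -e01)).resolve_left ha))⟩

/-- The parameters of the upper root elements in `G`. -/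
def upper (G : Subgroup (SpecialLinearGroup (Fin 2) F)) : AddSubgroup F where
  carrier := {x | U x ∈ G}
  zero_mem' := by show U (0 : F) ∈ G; rw [U_zero]; exact G.one_mem
  add_mem' {x y} hx hy := by show U (x + y) ∈ G; rw [U_add]; exact G.mul_mem hx hy
  neg_mem' {x} hx := by show U (-x) ∈ G; rw [U_neg]; exact G.inv_mem hx

theorem mem_upper {G : Subgroup (SpecialLinearGroup (Fin 2) F)} {x : F} :
    x ∈ upper G ↔ U x ∈ G := Iff.rfl

variable {G : Subgroup (SpecialLinearGroup (Fin 2) F)}

theorem smul_mem_upper_of_natCast (x : F) (hx : x ∈ upper G) (n : ℕ) : (n : F) * x ∈ upper G := by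
  rw [← nsmul_eq_mul]; exact (upper G).nsmul_mem hx n

/-- An element of `G` that is, up to sign, an upper root element gives a member of `upper G`. -/
theorem mem_upper_of_shape (p : ℕ) [Fact p.Prime] [CharP F p] {g : SpecialLinearGroup (Fin 2) F}
    (hg : g ∈ G) (h10 : g.1 1 0 = 0) (h00 : g.1 0 0 = g.1 1 1) :
    g.1 0 0 * g.1 0 1 ∈ upper G := by
  have hd := g.2
  rw [det_fin_two, h10, ← h00] at hd
  have hd1 : g.1 0 0 * g.1 0 0 = 1 := by linear_combination hd
  rcases mul_self_eq_one_iff.1 hd1 with h1 | h1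
  · rw [mem_upper, h1, one_mul]
    convert hg
    exact sl_ext (by simp [h1]) (by simp) (by simp [h10]) (by simp [← h00, h1])
  · rcases eq_or_ne p 2 with rfl | hp
    · rw [mem_upper, h1]
      convert hg
      exact sl_ext (by simp [h1, CharTwo.neg_eq]) (by simp [CharTwo.neg_eq]) (by simp [h10])
        (by simp [← h00, h1, CharTwo.neg_eq])
    let z : SpecialLinearGroup (Fin 2) F := ⟨!![-1, 0; 0, -1], by simp [det_fin_two]⟩
    have z00 : z.1 0 0 = -1 := rfl
    have z01 : z.1 0 1 = 0 := rfl
    have z10 : z.1 1 0 = 0 := rfl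
    have z11 : z.1 1 1 = -1 := rfl
    have hgz : g = U (-g.1 0 1) * z := by
      refine sl_ext ?_ ?_ ?_ ?_ <;>
        simp [mul_00, mul_01, mul_10, mul_11, z00, z01, z10, z11, h1, h10, ← h00]
    have hzc : Commute (U (-g.1 0 1)) z := by
      refine sl_ext ?_ ?_ ?_ ?_ <;> simp [mul_00, mul_01, mul_10, mul_11, z00, z01, z10, z11]
    have hodd : Odd p := (Fact.out : p.Prime).odd_of_ne_two hp
    have hz2 : z * z = 1 := by
      refine sl_ext ?_ ?_ ?_ ?_ <;> simp [mul_00, mul_01, mul_10, mul_11, z00, z01, z10, z11]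
    have hzp : z ^ p = z := by
      obtain ⟨m, hm⟩ := hodd
      rw [hm, pow_succ, pow_mul, pow_two, hz2, one_pow, one_mul]
    have hpow : g ^ p = z := by
      rw [hgz, hzc.mul_pow, hzp, U_pow, CharP.cast_eq_zero, zero_mul, U_zero, one_mul]
    have hzG : z ∈ G := hpow ▸ pow_mem hg p
    rw [mem_upper, h1]
    convert mul_mem hg hzG
    refine sl_ext ?_ ?_ ?_ ?_ <;>
      simp [mul_00, mul_01, mul_10, mul_11, z00, z01, z10, z11, h1, h10, ← h00]

theorem pow_four_entries (g : SpecialLinearGroup (Fin 2) F) :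
    (g ^ 4).1 0 1 = g.1 0 1 * ((g.1 0 0 + g.1 1 1) ^ 3 - 2 * (g.1 0 0 + g.1 1 1)) ∧
    (g ^ 4).1 1 0 = g.1 1 0 * ((g.1 0 0 + g.1 1 1) ^ 3 - 2 * (g.1 0 0 + g.1 1 1)) ∧
    (g ^ 4).1 0 0 - (g ^ 4).1 1 1 =
      (g.1 0 0 - g.1 1 1) * ((g.1 0 0 + g.1 1 1) ^ 3 - 2 * (g.1 0 0 + g.1 1 1)) := by
  have hd := g.2
  rw [det_fin_two] at hd
  simp only [pow_succ, pow_zero, one_mul, mul_00, mul_01, mul_10, mul_11]
  refine ⟨?_, ?_, ?_⟩
  · linear_combination (-2 : F) * g.1 0 1 * (g.1 0 0 + g.1 1 1) * hd
  · linear_combination (-2 : F) * g.1 1 0 * (g.1 0 0 + g.1 1 1) * hd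
  · linear_combination (-2 : F) * (g.1 0 0 - g.1 1 1) * (g.1 0 0 + g.1 1 1) * hd

theorem orders_perm_four : ∀ a : Equiv.Perm (Fin 4), a ^ 2 = 1 ∨ a ^ 3 = 1 ∨ a ^ 4 = 1 := by
  decide +kernel

theorem four_in_perm_four : ∃ a : Equiv.Perm (Fin 4), a ^ 2 ≠ 1 ∧ a ^ 4 = 1 := by
  decide +kernel

theorem alt_four_invols :
    ∀ a b : alternatingGroup (Fin 4), a ^ 2 = 1 → b ^ 2 = 1 → a * b = b * a := by
  decide +kernel

/-- In characteristic three, two traces with sum one are both among the fourth roots of unity or zero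
only if they are in the prime field. -/
theorem trace_pair_four [CharP F 3] {t : F} (h1 : t ^ 5 = t) (h2 : (1 - t) ^ 5 = 1 - t) :
    t = 0 ∨ t = 1 ∨ t = -1 := by
  have h3 : (3 : F) = 0 := by exact_mod_cast CharP.cast_eq_zero F 3
  have : t * ((1 + t) * ((1 - t) * (1 + t))) = 0 := by
    linear_combination h2 + h1 + (2 * t - 3 * t ^ 2 + 3 * t ^ 3 - 2 * t ^ 4) * h3
  rcases mul_eq_zero.1 this with h | h
  · exact Or.inl h
  rcases mul_eq_zero.1 h with h | h
  · exact Or.inr (Or.inr (eq_neg_of_add_eq_zero_right h))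
  rcases mul_eq_zero.1 h with h | h
  · exact Or.inr (Or.inl (sub_eq_zero.1 h).symm)
  · exact Or.inr (Or.inr (eq_neg_of_add_eq_zero_right h))

/-- In characteristic three, two fourth roots of `-1` with sum one. -/
theorem trace_pair_five [CharP F 3] {t : F} (h1 : t ^ 4 = -1) (h2 : (1 - t) ^ 4 = -1) :
    (t + 1) ^ 2 = -1 := by
  have h3 : (3 : F) = 0 := by exact_mod_cast CharP.cast_eq_zero F 3
  have e : t ^ 3 + t - 1 = 0 := by
    linear_combination -h2 + h1 + (-t - t ^ 3 + 2 * t ^ 2) * h3
  linear_combination t * e - h1 + (t + 1) * h3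

/-- An additive group of exponent three of order not divisible by nine has at most three elements. -/
theorem card_le_three [CharP F 3] {A : AddSubgroup F} {n : ℕ} (hd : Nat.card A ∣ n) (hn : ¬ 9 ∣ n)
    (hn0 : n ≠ 0) {a y : F} (ha : a ∈ A) (hy : y ∈ A) (ha0 : a ≠ 0) :
    y = 0 ∨ y = a ∨ y = -a := by
  classical
  by_contra hc
  push Not at hc
  obtain ⟨h0, h1, h2⟩ := hc
  have hp : IsPGroup 3 (Multiplicative A) := fun x => ⟨1, by
    apply Multiplicative.toAdd.injective
    rw [toAdd_pow, toAdd_one, pow_one]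
    apply Subtype.ext
    rw [AddSubmonoidClass.coe_nsmul, nsmul_eq_mul, CharP.cast_eq_zero, zero_mul]
    rfl⟩
  obtain ⟨k, hk⟩ := IsPGroup.iff_card.1 hp
  rw [Nat.card_congr Multiplicative.toAdd] at hk
  have hk1 : k ≤ 1 := by
    by_contra h
    exact hn ((pow_dvd_pow 3 (show 2 ≤ k by omega)).trans (hk ▸ hd))
  have ha' : a ≠ -a := fun e => ha0 (by
    have h3 : (3 : F) = 0 := by exact_mod_cast CharP.cast_eq_zero F 3
    linear_combination -e + a * h3)
  let f : Fin 4 → A := ![⟨0, A.zero_mem⟩, ⟨a, ha⟩, ⟨-a, A.neg_mem ha⟩, ⟨y, hy⟩]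
  have hf : Function.Injective f := by
    intro i j hij
    fin_cases i <;> fin_cases j <;>
      simp_all [f, Subtype.ext_iff, eq_comm]
  have h4 := Nat.card_le_card_of_injective f hf
  rw [Nat.card_fin, hk] at h4
  have : 3 ^ k ≤ 3 := by
    calc 3 ^ k ≤ 3 ^ 1 := Nat.pow_le_pow_right (by norm_num) hk1
      _ = 3 := by norm_num
  omega

theorem mem_of_sq_mem [CharP F 2] (S : Subfield F) {z : F} (h : z ^ 2 ∈ S) : z ∈ S := by
  obtain ⟨n, -, hn⟩ := FiniteField.card F 2
  have hz := FiniteField.pow_card z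
  rw [hn, show (2 : ℕ) ^ (n : ℕ) = 2 * 2 ^ ((n : ℕ) - 1) by
    rw [← pow_succ']; congr 1; have := n.pos; omega, pow_mul] at hz
  exact hz ▸ pow_mem h _

/-- A Sylow subgroup of the image consists of upper root elements. -/
theorem card_le_upper (p : ℕ) [Fact p.Prime] [CharP F p] [DecidableEq F] {a : F} (ha : a ∈ upper G)
    (ha0 : a ≠ 0) {S : Subfield F}
    (_hS : CfsgLib.PSL2.DefinedOver
      ((CfsgLib.PSL2.pglPerm F).comp (G.map (toP : SpecialLinearGroup (Fin 2) F →* _)).subtype) S)
    (hiso : Nonempty (G.map (toP : SpecialLinearGroup (Fin 2) F →* _) ≃*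
        ProjectiveSpecialLinearGroup (Fin 2) S) ∨
      Nonempty (G.map (toP : SpecialLinearGroup (Fin 2) F →* _) ≃* ProjGenLinGroup (Fin 2) S)) :
    Nat.card S ≤ Nat.card (upper G) := by
  classical
  set H := G.map (toP : SpecialLinearGroup (Fin 2) F →* _) with hH
  let : Fintype S := Fintype.ofFinite S
  have : CharP S p := RingHom.charP S.subtype Subtype.val_injective p
  obtain ⟨n, -, hn⟩ := FiniteField.card S p
  have hdvd : p ^ (n : ℕ) ∣ Nat.card H := by
    have hpsl : p ^ (n : ℕ) ∣ Nat.card (ProjectiveSpecialLinearGroup (Fin 2) S) := by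
      have h1 := CfsgLib.PSL2.card_psl (F := S)
      have hco : Nat.Coprime (p ^ (n : ℕ)) (Nat.gcd 2 (Fintype.card S - 1)) := by
        rw [← hn]
        refine Nat.Coprime.coprime_dvd_right (Nat.gcd_dvd_right _ _) ?_
        exact (Nat.coprime_self_sub_right (Fintype.one_lt_card (α := S)).le).2
          (Nat.coprime_one_right _)
      refine hco.dvd_of_dvd_mul_left ?_
      rw [h1, ← hn]
      exact dvd_mul_of_dvd_right (dvd_mul_right _ _) _
    rcases hiso with ⟨⟨e⟩⟩ | ⟨⟨e⟩⟩
    · rwa [Nat.card_congr e.toEquiv]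
    · rw [Nat.card_congr e.toEquiv]
      exact hpsl.trans (Subgroup.card_dvd_of_injective _
        ProjectiveSpecialLinearGroup.toPGL_injective)
  let u : H := ⟨toP (U a), Subgroup.mem_map_of_mem _ ha⟩
  have hup : u ^ p = 1 := by
    apply Subtype.ext
    show toP (U a) ^ p = 1
    rw [← map_pow, U_pow, CharP.cast_eq_zero, zero_mul, U_zero, map_one]
  have hu1 : u ≠ 1 := fun e => ha0 (by simpa using (toP_eq_one (congrArg Subtype.val e)).1)
  have hpu : IsPGroup p (Subgroup.zpowers u) :=
    IsPGroup.of_card (n := 1) (by rw [Nat.card_zpowers, orderOf_eq_prime hup hu1, pow_one])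
  obtain ⟨P, hP⟩ := hpu.exists_le_sylow
  have hPcard : p ^ (n : ℕ) ≤ Nat.card P := by
    refine Nat.le_of_dvd Nat.card_pos ?_
    rw [P.card_eq_multiplicity]
    exact pow_dvd_pow p ((Fact.out : p.Prime).pow_dvd_iff_le_factorization Nat.card_pos.ne' |>.1 hdvd)
  -- elements commuting with an upper root element are upper root elements
  have shape : ∀ (h : H) (y : F), y ≠ 0 → (h : ProjGenLinGroup (Fin 2) F) * toP (U y) =
      toP (U y) * (h : ProjGenLinGroup (Fin 2) F) →
      ∃ w ∈ upper G, (h : ProjGenLinGroup (Fin 2) F) = toP (U w) := by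
    rintro ⟨_, m, hm, rfl⟩ y hy hc
    obtain ⟨m10, m00⟩ := commute_U_lift hy hc
    refine ⟨_, mem_upper_of_shape p hm m10 m00, ?_⟩
    have hd := m.2
    rw [det_fin_two, m10, ← m00] at hd
    have hm0 : m.1 0 0 * m.1 0 0 = 1 := by linear_combination hd
    show toP m = toP (U _)
    rw [← mul_inv_eq_one, ← map_inv, ← map_mul]
    have : m * (U (m.1 0 0 * m.1 0 1))⁻¹ = ⟨!![m.1 0 0, 0; 0, m.1 0 0], by
        simp [det_fin_two, hm0]⟩ := by
      refine sl_ext ?_ ?_ ?_ ?_ <;> simp [mul_00, mul_01, mul_10, mul_11, inv_00, inv_01, inv_10,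
        inv_11, m10, ← m00] <;> linear_combination (-(m.1 0 1)) * hm0
    rw [this]
    exact ProjGenLinGroup.mk_eq_mk_iff.2 ⟨(⟨m.1 0 0, m.1 0 0, hm0, hm0⟩ : Fˣ), by
      apply Units.ext
      ext i j
      show ((!![m.1 0 0, 0; 0, m.1 0 0] : Matrix (Fin 2) (Fin 2) F) *
        Matrix.scalar (Fin 2) (m.1 0 0)) i j = (1 : Matrix (Fin 2) (Fin 2) F) i j
      fin_cases i <;> fin_cases j <;> simp [Matrix.scalar_apply, hm0]⟩
  have hcen : Nontrivial (Subgroup.center P) := by
    have : Nontrivial P := ⟨⟨⟨u, hP (Subgroup.mem_zpowers u)⟩, 1, fun e => hu1 (congrArg Subtype.val e)⟩⟩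
    exact P.2.center_nontrivial
  obtain ⟨⟨⟨z, hzP⟩, hzc⟩, hz1⟩ := exists_ne (1 : Subgroup.center P)
  have hzu : z * u = u * z := congrArg Subtype.val
    ((Subgroup.mem_center_iff.1 hzc) ⟨u, hP (Subgroup.mem_zpowers u)⟩).symm
  obtain ⟨w, hw, hzw⟩ := shape z a ha0 (congrArg Subtype.val hzu)
  have hw0 : w ≠ 0 := by
    intro e
    rw [e, U_zero, map_one] at hzw
    exact hz1 (Subtype.ext (Subtype.ext (Subtype.ext hzw)))
  have hall : ∀ h : P, ∃ y : upper G, ((h : H) : ProjGenLinGroup (Fin 2) F) = toP (U (y : F)) := by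
    intro h
    obtain ⟨y, hy, hhy⟩ := shape h w hw0 (by
      rw [← hzw]
      exact congrArg (fun q : P => ((q : H) : ProjGenLinGroup (Fin 2) F))
        (Subgroup.mem_center_iff.1 hzc h))
    exact ⟨⟨y, hy⟩, hhy⟩
  choose f hf using hall
  have hfi : Function.Injective f := fun h₁ h₂ e =>
    Subtype.ext (Subtype.ext (by rw [hf h₁, hf h₂, e]))
  calc Nat.card S = p ^ (n : ℕ) := by rw [Nat.card_eq_fintype_card, hn]
    _ ≤ Nat.card P := hPcard
    _ ≤ Nat.card (upper G) := Nat.card_le_card_of_injective f hfi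

/-- Apart from two exceptions (`p = 2`, `|A| = 2`; `p = 3`, `|A| = 3`, `(ab)² = -1`), the upper
parameters of a subgroup of `SL₂(F)` are invariant under multiplication by `a * b` whenever
`U a` and `L b` lie in it. -/
theorem mul_mem_upper (p : ℕ) [Fact p.Prime] [CharP F p] {a b : F}
    (ha : a ∈ upper G) (ha0 : a ≠ 0) (hb : L b ∈ G) (hb0 : b ≠ 0)
    (h2 : p = 2 → ∃ x ∈ upper G, x ≠ 0 ∧ x ≠ a)
    (h3 : p = 3 → (a * b) ^ 2 = -1 → ∃ x ∈ upper G, x ≠ 0 ∧ x ≠ a ∧ x ≠ -a)
    {x : F} (hx : x ∈ upper G) : a * b * x ∈ upper G := by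
  classical
  have hpp : p.Prime := Fact.out
  have nat_case : ∀ n : ℕ, a * b = n → a * b * x ∈ upper G := fun n hn => by
    rw [hn]; exact smul_mem_upper_of_natCast x hx n
  set H := G.map (toP : SpecialLinearGroup (Fin 2) F →* _) with hH
  have hin : ∀ {g}, g ∈ G → toP g ∈ H := fun hg => Subgroup.mem_map_of_mem _ hg
  have hUL : ∀ y, U y ∈ G → (y ≠ 0 → toP (U y) ≠ 1) ∧ (toP (U y)) ^ p = 1 := by
    intro y _
    refine ⟨fun hy e => hy (by simpa using (toP_eq_one e).1), ?_⟩
    rw [← map_pow, U_pow, CharP.cast_eq_zero, zero_mul, U_zero, map_one]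
  let ψ : Multiplicative (upper G) →* H := MonoidHom.mk'
    (fun c => ⟨toP (U (c.toAdd : F)), hin c.toAdd.2⟩) fun c d => by
      apply Subtype.ext
      show toP (U _) = toP _ * toP _
      rw [← map_mul, ← U_add, toAdd_mul]; rfl
  have hψ : Function.Injective ψ := by
    rw [injective_iff_map_eq_one]
    intro c hc
    have := (toP_eq_one (congrArg Subtype.val hc)).1
    rw [U_01] at this
    exact Multiplicative.toAdd.injective (Subtype.ext this)
  have hemb : Nat.card (upper G) ∣ Nat.card H := by
    have := Subgroup.card_dvd_of_injective ψ hψ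
    rwa [Nat.card_congr Multiplicative.toAdd] at this
  have hpA : p ∣ Nat.card (upper G) := by
    have : addOrderOf (⟨a, ha⟩ : upper G) = p :=
      addOrderOf_eq_prime (Subtype.ext (by simp [CharP.cast_eq_zero]))
        (fun e => ha0 (congrArg Subtype.val e))
    exact this ▸ addOrderOf_dvd_natCard _
  set g := U a * L b with hg
  have hgG : g ∈ G := mul_mem ha hb
  set g' := U (-a) * L b with hg'
  have hg'G : g' ∈ G := mul_mem ((upper G).neg_mem ha) hb
  have htr : g.1 0 0 + g.1 1 1 = 2 + a * b := by simp [g, mul_00, mul_11]; ring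
  have htr' : g'.1 0 0 + g'.1 1 1 = 2 - a * b := by simp [g', mul_00, mul_11]; ring
  have h01 : g.1 0 1 = a ∧ g'.1 0 1 = -a := by simp [g, g', mul_01]
  let u : H := ⟨toP (U a), hin ha⟩
  have hu1 : u ≠ 1 := fun e => (hUL a ha).1 ha0 (congrArg Subtype.val e)
  have hup : u ^ p = 1 := Subtype.ext (hUL a ha).2
  let l : H := ⟨toP (L b), hin hb⟩
  have hlu : l * u ≠ u * l := fun e => hb0 (by
    simpa using (commute_U_lift ha0 (congrArg Subtype.val e)).1)
  have hlp : l ^ p = 1 := by
    apply Subtype.ext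
    show toP (L b) ^ p = 1
    have : ∀ n : ℕ, L b ^ n = L ((n : F) * b) := fun n => by
      induction n with
      | zero => simp; exact sl_ext rfl rfl rfl rfl
      | succ n ih =>
        rw [pow_succ, ih]
        refine sl_ext ?_ ?_ ?_ ?_ <;> simp [mul_00, mul_01, mul_10, mul_11]; ring
    rw [← map_pow, this, CharP.cast_eq_zero, zero_mul]
    rw [show L (0 : F) = 1 from sl_ext rfl rfl rfl rfl, map_one]
  rcases CfsgLib.PSL2.dickson_strong p H.subtype H.subtype_injective with
    ⟨z, hz⟩ | hT | ⟨C, hC2, hC, -⟩ | ⟨⟨e⟩⟩ | ⟨⟨e⟩⟩ | ⟨hp2, ⟨e⟩⟩ | ⟨S, hS, hiso⟩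
  · exfalso
    cases z using OnePoint.rec with
    | infty =>
      have := hz l
      simp only [l, Subgroup.coe_subtype, CfsgLib.PSL2.pglPerm_mk, MonoidHom.coe_comp,
        Function.comp_apply, OnePoint.smul_infty_eq_self_iff] at this
      exact hb0 (by simpa using this)
    | coe y =>
      have := hz u
      simp only [u, Subgroup.coe_subtype, MonoidHom.coe_comp, Function.comp_apply,
        CfsgLib.PSL2.pglPerm_mk, OnePoint.smul_some_eq_ite] at this
      simp [ha0] at this
  · exact absurd (hT.2.1 u hup) hu1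
  · exfalso
    have hnot : ∀ w : H, w ^ p = 1 → w ≠ 1 → w ∉ C := fun w hw hw1 hwC =>
      hw1 (congrArg Subtype.val (hC.2.1 ⟨w, hwC⟩ (Subtype.ext hw)))
    rcases eq_or_ne p 2 with rfl | hp
    · obtain ⟨y, hy, hy0, hya⟩ := h2 rfl
      let v : H := ⟨toP (U y), hin hy⟩
      have hv1 : v ≠ 1 := fun e => (hUL y hy).1 hy0 (congrArg Subtype.val e)
      have huv : u * v ∈ C := (Subgroup.mul_mem_iff_of_index_two hC2).2
        (iff_of_false (hnot u hup hu1) (hnot v (Subtype.ext (hUL y hy).2) hv1))
      have huv' : u * v = ⟨toP (U (a + y)), hin ((upper G).add_mem ha hy)⟩ :=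
        Subtype.ext (by show toP (U a) * toP (U y) = _; rw [← map_mul, ← U_add])
      refine hnot (u * v) ?_ ?_ huv
      · rw [huv']; exact Subtype.ext (hUL _ ((upper G).add_mem ha hy)).2
      · rw [huv']
        exact fun e => (hUL _ ((upper G).add_mem ha hy)).1
          (fun h => hya (CharTwo.add_eq_zero.1 h).symm) (congrArg Subtype.val e)
    · refine hnot u hup hu1 ?_
      have hmem := Subgroup.sq_mem_of_index_two hC2 u
      have hpodd := hpp.eq_two_or_odd.resolve_left hp
      have : u = (u ^ 2) ^ ((p + 1) / 2) := by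
        rw [← pow_mul, show 2 * ((p + 1) / 2) = p + 1 by omega, pow_succ, hup, one_mul]
      exact this ▸ pow_mem hmem _
  · -- A₄
    rw [Nat.card_congr e.toEquiv, CfsgLib.PSL2.card_alt_four] at hemb
    have hp23 : p = 2 ∨ p = 3 := by
      have := hpA.trans hemb
      have hle := Nat.le_of_dvd (by norm_num) this
      interval_cases p <;> first | omega | (revert hpp; decide)
    rcases hp23 with rfl | rfl
    · exact absurd (e.injective (by
        simpa using alt_four_invols (e l) (e u) (by rw [← map_pow, hlp, map_one])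
          (by rw [← map_pow, hup, map_one]))) hlu
    · have h3' : (3 : F) = 0 := by exact_mod_cast CharP.cast_eq_zero F 3
      have hord : ∀ (m : SpecialLinearGroup (Fin 2) F) (hm : m ∈ G),
          (m ^ 2).1 0 1 = 0 ∨ (m ^ 3).1 0 1 = 0 := fun m hm => by
        have := (show ∀ a : alternatingGroup (Fin 4), a ^ 2 = 1 ∨ a ^ 3 = 1 by decide +kernel)
          (e ⟨toP m, hin hm⟩)
        simp only [← map_pow, MulEquiv.map_eq_one_iff] at this
        refine this.imp (fun h => ?_) (fun h => ?_) <;>
          exact (toP_eq_one (by rw [map_pow]; exact congrArg Subtype.val h)).1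
      rcases hord g hgG with h | h
      · refine nat_case 1 ?_
        have : a * (2 + a * b) = 0 := by
          rw [← h]; simp [pow_two, g, mul_00, mul_01, mul_10, mul_11]; ring
        rw [Nat.cast_one]
        linear_combination (mul_eq_zero.1 this).resolve_left ha0 - h3'
      · have : a * ((2 + a * b - 1) * (2 + a * b + 1)) = 0 := by
          rw [← h]; simp [pow_succ, g, mul_00, mul_01, mul_10, mul_11]; ring
        rcases mul_eq_zero.1 ((mul_eq_zero.1 this).resolve_left ha0) with h' | h'
        · exact nat_case 2 (by push_cast; linear_combination h' - h3')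
        · exact nat_case 0 (by push_cast; linear_combination h' - h3')
  · -- S₄
    have hcard : Nat.card H = 24 := by
      rw [Nat.card_congr e.toEquiv, Nat.card_perm, Nat.card_fin]; rfl
    have hp23 : p = 2 ∨ p = 3 := by
      have := hpA.trans hemb
      rw [hcard] at this
      have hle := Nat.le_of_dvd (by norm_num) this
      interval_cases p <;> first | omega | (revert hpp; decide)
    rcases hp23 with rfl | rfl
    · exfalso
      obtain ⟨c, hc2, hc4⟩ := four_in_perm_four
      obtain ⟨m, hm, hmc⟩ := (e.symm c).2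
      have hm' : e ⟨toP m, hin hm⟩ = c := by
        rw [show (⟨toP m, hin hm⟩ : H) = e.symm c from Subtype.ext hmc, e.apply_symm_apply]
      have h4 : toP (m ^ 4) = 1 := by
        have : (⟨toP m, hin hm⟩ : H) ^ 4 = 1 := e.injective (by rw [map_pow, hm', hc4, map_one])
        rw [map_pow]; exact congrArg Subtype.val this
      obtain ⟨a01, a10, a00⟩ := toP_eq_one h4
      obtain ⟨p01, p10, p00⟩ := pow_four_entries m
      have h2F : (2 : F) = 0 := by exact_mod_cast CharP.cast_eq_zero F 2
      set t := m.1 0 0 + m.1 1 1 with ht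
      have hzero : ∀ y : F, y * (t ^ 3 - 2 * t) = 0 → t = 0 ∨ y = 0 := fun y hy => by
        rw [h2F, zero_mul, sub_zero] at hy
        exact (mul_eq_zero.1 hy).symm.imp_left fun h => pow_eq_zero_iff (by norm_num) |>.1 h
      have hd := m.2
      rw [det_fin_two] at hd
      have ht0 : t = 0 ∨ toP m = 1 := by
        rcases hzero _ (p01 ▸ a01) with h | e01
        · exact Or.inl h
        rcases hzero _ (p10 ▸ a10) with h | e10
        · exact Or.inl h
        rcases hzero (m.1 0 0 - m.1 1 1) (by rw [← p00, a00, sub_self]) with h | e00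
        · exact Or.inl h
        refine Or.inl ?_
        rw [ht, sub_eq_zero.1 e00, CharTwo.add_self_eq_zero]
      apply hc2
      rcases ht0 with h | h
      · rw [ht] at h
        have : m ^ 2 = 1 := by
          refine sl_ext ?_ ?_ ?_ ?_ <;> simp [pow_two, mul_00, mul_01, mul_10, mul_11]
          · linear_combination m.1 0 0 * h - hd - h2F
          · linear_combination m.1 0 1 * h
          · linear_combination m.1 1 0 * h
          · linear_combination m.1 1 1 * h - hd - h2F
        rw [← hm', ← map_pow, MulEquiv.map_eq_one_iff]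
        exact Subtype.ext (by show toP m ^ 2 = 1; rw [← map_pow, this, map_one])
      · rw [← hm', ← map_pow, MulEquiv.map_eq_one_iff]
        exact Subtype.ext (by show toP m ^ 2 = 1; rw [h, one_pow])
    · have key : ∀ (m : SpecialLinearGroup (Fin 2) F) (hm : m ∈ G), m.1 0 1 ≠ 0 →
          (m.1 0 0 + m.1 1 1) ^ 5 = m.1 0 0 + m.1 1 1 := by
        intro m hm h01
        have h3' : (3 : F) = 0 := by exact_mod_cast CharP.cast_eq_zero F 3
        have := orders_perm_four (e ⟨toP m, hin hm⟩)
        simp only [← map_pow, MulEquiv.map_eq_one_iff] at this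
        set t := m.1 0 0 + m.1 1 1 with ht
        have hd := m.2
        rw [det_fin_two] at hd
        rcases this with h | h | h
        · have hh := (toP_eq_one (by rw [map_pow]; exact congrArg Subtype.val h)).1
          have : m.1 0 1 * t = 0 := by rw [← hh]; simp [pow_two, mul_01, ht]; ring
          rw [(mul_eq_zero.1 this).resolve_left h01]; ring
        · have hh := (toP_eq_one (by rw [map_pow]; exact congrArg Subtype.val h)).1
          have : m.1 0 1 * (t ^ 2 - 1) = 0 := by
            rw [← hh]; simp [pow_succ, mul_00, mul_01, mul_10, mul_11, ht]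
            linear_combination m.1 0 1 * hd
          linear_combination t * (t ^ 2 + 1) * (mul_eq_zero.1 this).resolve_left h01
        · have hh := (toP_eq_one (by rw [map_pow]; exact congrArg Subtype.val h)).1
          rw [(pow_four_entries m).1] at hh
          linear_combination (t ^ 2 - 1) * (mul_eq_zero.1 hh).resolve_left h01 + (t ^ 3 - t) * h3'
      have k1 := key g hgG (by rw [h01.1]; exact ha0)
      have k2 := key g' hg'G (by rw [h01.2, neg_ne_zero]; exact ha0)
      rw [htr] at k1
      rw [htr'] at k2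
      have h3' : (3 : F) = 0 := by exact_mod_cast CharP.cast_eq_zero F 3
      have k2' : (1 - (2 + a * b)) ^ 5 = 1 - (2 + a * b) := by
        rw [show (1 : F) - (2 + a * b) = 2 - a * b by linear_combination -h3']
        exact k2
      rcases trace_pair_four k1 k2' with h | h | h
      · exact nat_case 1 (by push_cast; linear_combination h - h3')
      · exact nat_case 2 (by push_cast; linear_combination h - h3')
      · exact nat_case 0 (by push_cast; linear_combination h - h3')
  · -- A₅
    rw [Nat.card_congr e.toEquiv, CfsgLib.PSL2.card_alt_five] at hemb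
    have hp35 : p = 3 ∨ p = 5 := by
      have := hpA.trans hemb
      have hle := Nat.le_of_dvd (by norm_num) this
      interval_cases p <;> first | omega | (revert hpp; decide)
    have key : ∀ (m : SpecialLinearGroup (Fin 2) F) (hm : m ∈ G), m.1 0 1 ≠ 0 →
        (m.1 0 0 + m.1 1 1) = 0 ∨ (m.1 0 0 + m.1 1 1) ^ 2 = 1 ∨
          (m.1 0 0 + m.1 1 1) ^ 4 - 3 * (m.1 0 0 + m.1 1 1) ^ 2 + 1 = 0 := by
      intro m hm h01
      have := orders_alt_five (e ⟨toP m, hin hm⟩)
      simp only [← map_pow, MulEquiv.map_eq_one_iff] at this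
      set t := m.1 0 0 + m.1 1 1 with ht
      have hd := m.2
      rw [det_fin_two] at hd
      rcases this with h | h | h
      · have hh := (toP_eq_one (by rw [map_pow]; exact congrArg Subtype.val h)).1
        have : m.1 0 1 * t = 0 := by rw [← hh]; simp [pow_two, mul_01, ht]; ring
        exact Or.inl ((mul_eq_zero.1 this).resolve_left h01)
      · have hh := (toP_eq_one (by rw [map_pow]; exact congrArg Subtype.val h)).1
        have : m.1 0 1 * (t ^ 2 - 1) = 0 := by
          rw [← hh]; simp [pow_succ, mul_00, mul_01, mul_10, mul_11, ht]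
          linear_combination m.1 0 1 * hd
        exact Or.inr (Or.inl (sub_eq_zero.1 ((mul_eq_zero.1 this).resolve_left h01)))
      · have hh := (toP_eq_one (by rw [map_pow]; exact congrArg Subtype.val h)).1
        have : m.1 0 1 * (t ^ 4 - 3 * t ^ 2 + 1) = 0 := by
          rw [← hh]; simp [pow_succ, mul_00, mul_01, mul_10, mul_11, ht]
          linear_combination (m.1 0 1 * (3 * t ^ 2 - m.1 0 0 * m.1 1 1 + m.1 0 1 * m.1 1 0 - 1)) * hd
        exact Or.inr (Or.inr ((mul_eq_zero.1 this).resolve_left h01))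
    have k1 := key g hgG (by rw [h01.1]; exact ha0)
    have k2 := key g' hg'G (by rw [h01.2, neg_ne_zero]; exact ha0)
    rw [htr] at k1
    rw [htr'] at k2
    rcases hp35 with rfl | rfl
    · have h3' : (3 : F) = 0 := by exact_mod_cast CharP.cast_eq_zero F 3
      have split : ∀ t : F, t = 0 ∨ t ^ 2 = 1 ∨ t ^ 4 - 3 * t ^ 2 + 1 = 0 →
          (t = 0 ∨ t = 1 ∨ t = -1) ∨ t ^ 4 = -1 := by
        intro t ht
        rcases ht with h | h | h
        · exact Or.inl (Or.inl h)
        · exact Or.inl (Or.inr (sq_eq_one_iff.1 h))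
        · exact Or.inr (by linear_combination h + t ^ 2 * h3')
      rcases split _ k1 with (h | h | h) | h
      · exact nat_case 1 (by push_cast; linear_combination h - h3')
      · exact nat_case 2 (by push_cast; linear_combination h - h3')
      · exact nat_case 0 (by push_cast; linear_combination h - h3')
      rcases split _ k2 with (h' | h' | h') | h'
      · exact nat_case 2 (by push_cast; linear_combination -h')
      · exact nat_case 1 (by push_cast; linear_combination -h')
      · exact nat_case 0 (by push_cast; linear_combination -h' + h3')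
      exfalso
      have hk : (a * b) ^ 2 = -1 := by
        have := trace_pair_five h (show (1 - (2 + a * b)) ^ 4 = -1 by
          rw [show (1 : F) - (2 + a * b) = 2 - a * b by linear_combination -h3']; exact h')
        rwa [show (2 + a * b + 1 : F) = a * b by linear_combination h3'] at this
      obtain ⟨y, hy, hy0, hya, hyna⟩ := h3 rfl hk
      rcases card_le_three hemb (by norm_num) (by norm_num) ha hy ha0 with h | h | h
      · exact hy0 h
      · exact hya h
      · exact hyna h
    · have h5 : (5 : F) = 0 := by exact_mod_cast CharP.cast_eq_zero F 5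
      rcases k1 with h | h | h
      · exact nat_case 3 (by push_cast; linear_combination h - h5)
      · rcases sq_eq_one_iff.1 h with h | h
        · exact nat_case 4 (by push_cast; linear_combination h - h5)
        · exact nat_case 2 (by push_cast; linear_combination h - h5)
      · have := pow_eq_zero_iff (n := 2) (by norm_num) |>.1
          (show ((2 + a * b) ^ 2 - 4) ^ 2 = 0 by linear_combination h + (3 - (2 + a * b) ^ 2) * h5)
        rcases mul_eq_zero.1 (show (a * b) * (a * b + 4) = 0 by linear_combination this) with h | h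
        · exact nat_case 0 (by simpa using h)
        · exact nat_case 1 (by push_cast; linear_combination h - h5)
  · -- a subfield group
    have hsq : ∀ {m : SpecialLinearGroup (Fin 2) F}, m ∈ G → (m.1 0 0 + m.1 1 1) ^ 2 ∈ S :=
      fun hm => tr_sq_mem_of_definedOver hS (hin hm)
    have hS' : ∀ y ∈ upper G, y * b ∈ S := by
      intro y hy
      rcases eq_or_ne p 2 with rfl | hp
      · have h := hsq (mul_mem hy hb)
        rw [show ((U y * L b).1 0 0 + (U y * L b).1 1 1) = y * b by
          simp [mul_00, mul_11]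
          linear_combination (CharP.cast_eq_zero F 2)] at h
        exact mem_of_sq_mem S h
      · have h := sub_mem (hsq (mul_mem hy hb)) (hsq (mul_mem ((upper G).neg_mem hy) hb))
        have h8 : (8 : F) ≠ 0 := by
          rw [show (8 : F) = 2 ^ 3 by norm_num]
          exact pow_ne_zero 3 (Ring.two_ne_zero (by rw [ringChar.eq F p]; exact hp))
        have hmem := mul_mem (inv_mem (natCast_mem S 8)) h
        convert hmem using 1
        simp [mul_00, mul_11]
        field_simp
        ring
    have hinj : Function.Injective fun y : upper G => (⟨(y : F) * b, hS' y y.2⟩ : S) := fun y z h =>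
      Subtype.ext (mul_right_cancel₀ hb0 (congrArg Subtype.val h))
    have hge : Nat.card S ≤ Nat.card (upper G) := card_le_upper p ha ha0 hS hiso
    have hbij : Function.Bijective fun y : upper G => (⟨(y : F) * b, hS' y y.2⟩ : S) := by
      refine (Nat.bijective_iff_injective_and_card _).2 ⟨hinj, ?_⟩
      exact le_antisymm (Nat.card_le_card_of_injective _ hinj) hge
    obtain ⟨w, hw⟩ := hbij.2 ⟨a * b * (x * b), mul_mem (hS' a ha) (hS' x hx)⟩
    have hwe : (w : F) * b = a * b * (x * b) := congrArg Subtype.val hw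
    rw [← mul_assoc] at hwe
    exact mul_right_cancel₀ hb0 hwe ▸ w.2

end CfsgLib.Mitchell
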