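import Cfsg.Agent.Lib.Mitchell.SmallTwoGroup
import Cfsg.Agent.Lib.Mitchell.Elation

/-!
Groups with elations in characteristic two: the field.
-/

set_option autoImplicit false
set_option linter.unusedSectionVars false

namespace CfsgLib.Mitchell

open Cfsg Cfsg.Geo Matrix CfsgLib.Geo.Asch CfsgLib.GeomClasses
open scoped MatrixGroups commutatorElement

section Algebra

variable {K : Type*} [Field K]

theorem cayley_three (M : Matrix (Fin 3) (Fin 3) K) :
    M ^ 3 = M.trace • M ^ 2 - (Matrix.adjugate M).trace • M +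
      M.det • (1 : Matrix (Fin 3) (Fin 3) K) := by
  rw [Matrix.adjugate_fin_three, Matrix.det_fin_three]
  ext i j
  fin_cases i <;> fin_cases j <;>
    simp [pow_succ, Matrix.mul_apply, Fin.sum_univ_three, Matrix.trace] <;> ring

variable [CharP K 2]

theorem cube_or_four {M N : Matrix (Fin 3) (Fin 3) K} (hMN : M * N = 1) (hdet : M.det = 1)
    (htr : N.trace = M.trace) (hx : M.trace ^ 2 = M.trace) : M ^ 3 = 1 ∨ M ^ 4 = 1 := by
  have hadj : Matrix.adjugate M = N := by
    calc Matrix.adjugate M = Matrix.adjugate M * M * N := by rw [mul_assoc, hMN, mul_one]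
      _ = N := by rw [Matrix.adjugate_mul, hdet, one_smul, one_mul]
  have h := cayley_three M
  rw [hadj, htr, hdet, one_smul] at h
  have h2 : (2 : K) = 0 := CharTwo.two_eq_zero
  rcases mul_eq_zero.1 (show M.trace * (M.trace - 1) = 0 by linear_combination hx) with e | e
  · left; rw [h, e, zero_smul, zero_smul, sub_zero, zero_add]
  · right
    rw [sub_eq_zero.1 e, one_smul, one_smul] at h
    rw [show M ^ 4 = M ^ 3 * M by rw [← pow_succ], h, add_mul, sub_mul, one_mul, ← pow_succ, h, ← sq]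
    ext i j
    simp only [Matrix.add_apply, Matrix.sub_apply]
    ring

theorem sq_eq_one_of_trace_zero {M : Matrix (Fin 2) (Fin 2) K} (hdet : M.det = 1)
    (htr : M.trace = 0) : M * M = 1 := by
  have h2 : (2 : K) = 0 := CharTwo.two_eq_zero
  rw [Matrix.det_fin_two] at hdet
  rw [Matrix.trace_fin_two] at htr
  ext i j
  fin_cases i <;> fin_cases j <;> simp [Matrix.mul_apply, Fin.sum_univ_two]
  · linear_combination (M 0 0) * htr - hdet - h2
  · linear_combination (M 0 1) * htr
  · linear_combination (M 1 0) * htr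
  · linear_combination (M 1 1) * htr - hdet - h2

theorem sl2_real (g : SpecialLinearGroup (Fin 2) K) :
    ∃ h : SpecialLinearGroup (Fin 2) K, h * g * h⁻¹ = g⁻¹ := by
  have h2 : (2 : K) = 0 := CharTwo.two_eq_zero
  have hdg := g.2
  rw [Matrix.det_fin_two] at hdg
  suffices ∃ α β γ : K, α ^ 2 + β * γ = 1 ∧
      α * (g.1 0 0 + g.1 1 1) + β * g.1 1 0 + γ * g.1 0 1 = 0 by
    obtain ⟨α, β, γ, h1, h3⟩ := this
    let h : SpecialLinearGroup (Fin 2) K := ⟨!![α, β; γ, α], by
      rw [Matrix.det_fin_two]; simp; linear_combination h1 - (β * γ) * h2⟩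
    refine ⟨h, ?_⟩
    have hh : h * h = 1 := Subtype.ext (by
      show h.1 * h.1 = (1 : Matrix (Fin 2) (Fin 2) K)
      exact sq_eq_one_of_trace_zero h.2 (by simp [h, Matrix.trace_fin_two, CharTwo.add_self_eq_zero]))
    have hg : (h * g) * (h * g) = 1 := Subtype.ext (by
      show (h * g).1 * (h * g).1 = (1 : Matrix (Fin 2) (Fin 2) K)
      exact sq_eq_one_of_trace_zero (h * g).2 (by
        show (!![α, β; γ, α] * g.1).trace = 0
        simp [Matrix.trace_fin_two, Matrix.vecMul, dotProduct, Fin.sum_univ_two]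
        linear_combination h3))
    rw [inv_eq_of_mul_eq_one_right hh]
    calc h * g * h = (h * g) * (h * g) * g⁻¹ := by group
      _ = g⁻¹ := by rw [hg, one_mul]
  by_cases hc : g.1 1 0 = 0
  · by_cases hb : g.1 0 1 = 0
    · exact ⟨0, 1, 1, by ring, by rw [hc, hb]; ring⟩
    · refine ⟨1, 0, (g.1 0 0 + g.1 1 1) / g.1 0 1, by ring, ?_⟩
      rw [div_mul_cancel₀ _ hb]; linear_combination (g.1 0 0 + g.1 1 1) * h2
  · refine ⟨1, (g.1 0 0 + g.1 1 1) / g.1 1 0, 0, by ring, ?_⟩
    rw [div_mul_cancel₀ _ hc]; linear_combination (g.1 0 0 + g.1 1 1) * h2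

end Algebra

theorem sq_zmod_two : ∀ a : ZMod 2, a ^ 2 = a := by decide

/-- An element of order seven of `SL₃(2)`. -/
def seven : SpecialLinearGroup (Fin 3) (ZMod 2) := ⟨!![0, 0, 1; 1, 0, 1; 0, 1, 0], by decide⟩

theorem seven_ne_one : seven ≠ 1 := fun h =>
  absurd (congrArg (fun z : SpecialLinearGroup (Fin 3) (ZMod 2) => z.1 0 0) h) (by decide)

theorem seven_pow : seven ^ 7 = 1 := Subtype.ext (by decide)

theorem alt_six_odd (a : alternatingGroup (Fin 6)) (h : Odd (orderOf a)) : a ^ 3 = 1 ∨ a ^ 5 = 1 := by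
  have hsum := Equiv.Perm.sum_cycleType_le (a : Equiv.Perm (Fin 6))
  rw [Fintype.card_fin] at hsum
  rw [← Subgroup.orderOf_coe, ← Equiv.Perm.lcm_cycleType] at h
  have hparts : ∀ m ∈ (a : Equiv.Perm (Fin 6)).cycleType, m = 3 ∨ m = 5 := by
    intro m hm
    have h2 := Equiv.Perm.two_le_of_mem_cycleType hm
    have hle := (Multiset.le_sum_of_mem hm).trans hsum
    have hodd : Odd m := h.of_dvd_nat (Multiset.dvd_lcm hm)
    obtain ⟨i, rfl⟩ := hodd
    omega
  suffices (a : Equiv.Perm (Fin 6)).cycleType.lcm ∣ 3 ∨ (a : Equiv.Perm (Fin 6)).cycleType.lcm ∣ 5 by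
    rw [Equiv.Perm.lcm_cycleType, Subgroup.orderOf_coe] at this
    exact this.imp orderOf_dvd_iff_pow_eq_one.1 orderOf_dvd_iff_pow_eq_one.1
  by_cases h5 : 5 ∈ (a : Equiv.Perm (Fin 6)).cycleType
  · right
    refine Multiset.lcm_dvd.2 fun m hm => ?_
    rcases hparts m hm with rfl | rfl
    · exfalso
      obtain ⟨s, hs⟩ := Multiset.exists_cons_of_mem h5
      have h3 : 3 ∈ s := by
        rw [hs] at hm
        exact (Multiset.mem_cons.1 hm).resolve_left (by norm_num)
      rw [hs, Multiset.sum_cons] at hsum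
      have := Multiset.le_sum_of_mem h3
      omega
    · exact dvd_rfl
  · left
    refine Multiset.lcm_dvd.2 fun m hm => ?_
    rcases hparts m hm with rfl | rfl
    · exact dvd_rfl
    · exact absurd hm h5

/-- In `A₆` elements of order five are inverted, centralisers of involutions having exponent four. -/
theorem exists_inverting_five {T : Type*} [Group T] [Finite T] (e : T ≃* alternatingGroup (Fin 6))
    (hC : ∀ i : T, orderOf i = 2 → ∀ a ∈ Subgroup.centralizer ({i} : Set T), a ^ 4 = 1) {y : T}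
    (hy : y ^ 5 = 1) (hy1 : y ≠ 1) : ∃ s : T, s * y * s⁻¹ = y⁻¹ := by
  have h5 : Fact (Nat.Prime 5) := ⟨by norm_num⟩
  have hcard : Nat.card T = 360 := by
    rw [Nat.card_congr e.toEquiv, nat_card_alternatingGroup, Nat.card_fin]; rfl
  have hoy : orderOf y = 5 := orderOf_eq_prime hy hy1
  let Q : Sylow 5 T := Sylow.ofCard (Subgroup.zpowers y) (by
    rw [Nat.card_zpowers, hoy, hcard]
    have : (360 : ℕ).factorization 5 = 1 := by
      rw [Nat.factorization_def _ h5.out, show (360 : ℕ) = 5 * 72 from rfl, padicValNat.mul (by norm_num) (by norm_num),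
        padicValNat.self (by norm_num), padicValNat.eq_zero_of_not_dvd (by norm_num)]
    rw [this, pow_one])
  set N := Subgroup.normalizer ((Q : Subgroup T) : Set T)
  have hn : Nat.card (Sylow 5 T) ∣ 72 := by
    have h1 := Q.card_dvd_index
    have h2 := Subgroup.card_mul_index (Q : Subgroup T)
    have h3 : Nat.card (Q : Subgroup T) = 5 := by
      show Nat.card (Subgroup.zpowers y) = 5
      rw [Nat.card_zpowers, hoy]
    rw [h3, hcard] at h2
    rwa [show (Q : Subgroup T).index = 72 by omega] at h1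
  have hmod : Nat.card (Sylow 5 T) % 5 = 1 := card_sylow_modEq_one 5 T
  have hN : Nat.card N * Nat.card (Sylow 5 T) = 360 := by
    rw [Q.card_eq_index_normalizer]; exact (Subgroup.card_mul_index N).trans hcard
  have heven : 2 ∣ Nat.card N := by
    by_contra hodd
    have h8 : 8 ∣ Nat.card (Sylow 5 T) :=
      (Nat.Coprime.pow_left 3 ((Nat.prime_two.coprime_iff_not_dvd).2 hodd)).dvd_of_dvd_mul_left
        (hN ▸ by norm_num)
    obtain ⟨c, hc⟩ := h8
    rw [hc] at hmod hn
    have := Nat.le_of_dvd (by norm_num) hn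
    have : c ≤ 9 := by omega
    interval_cases c <;> omega
  obtain ⟨s, hs⟩ := exists_prime_orderOf_dvd_card' (G := N) 2 heven
  rw [← Subgroup.orderOf_coe] at hs
  refine ⟨s, ?_⟩
  have hmem : (s : T) * y * (s : T)⁻¹ ∈ Subgroup.zpowers y :=
    (Subgroup.mem_normalizer_iff.1 s.2 y).1 (Subgroup.mem_zpowers y)
  obtain ⟨k, hk⟩ := hmem
  have hss : (s : T) * s = 1 := by rw [← sq, ← hs, pow_orderOf_eq_one]
  set z := (s : T) * y * (s : T)⁻¹ with hz
  have hyz : Commute y z := by rw [← hk]; exact Commute.self_zpow y k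
  have hszs : (s : T) * z * (s : T)⁻¹ = y := by
    rw [hz, show (s : T) * ((s : T) * y * (s : T)⁻¹) * (s : T)⁻¹ = ((s : T) * s) * y * ((s : T) * s)⁻¹ by group, hss]
    group
  have hfix : (y * z) * s = s * (y * z) := by
    have : (s : T) * (y * z) * (s : T)⁻¹ = y * z := by
      rw [show (s : T) * (y * z) * (s : T)⁻¹ = ((s : T) * y * (s : T)⁻¹) * ((s : T) * z * (s : T)⁻¹) by group,
        ← hz, hszs, hyz.eq]
    rw [← mul_inv_eq_iff_eq_mul.1 this]
  have h4 := hC s hs _ (Subgroup.mem_centralizer_singleton_iff.2 hfix)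
  have h5' : (y * z) ^ 5 = 1 := by rw [hyz.mul_pow, hy, hz, conj_pow, hy]; group
  have hyz1 : y * z = 1 := by
    calc y * z = (y * z) ^ 5 * ((y * z) ^ 4)⁻¹ := by group
      _ = 1 := by rw [h4, h5', inv_one, one_mul]
  exact (inv_eq_of_mul_eq_one_right hyz1).symm

variable {F : Type*} [Field F] {P : Subgroup (GL (Fin 3) F)}

theorem kappa_eq_trace [CharP F 2] {u φ v ψ : Fin 3 → F} (hu : φ ⬝ᵥ u = 0) (hv : ψ ⬝ᵥ v = 0) :
    kappa u φ v ψ = ((tv u φ * tv v ψ : GL (Fin 3) F) : Matrix (Fin 3) (Fin 3) F).trace + 1 := by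
  rw [Units.val_mul, tv_val hu, tv_val hv, ← trace_rm]
  simp only [Matrix.add_mul, Matrix.mul_add, one_mul, mul_one, Matrix.trace_add, Matrix.trace_one,
    Fintype.card_fin, Matrix.trace_vecMulVec, dotProduct_comm u φ, dotProduct_comm v ψ, hu, hv]
  push_cast
  linear_combination (-2 : F) * (CharTwo.two_eq_zero : (2 : F) = 0)

theorem scalars_trivial [Fintype F] (h : Hyp P)
    (hS : ∀ S : Sylow 3 (Quot P), IsCyclic (S : Subgroup (Quot P))) {z : GL (Fin 3) F} (hz : z ∈ P)
    (hzs : z ∈ scalars (Fin 3) F) : z = 1 := by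
  have hf : Fact (Nat.Prime 3) := ⟨Nat.prime_three⟩
  obtain ⟨a, ha⟩ := (mem_scalars_iff _).1 hzs
  set w : P := ⟨z, hz⟩ with hw
  have hzc : w ∈ Subgroup.center P :=
    Subgroup.mem_center_iff.2 fun g => Subtype.ext (scalars_comm hzs g.1).symm
  have hz3 : w ^ 3 = 1 := Subtype.ext (Units.ext (by
    rw [SubmonoidClass.coe_pow, Units.val_pow_eq_pow_val]
    show ((z : GL (Fin 3) F) : Matrix (Fin 3) (Fin 3) F) ^ 3 = _
    rw [ha, smul_pow, one_pow, h.scalar_cube hz ha, one_smul]; rfl))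
  have hp : IsPGroup 3 (Subgroup.zpowers w) := by
    rintro ⟨_, i, rfl⟩
    refine ⟨1, Subtype.ext ?_⟩
    show (w ^ i) ^ (3 ^ 1) = 1
    rw [pow_one, ← zpow_natCast, zpow_comm, zpow_natCast, hz3, _root_.one_zpow]
  obtain ⟨S, hSle⟩ := hp.exists_le_sylow
  set f := (proj P).comp (S : Subgroup P).subtype
  have hrange : IsPGroup 3 f.range := S.2.of_surjective f.rangeRestrict f.rangeRestrict_surjective
  obtain ⟨T, hT⟩ := hrange.exists_le_sylow
  have := hS T
  let f' := (Subgroup.inclusion hT).comp f.rangeRestrict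
  have hker : f'.ker ≤ Subgroup.center (S : Subgroup P) := by
    intro x hx
    have hx' : f x = 1 := congrArg Subtype.val (MonoidHom.mem_ker.1 hx)
    have hxs : ((x : P) : GL (Fin 3) F) ∈ scalars (Fin 3) F := proj_eq_one_iff.1 hx'
    exact Subgroup.mem_center_iff.2 fun y =>
      Subtype.ext (Subtype.ext (scalars_comm hxs y.1.1).symm)
  have hc : IsMulCommutative (S : Subgroup P) :=
    ⟨⟨commutative_of_cyclic_center_quotient f' hker⟩⟩
  have hd : w ∈ commutator P := by
    rw [show commutator P = ⊤ from ?_]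
    · trivial
    refine Subgroup.map_injective (Subgroup.subtype_injective P) ?_
    rw [commutator_def, Subgroup.map_commutator, ← MonoidHom.range_eq_map, Subgroup.range_subtype, h.perfect]
  have := CfsgLib.Transfer.eq_one_of_central_commutator (S : Subgroup P) hc
    (S.card_coprime_index) (hSle (Subgroup.mem_zpowers w)) hd hzc
  exact congrArg Subtype.val this

theorem proj_injective (h1 : ∀ z ∈ P, z ∈ scalars (Fin 3) F → z = 1) :
    Function.Injective (proj P) :=
  (injective_iff_map_eq_one _).2 fun x hx => Subtype.ext (h1 _ x.2 (proj_eq_one_iff.1 hx))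

variable [Fintype F] [CharP F 2]

/-- No group is real modulo trivial scalars. -/
theorem Hyp.false_of_real (h : Hyp P) (hinj : Function.Injective (proj P))
    (hreal : ∀ x : Quot P, ∃ y, y * x * y⁻¹ = x⁻¹) : False := by
  refine false_of_trace_inv_char_two h.algOf_eq_top ⟨1, by simp⟩ (by simp) fun x hx => ?_
  obtain ⟨y, hy⟩ := hreal (proj P ⟨x, hx⟩)
  obtain ⟨k, rfl⟩ := QuotientGroup.mk'_surjective _ y
  rw [← map_inv, ← map_inv, ← map_mul, ← map_mul] at hy
  have := congrArg (fun g : P => ((g : GL (Fin 3) F) : Matrix (Fin 3) (Fin 3) F).trace) (hinj hy)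
  simp only [Subgroup.coe_mul, InvMemClass.coe_inv, Units.val_mul] at this
  rw [← this, Matrix.trace_units_conj]

/-- The quotient is not `SL₂`. -/
theorem Hyp.not_sl2 (h : Hyp P) {K : Type} [Field K] [Fintype K] [CharP K 2]
    (e : Quot P ≃* SpecialLinearGroup (Fin 2) K) : False := by
  have h2 : Fact (Nat.Prime 2) := ⟨Nat.prime_two⟩
  have h3 : Fact (Nat.Prime 3) := ⟨Nat.prime_three⟩
  refine h.false_of_real (proj_injective fun z hz hzs => scalars_trivial h (fun S => ?_) hz hzs) ?_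
  · obtain ⟨S', hS'⟩ := (S.2.map e.toMonoidHom).exists_le_sylow
    have := CfsgLib.ClassicalGroups.SL2.isCyclic_sylow_odd 2 3 (by norm_num) (by norm_num) S'
    exact isCyclic_of_injective
      ((Subgroup.inclusion hS').comp (e.toMonoidHom.subgroupMap (S : Subgroup (Quot P))))
      ((Subgroup.inclusion_injective hS').comp
        (fun a b hab => Subtype.ext (e.injective (congrArg Subtype.val hab))))
  · intro x
    obtain ⟨k, hk⟩ := sl2_real (e x)
    exact ⟨e.symm k, e.injective (by simp [hk])⟩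

theorem trace_pow_four (M : Matrix (Fin 3) (Fin 3) F) : (M ^ 4).trace = M.trace ^ 4 := by
  have h2 : Fact (Nat.Prime 2) := ⟨Nat.prime_two⟩
  rw [show M ^ 4 = (M ^ 2) ^ 2 by rw [← pow_mul], trace_pow_char 2, trace_pow_char 2, ← pow_mul]

theorem trace_eq_one_of_pow_four {g : GL (Fin 3) F} (hg : g ^ 4 = 1) :
    (g : Matrix (Fin 3) (Fin 3) F).trace = 1 := by
  have h := trace_pow_four (g : Matrix (Fin 3) (Fin 3) F)
  rw [← Units.val_pow_eq_pow_val, hg, Units.val_one, Matrix.trace_one, Fintype.card_fin] at h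
  push_cast at h
  have h2 : (2 : F) = 0 := CharTwo.two_eq_zero
  set x := (g : Matrix (Fin 3) (Fin 3) F).trace
  have : (x - 1) ^ 4 = 0 := by linear_combination -h + (2 - 2 * x ^ 3 + 3 * x ^ 2 - 2 * x) * h2
  exact sub_eq_zero.1 ((pow_eq_zero_iff (n := 4) (by norm_num)).1 this)

/-- Products of two elations: if a power modulo scalars is trivial, it is trivial. -/
theorem Hyp.real_pow (h : Hyp P) {s r : P} (hs : (s : GL (Fin 3) F) * s = 1)
    (hr : (r : GL (Fin 3) F) * r = 1) {n : ℕ} (hn : proj P (s * r) ^ n = 1) :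
    ((s * r : P) : GL (Fin 3) F) ^ n = 1 ∧
      ((((s * r : P) : GL (Fin 3) F)⁻¹ : GL (Fin 3) F) : Matrix (Fin 3) (Fin 3) F).trace =
        (((s * r : P) : GL (Fin 3) F) : Matrix (Fin 3) (Fin 3) F).trace := by
  set g : GL (Fin 3) F := ((s * r : P) : GL (Fin 3) F) with hg
  have hsi : (s : GL (Fin 3) F)⁻¹ = s := inv_eq_of_mul_eq_one_right hs
  have hri : (r : GL (Fin 3) F)⁻¹ = r := inv_eq_of_mul_eq_one_right hr
  have hinv : g⁻¹ = (s : GL (Fin 3) F) * g * (s : GL (Fin 3) F)⁻¹ := by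
    simp only [hg, Subgroup.coe_mul, _root_.mul_inv_rev, hri]
    rw [← mul_assoc, hs, one_mul]
  refine ⟨?_, by rw [hinv, Units.val_mul, Units.val_mul, Matrix.trace_units_conj]⟩
  rw [← map_pow, proj_eq_one_iff, SubmonoidClass.coe_pow] at hn
  refine scalars_sq_eq_one hn ?_
  have : (g ^ n)⁻¹ = g ^ n := by
    rw [← inv_pow, hinv, conj_pow, mul_assoc, scalars_comm hn, ← mul_assoc, hsi, hs, one_mul]
  nth_rewrite 1 [← this]
  exact inv_mul_cancel _

theorem smallRoots_of_not_large (h : ¬ HasLargeRoot P 2) : SmallRoots P := by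
  classical
  intro u φ c hu hu0 hφ0 hc
  by_contra hcon
  push Not at hcon
  refine h ⟨u, φ, hu, hu0, hφ0, ?_⟩
  set A := rootParam P hu.1
  let : Fintype A := Fintype.ofFinite A
  rw [Nat.card_eq_fintype_card]
  calc 2 < ({0, 1, c} : Finset F).card := by
        rw [Finset.card_insert_of_notMem, Finset.card_insert_of_notMem, Finset.card_singleton] <;>
          simp [Ne.symm hcon.1, Ne.symm hcon.2]
    _ ≤ (Finset.univ.image (Subtype.val : A → F)).card := Finset.card_le_card (by
        intro x hx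
        simp only [Finset.mem_insert, Finset.mem_singleton] at hx
        refine Finset.mem_image.2 ⟨⟨x, ?_⟩, Finset.mem_univ _, rfl⟩
        rcases hx with rfl | rfl | rfl
        · exact A.zero_mem
        · exact one_mem_rootParam hu
        · exact mem_rootParam.2 hc)
    _ ≤ _ := Finset.card_image_le

theorem tv_sq {u φ : Fin 3 → F} (h : φ ⬝ᵥ u = 0) : tv u φ * tv u φ = 1 := by
  have e : -u = u := funext fun i => CharTwo.neg_eq (u i)
  nth_rewrite 1 [← inv_inv (tv u φ)]
  rw [tv_inv h, e]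
  exact inv_mul_cancel _

/-- The field of a group all of whose invariants lie in the field with `2 ^ j` elements. -/
theorem Hyp.small_field (h : Hyp P) (hsub : NoSubfield P) {u φ : Fin 3 → F} (hu : Root P u φ)
    (hu0 : u ≠ 0) (hφ0 : φ ≠ 0) (j : ℕ)
    (hx : ∀ s r : P, (s : GL (Fin 3) F) * s = 1 → (r : GL (Fin 3) F) * r = 1 →
      (((s * r : P) : GL (Fin 3) F) : Matrix (Fin 3) (Fin 3) F).trace ^ 2 ^ j =
        (((s * r : P) : GL (Fin 3) F) : Matrix (Fin 3) (Fin 3) F).trace) :
    Fintype.card F - 1 ∣ 2 ^ j - 1 ∨ ∃ m : ℕ, m - 1 ∣ 2 ^ j - 1 ∧ Fintype.card F = m ^ 2 ∧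
      ∀ g ∈ P, ((g⁻¹ : GL (Fin 3) F) : Matrix (Fin 3) (Fin 3) F).trace =
        (g : Matrix (Fin 3) (Fin 3) F).trace ^ m := by
  have : Fact (Nat.Prime 2) := ⟨Nat.prime_two⟩
  have hgen := h.rootGen hu hu0 hφ0
  obtain ⟨g, hg, hne⟩ := exists_conj_kappa_ne_zero h.irreducible hu hu0 hφ0 hu0 hφ0 hu.1
  set k := (iterateFrobenius F 2 j).eqLocusField (RingHom.id F) with hkdef
  have hkmem : ∀ x, x ∈ k ↔ x ^ 2 ^ j = x := fun x => Iff.rfl
  have hκ : ∀ a α b β, Root P a α → Root P b β → kappa a α b β ∈ k := by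
    intro a α b β ha hb
    rw [hkmem, kappa_eq_trace ha.1 hb.1, add_pow_char_pow, one_pow]
    exact congrArg (· + 1) (hx ⟨_, ha.2⟩ ⟨_, hb.2⟩ (tv_sq ha.1) (tv_sq hb.1))
  have : CharP k 2 := k.subtype.charP k.subtype.injective 2
  let : Fintype k := Fintype.ofFinite k
  obtain ⟨n, -, hn⟩ := FiniteField.card k 2
  have hcard : Nat.card k = 2 ^ (n : ℕ) := by rw [Nat.card_eq_fintype_card, hn]
  have hdvd : Nat.card k - 1 ∣ 2 ^ j - 1 := by
    rw [Nat.card_eq_fintype_card]
    refine (FiniteField.forall_pow_eq_one_iff k _).1 fun y => Units.ext (Subtype.ext ?_)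
    have h1 : ((y : k) : F) ^ 2 ^ j = ((y : k) : F) := (hkmem _).1 (y : k).2
    rw [← Nat.sub_add_cancel (Nat.one_le_two_pow (n := j)), pow_succ] at h1
    rw [Units.val_pow_eq_pow_val, Units.val_one, SubmonoidClass.coe_pow, Subfield.coe_one]
    have hy : ((y : k) : F) ≠ 0 := fun e => y.ne_zero (Subtype.ext e)
    exact mul_right_cancel₀ hy (h1.trans (one_mul _).symm)
  rcases dichotomy 2 n hcard hgen h.irreducible ⟨u, φ, _, _, hu, hu.conj hg, hne⟩ hκ with
    hR | ⟨hR, ⟨x, hx0⟩, htr⟩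
  · left
    have hk : k = ⊤ := by by_contra hne'; exact hsub k hne' hR
    have e : Nat.card k = Fintype.card F := by
      rw [← Nat.card_eq_fintype_card (α := F)]
      exact Nat.card_congr (Equiv.subtypeUnivEquiv fun x => hk ▸ trivial)
    rwa [← e]
  · refine Or.inr ⟨Nat.card k, hdvd, ?_⟩
    set K := (iterateFrobenius F 2 (n + n)).eqLocusField (RingHom.id F)
    have hK : K = ⊤ := by by_contra hne'; exact hsub K hne' hR
    have hall : ∀ y : F, y ^ 2 ^ ((n : ℕ) + n) = y := fun y => by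
      have : y ∈ K := hK ▸ trivial
      exact this
    refine ⟨?_, fun g hg => by rw [hcard]; exact htr hall g hg⟩
    have hd := Module.card_eq_pow_finrank (K := k) (V := F)
    rw [← Nat.card_eq_fintype_card (α := k)] at hd
    set d := Module.finrank k F
    have hk1 : 1 < Nat.card k := Finite.one_lt_card
    have hd2 : d ≠ 1 := by
      intro h1
      rw [h1, pow_one, hcard] at hd
      exact hx0 (by rw [← hd]; exact FiniteField.pow_card x)
    have hdvd' : Fintype.card F - 1 ∣ 2 ^ ((n : ℕ) + n) - 1 := by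
      refine (FiniteField.forall_pow_eq_one_iff F _).1 fun y => Units.ext ?_
      have h1 := hall (y : F)
      rw [← Nat.sub_add_cancel (Nat.one_le_two_pow (n := (n : ℕ) + n)), pow_succ] at h1
      rw [Units.val_pow_eq_pow_val, Units.val_one]
      exact mul_right_cancel₀ y.ne_zero (h1.trans (one_mul _).symm)
    have hpos : 1 < 2 ^ ((n : ℕ) + n) := Nat.one_lt_two_pow (by have := n.pos; omega)
    have hle := Nat.le_of_dvd (by omega) hdvd'
    have hle' : Nat.card k ^ d ≤ Nat.card k ^ 2 := by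
      rw [← hd, sq, hcard, ← pow_add]; omega
    have hd0 : 0 < d := Module.finrank_pos
    rw [hd, show d = 2 by have := (Nat.pow_le_pow_iff_right hk1).1 hle'; omega]

theorem trace_fix_of_pow_three {g : GL (Fin 3) F} (hg : g ^ 3 = 1) :
    (g : Matrix (Fin 3) (Fin 3) F).trace ^ 4 = (g : Matrix (Fin 3) (Fin 3) F).trace := by
  rw [← trace_pow_four, ← Units.val_pow_eq_pow_val, show g ^ 4 = g ^ 3 * g by rw [← pow_succ], hg,
    one_mul]

/-- Traces of products of two elations when the quotient is `SL₃(2)`. -/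
theorem Hyp.trace_sl32 (h : Hyp P) (e : Quot P ≃* SpecialLinearGroup (Fin 3) (ZMod 2)) {s r : P}
    (hs : (s : GL (Fin 3) F) * s = 1) (hr : (r : GL (Fin 3) F) * r = 1) :
    (((s * r : P) : GL (Fin 3) F) : Matrix (Fin 3) (Fin 3) F).trace ^ 2 ^ 1 =
      (((s * r : P) : GL (Fin 3) F) : Matrix (Fin 3) (Fin 3) F).trace := by
  have : Fact (Nat.Prime 2) := ⟨Nat.prime_two⟩
  set y := proj P (s * r) with hy
  have hS : proj P s * proj P s = 1 := by
    rw [← map_mul, show s * s = 1 from Subtype.ext hs, map_one]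
  have hyinv : y⁻¹ = proj P s * y * (proj P s)⁻¹ := by
    rw [hy, ← map_inv, ← map_inv, ← map_mul, ← map_mul]
    refine congrArg _ (Subtype.ext ?_)
    simp only [Subgroup.coe_mul, InvMemClass.coe_inv, _root_.mul_inv_rev,
      inv_eq_of_mul_eq_one_right hs, inv_eq_of_mul_eq_one_right hr]
    rw [← mul_assoc, hs, one_mul]
  have hM : (e y).1 * (e y⁻¹).1 = 1 :=
    congrArg (fun z : SpecialLinearGroup (Fin 3) (ZMod 2) => z.1)
      (show e y * e y⁻¹ = 1 by rw [← map_mul, mul_inv_cancel, map_one])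
  have hN : (e y⁻¹).1.trace = (e y).1.trace := by
    have hss : (e (proj P s)⁻¹).1 * (e (proj P s)).1 = 1 :=
      congrArg (fun z : SpecialLinearGroup (Fin 3) (ZMod 2) => z.1)
        (show e (proj P s)⁻¹ * e (proj P s) = 1 by rw [← map_mul, inv_mul_cancel, map_one])
    rw [hyinv, map_mul, map_mul]
    show ((e (proj P s)).1 * (e y).1 * (e (proj P s)⁻¹).1).trace = _
    rw [Matrix.trace_mul_comm, ← mul_assoc, hss, one_mul]
  have hcases : y ^ 3 = 1 ∨ y ^ 4 = 1 := by
    rcases cube_or_four hM (e y).2 hN (sq_zmod_two _) with h3 | h4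
    · exact Or.inl (e.injective (by rw [map_pow, map_one]; exact Subtype.ext h3))
    · exact Or.inr (e.injective (by rw [map_pow, map_one]; exact Subtype.ext h4))
  rcases hcases with h3 | h4
  · obtain ⟨h3', htr⟩ := h.real_pow hs hr h3
    rw [inv_eq_of_mul_eq_one_right (b := ((s * r : P) : GL (Fin 3) F) ^ 2) (by rw [← pow_succ', h3']),
      Units.val_pow_eq_pow_val, trace_pow_char 2] at htr
    exact htr
  · rw [trace_eq_one_of_pow_four (h.real_pow hs hr h4).1]; norm_num

/-- Elements of `A₆` occurring as quotient. -/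
theorem Hyp.alt_six_pow (h : Hyp P) (hsm : SmallRoots P) (e : Quot P ≃* alternatingGroup (Fin 6))
    (y : Quot P) : y ^ 4 = 1 ∨ y ^ 3 = 1 ∨ y ^ 5 = 1 := by
  rcases Nat.even_or_odd (orderOf y) with hev | hodd
  · left
    have hi : orderOf (y ^ (orderOf y / 2)) = 2 :=
      orderOf_pow_orderOf_div (orderOf_pos y).ne' (even_iff_two_dvd.1 hev)
    exact (h.centraliser_cases hsm hi).1 y
      (Subgroup.mem_centralizer_singleton_iff.2 (Commute.self_pow y _).eq)
  · rw [← orderOf_injective e.toMonoidHom e.injective y] at hodd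
    rcases alt_six_odd _ hodd with h3 | h5
    · exact Or.inr (Or.inl (e.injective (by rw [map_pow, map_one]; exact h3)))
    · exact Or.inr (Or.inr (e.injective (by rw [map_pow, map_one]; exact h5)))

theorem Hyp.trace_alt_six (h : Hyp P) (hsm : SmallRoots P) (e : Quot P ≃* alternatingGroup (Fin 6))
    {s r : P} (hs : (s : GL (Fin 3) F) * s = 1) (hr : (r : GL (Fin 3) F) * r = 1) :
    (((s * r : P) : GL (Fin 3) F) : Matrix (Fin 3) (Fin 3) F).trace ^ 2 ^ 2 =
      (((s * r : P) : GL (Fin 3) F) : Matrix (Fin 3) (Fin 3) F).trace := by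
  rcases h.alt_six_pow hsm e (proj P (s * r)) with h4 | h3 | h5
  · rw [trace_eq_one_of_pow_four (h.real_pow hs hr h4).1, one_pow]
  · exact trace_fix_of_pow_three (h.real_pow hs hr h3).1
  · obtain ⟨h5', htr⟩ := h.real_pow hs hr h5
    rw [inv_eq_of_mul_eq_one_right (b := ((s * r : P) : GL (Fin 3) F) ^ 4) (by rw [← pow_succ', h5']),
      Units.val_pow_eq_pow_val, trace_pow_four] at htr
    exact htr

/-- With quotient `SL₃(2)` the field is the prime field. -/
theorem Hyp.eq_specialLinear_of_sl32 (h : Hyp P) (hsub : NoSubfield P) {u φ : Fin 3 → F}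
    (hu : Root P u φ) (hu0 : u ≠ 0) (hφ0 : φ ≠ 0)
    (e : Quot P ≃* SpecialLinearGroup (Fin 3) (ZMod 2)) :
    P = specialLinear (Fin 3) F ∧ Fintype.card F = 2 := by
  have : Fact (Nat.Prime 2) := ⟨Nat.prime_two⟩
  have hF1 : 1 < Fintype.card F := Fintype.one_lt_card
  rcases h.small_field hsub hu hu0 hφ0 1 (fun s r hs hr => h.trace_sl32 e hs hr) with hF | ⟨m, hm, hF, htr⟩
  · have hF2 : Fintype.card F = 2 := by
      have := Nat.le_of_dvd (by norm_num) hF
      omega
    refine ⟨?_, hF2⟩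
    obtain ⟨g, hg, hne⟩ := exists_conj_kappa_ne_zero h.irreducible hu hu0 hφ0 hu0 hφ0 hu.1
    refine le_antisymm h.le_specialLinear (specialLinear_le_of_full (h.rootGen hu hu0 hφ0)
      h.irreducible (fun a α ha c => ?_) hu (hu.conj hg) hne)
    rcases eq_or_ne c 0 with rfl | hc
    · exact ⟨by simp, by rw [zero_smul, tv_zero_right]; exact P.one_mem⟩
    · rwa [show c = 1 by simpa [hF2] using FiniteField.pow_card_sub_one_eq_one c hc, one_smul]
  · exfalso
    have hm2 : m = 2 := by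
      have := Nat.le_of_dvd (by norm_num) hm
      rcases Nat.lt_or_ge m 2 with h1 | h1
      · interval_cases m <;> simp at hF <;> omega
      · omega
    subst hm2
    -- an element of order seven
    set M₇ : SpecialLinearGroup (Fin 3) (ZMod 2) := seven with hM₇
    obtain ⟨g, hg⟩ := QuotientGroup.mk'_surjective _ (e.symm M₇)
    have hy7 : (e.symm M₇) ^ 7 = 1 := by
      rw [← map_pow, show M₇ ^ 7 = 1 from seven_pow, map_one]
    have hy1 : e.symm M₇ ≠ 1 := by
      rw [Ne, ← map_one e.symm, e.symm.injective.eq_iff]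
      exact seven_ne_one
    have hc : ((g ^ 7 : P) : GL (Fin 3) F) ∈ scalars (Fin 3) F :=
      proj_eq_one_iff.1 (by rw [map_pow]; exact hg ▸ hy7)
    obtain ⟨a, ha⟩ := (mem_scalars_iff _).1 hc
    have hg7 : ((g ^ 3 : P) : GL (Fin 3) F) ^ 7 = 1 := by
      rw [← SubmonoidClass.coe_pow, ← pow_mul, show 3 * 7 = 7 * 3 from rfl, pow_mul,
        SubmonoidClass.coe_pow]
      apply Units.ext
      rw [Units.val_pow_eq_pow_val, ha, smul_pow, one_pow, h.scalar_cube (g ^ 7).2 ha, one_smul,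
        Units.val_one]
    set g' : GL (Fin 3) F := ((g ^ 3 : P) : GL (Fin 3) F) with hg'
    set x := (g' : Matrix (Fin 3) (Fin 3) F).trace
    have hx4 : x ^ 4 = x := by
      have := FiniteField.pow_card x
      rwa [hF] at this
    have hx8 : x ^ 8 = x := by
      have h8 := trace_pow_four (((g' : Matrix (Fin 3) (Fin 3) F)) ^ 2)
      rw [trace_pow_char 2, ← pow_mul, ← pow_mul, ← Units.val_pow_eq_pow_val] at h8
      rw [show g' ^ (2 * 4) = g' ^ 7 * g' by rw [← pow_succ], hg7, one_mul] at h8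
      exact h8.symm
    have hx2 : x ^ 2 = x := by linear_combination hx8 - (x ^ 4 + x) * hx4
    have hinv : ((g'⁻¹ : GL (Fin 3) F) : Matrix (Fin 3) (Fin 3) F).trace = x := by
      rw [htr _ (g ^ 3).2]; exact hx2
    have hg1 : g' = 1 := by
      rcases cube_or_four (by rw [← Units.val_mul, mul_inv_cancel, Units.val_one])
          (h.det_eq_one (g ^ 3).2) hinv hx2 with h3 | h4
      · have h3' : g' ^ 3 = 1 := Units.ext (by rw [Units.val_pow_eq_pow_val]; exact h3)
        rw [show g' = g' ^ 7 by rw [show 7 = 3 * 2 + 1 from rfl, pow_succ, pow_mul, h3', one_pow, one_mul], hg7]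
      · have h4' : g' ^ 4 = 1 := Units.ext (by rw [Units.val_pow_eq_pow_val]; exact h4)
        calc g' = g' ^ 8 * (g' ^ 7)⁻¹ := by group
          _ = 1 := by rw [show g' ^ 8 = g' ^ 4 * g' ^ 4 by rw [← pow_add], h4', hg7]; group
    have h3 : (e.symm M₇) ^ 3 = 1 := by
      rw [← hg, ← map_pow, proj_eq_one_iff, ← hg', hg1]
      exact Subgroup.one_mem _
    refine hy1 ?_
    calc e.symm M₇ = (e.symm M₇) ^ 7 * ((e.symm M₇) ^ 3)⁻¹ * ((e.symm M₇) ^ 3)⁻¹ := by group
      _ = 1 := by rw [hy7, h3]; group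

/-- All root groups of order two: the linear case. -/
theorem smallTwo_linear (h : Hyp P) (hsub : NoSubfield P) {u φ : Fin 3 → F} (hu : Root P u φ)
    (hu0 : u ≠ 0) (hφ0 : φ ≠ 0) (hsm : SmallRoots P) :
    P = specialLinear (Fin 3) F ∨ (∃ σ f, IsUnitaryForm σ f ∧ FixesForm (matrixSet P) f) ∨
      (Nonempty (Quot P ≃* alternatingGroup (Fin 6)) ∧ Fintype.card F = 4) := by
  have hF1 : 1 < Fintype.card F := Fintype.one_lt_card
  rcases h.smallTwo_quotient hsm with ⟨K, _, _, _, ⟨e⟩⟩ | ⟨⟨e⟩⟩ | ⟨⟨e⟩⟩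
  · exact (h.not_sl2 e).elim
  · exact Or.inl (h.eq_specialLinear_of_sl32 hsub hu hu0 hφ0 e).1
  rcases h.small_field hsub hu hu0 hφ0 2 (fun s r hs hr => h.trace_alt_six hsm e hs hr) with
    hF | ⟨m, -, hF, htr⟩
  · have h3 := Nat.le_of_dvd (by norm_num) hF
    have hcases : Fintype.card F = 2 ∨ Fintype.card F = 4 := by
      have h4 : Fintype.card F ≠ 3 := fun e3 => by rw [e3] at hF; norm_num at hF
      omega
    rcases hcases with h2 | h4
    · left
      obtain ⟨g, hg, hne⟩ := exists_conj_kappa_ne_zero h.irreducible hu hu0 hφ0 hu0 hφ0 hu.1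
      refine le_antisymm h.le_specialLinear (specialLinear_le_of_full (h.rootGen hu hu0 hφ0)
        h.irreducible (fun a α ha c => ?_) hu (hu.conj hg) hne)
      rcases eq_or_ne c 0 with rfl | hc
      · exact ⟨by simp, by rw [zero_smul, tv_zero_right]; exact P.one_mem⟩
      · rwa [show c = 1 by simpa [h2] using FiniteField.pow_card_sub_one_eq_one c hc, one_smul]
    · exact Or.inr (Or.inr ⟨⟨e⟩, h4⟩)
  · have hf := UnitPow.isUnitaryForm_hermForm hF 3
    obtain ⟨f, hf'⟩ := exists_unitary_form h.algOf_eq_top (UnitPow.conj hF) hf.1 hf.involutive htr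
    exact Or.inr (Or.inl ⟨_, f, hf'⟩)

/-- All root groups of order two: there is no such unitary group. -/
theorem smallTwo_unitary (h : Hyp P) (hsub : NoSubfield P) {q : ℕ} (hF : Fintype.card F = q ^ 2)
    (hq : 3 ≤ q) (hPU : P ≤ Cfsg.GU 3 F q) {u φ : Fin 3 → F} (hu : Root P u φ) (hu0 : u ≠ 0)
    (hφ0 : φ ≠ 0) (hsm : SmallRoots P) : False := by
  have hq2 : 9 ≤ q ^ 2 := by nlinarith
  rcases h.smallTwo_quotient hsm with ⟨K, _, _, _, ⟨e⟩⟩ | ⟨⟨e⟩⟩ | ⟨⟨e⟩⟩
  · exact h.not_sl2 e
  · have := (h.eq_specialLinear_of_sl32 hsub hu hu0 hφ0 e).2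
    omega
  rcases h.small_field hsub hu hu0 hφ0 2 (fun s r hs hr => h.trace_alt_six hsm e hs hr) with
    hF' | ⟨m, hm, hF', htr⟩
  · have := Nat.le_of_dvd (by norm_num) hF'
    omega
  have hmq : m = q := Nat.pow_left_injective (by norm_num) (hF'.symm.trans hF)
  subst hmq
  obtain rfl : m = 4 := by
    have h3 := Nat.le_of_dvd (by norm_num) hm
    have : m ≠ 3 := fun e3 => by rw [e3] at hm; norm_num at hm
    omega
  -- the scalars are trivial
  have hf := UnitPow.isUnitaryForm_hermForm hF 3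
  have htriv : ∀ z ∈ P, z ∈ scalars (Fin 3) F → z = 1 := by
    intro z hz hzs
    obtain ⟨a, ha⟩ := (mem_scalars_iff _).1 hzs
    have ha3 := h.scalar_cube hz ha
    obtain ⟨⟨x, hx⟩, -⟩ := hf.nondegenerate u hu0
    have hi := UnitPow.mem_GU.1 (hPU hz) x u
    rw [ha, Matrix.smul_mulVec, Matrix.smul_mulVec, Matrix.one_mulVec, Matrix.one_mulVec,
      Unit.smul_left hf, Unit.smul_right hf] at hi
    have ha5 : (a : F) * (a : F) ^ 4 = 1 := by
      have hσ : UnitPow.conj hF (a : F) = (a : F) ^ 4 := rfl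
      rw [hσ, ← mul_assoc] at hi
      exact mul_right_cancel₀ hx (hi.trans (one_mul _).symm)
    refine Units.ext ?_
    rw [ha, show (a : F) = 1 by
      have h2 : (a : F) ^ 2 = 1 := by linear_combination ha5 - (a : F) ^ 2 * ha3
      linear_combination ha3 - (a : F) * h2, one_smul, Units.val_one]
  have hinj := proj_injective htriv
  have hlift : ∀ {g : P} {n : ℕ}, proj P g ^ n = 1 → (g : GL (Fin 3) F) ^ n = 1 := by
    intro g n hn
    rw [← map_pow, ← map_one (proj P)] at hn
    exact congrArg Subtype.val (hinj hn)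
  refine false_of_trace_inv_char_two h.algOf_eq_top ⟨1, by simp⟩ (by simp) fun g hg => ?_
  rcases h.alt_six_pow hsm e (proj P ⟨g, hg⟩) with h4 | h3 | h5
  · rw [trace_eq_one_of_pow_four (hlift h4), trace_eq_one_of_pow_four (g := g⁻¹)
      (by rw [inv_pow, hlift h4, inv_one])]
  · rw [htr g hg]; exact trace_fix_of_pow_three (hlift h3)
  · rcases eq_or_ne g 1 with rfl | hg1
    · simp
    set y := proj P ⟨g, hg⟩
    have hy1 : y ≠ 1 := fun e1 => hg1 (congrArg Subtype.val (hinj (e1.trans (map_one (proj P)).symm)))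
    obtain ⟨t, ht⟩ := exists_inverting_five e (fun i hi a ha => (h.centraliser_cases hsm hi).1 a ha) h5 hy1
    obtain ⟨k, rfl⟩ := QuotientGroup.mk'_surjective _ t
    rw [← map_inv, ← map_inv, ← map_mul, ← map_mul] at ht
    have hk := congrArg (fun g : P => ((g : GL (Fin 3) F) : Matrix (Fin 3) (Fin 3) F).trace) (hinj ht)
    simp only [Subgroup.coe_mul, InvMemClass.coe_inv, Units.val_mul] at hk
    rw [← hk, Matrix.trace_units_conj]

end CfsgLib.Mitchell
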