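import Cfsg.Agent.Lib.Mitchell.SmallTwoLocal
import Cfsg.Agent.Lib.SelfCentralSimple.Local
import Cfsg.Agent.Lib.TwoGroups.Semidihedral
import Cfsg.Agent.Lib.ClassicalGroups.SL2
import Cfsg.Agent.Lib.Transfer.Central
import Cfsg.Agent.S2202
import Cfsg.Agent.S3035

/-!
The groups in characteristic two with all root groups of order two.
-/

set_option autoImplicit false
set_option linter.unusedSectionVars false

namespace CfsgLib.Mitchell

open Cfsg Cfsg.Geo Matrix CfsgLib.Geo.Asch CfsgLib.GeomClasses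
open scoped MatrixGroups commutatorElement

variable {F : Type*} [Field F] {P : Subgroup (GL (Fin 3) F)}

/-- The projection onto `Quot P`. -/
abbrev proj (P : Subgroup (GL (Fin 3) F)) : P →* Quot P :=
  QuotientGroup.mk' ((scalars (Fin 3) F).subgroupOf P)

theorem proj_eq_iff {x y : P} :
    proj P x = proj P y ↔ ∃ c ∈ scalars (Fin 3) F, (y : GL (Fin 3) F) = x * c := by
  rw [proj, QuotientGroup.mk'_eq_mk']
  constructor
  · rintro ⟨z, hz, rfl⟩
    exact ⟨z, Subgroup.mem_subgroupOf.1 hz, rfl⟩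
  · rintro ⟨c, hc, e⟩
    have hcP : c ∈ P := by
      have := P.mul_mem (P.inv_mem x.2) y.2
      rwa [e, inv_mul_cancel_left] at this
    exact ⟨⟨c, hcP⟩, Subgroup.mem_subgroupOf.2 hc, Subtype.ext e.symm⟩

theorem proj_eq_one_iff {x : P} : proj P x = 1 ↔ (x : GL (Fin 3) F) ∈ scalars (Fin 3) F := by
  rw [proj, QuotientGroup.mk'_apply, QuotientGroup.eq_one_iff, Subgroup.mem_subgroupOf]

theorem scalars_sq_eq_one [CharP F 2] {c : GL (Fin 3) F} (hc : c ∈ scalars (Fin 3) F) (h : c * c = 1) :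
    c = 1 := by
  obtain ⟨a, ha⟩ := (mem_scalars_iff _).1 hc
  have h1 := congrArg (fun x : GL (Fin 3) F => (x : Matrix (Fin 3) (Fin 3) F) 0 0) h
  simp [ha] at h1
  have : ((a : F) - 1) ^ 2 = 0 := by
    linear_combination h1 + (1 - (a : F)) * (CharTwo.two_eq_zero : (2 : F) = 0)
  exact Units.ext (by rw [ha, sub_eq_zero.1 (pow_eq_zero_iff (n := 2) (by norm_num) |>.1 this),
    one_smul, Units.val_one])

theorem not_perm_simple {n : ℕ} (hn : 3 ≤ n) {G : Type*} [Group G] [IsSimpleGroup G]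
    (hna : ¬ IsMulCommutative G) : ∀ _e : G ≃* Equiv.Perm (Fin n), False := by
  intro e
  set f : G →* ℤˣ := Equiv.Perm.sign.comp e.toMonoidHom
  rcases (inferInstance : f.ker.Normal).eq_bot_or_eq_top with hk | hk
  · refine hna ⟨⟨fun a b => (MonoidHom.ker_eq_bot_iff f).1 hk ?_⟩⟩
    rw [map_mul, map_mul, mul_comm]
  · have h1 : f (e.symm (Equiv.swap ⟨0, by omega⟩ ⟨1, by omega⟩)) = -1 := by
      simp [f, Equiv.Perm.sign_swap']
    rw [MonoidHom.mem_ker.1 (hk ▸ Subgroup.mem_top _)] at h1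
    exact absurd h1 (by decide)

variable [Fintype F] [CharP F 2]

theorem Hyp.exists_involution_lift (h : Hyp P) {x : Quot P} (hx : orderOf x = 2) :
    ∃ g : P, (g : GL (Fin 3) F) * g = 1 ∧ (g : GL (Fin 3) F) ≠ 1 ∧ proj P g = x := by
  have hxx : x * x = 1 := by rw [← sq, ← hx, pow_orderOf_eq_one]
  have hx1 : x ≠ 1 := fun e => by rw [e, orderOf_one] at hx; norm_num at hx
  obtain ⟨g, rfl⟩ := QuotientGroup.mk'_surjective _ x
  have hc : ((g * g : P) : GL (Fin 3) F) ∈ scalars (Fin 3) F := proj_eq_one_iff.1 (by rw [map_mul]; exact hxx)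
  set c : GL (Fin 3) F := ((g * g : P) : GL (Fin 3) F) with hcdef
  obtain ⟨a, ha⟩ := (mem_scalars_iff _).1 hc
  have ha3 := h.scalar_cube (g * g).2 ha
  have hc3 : c * (c * c) = 1 := by
    apply Units.ext
    rw [Units.val_mul, Units.val_mul, ha, Units.val_one, Matrix.smul_mul, Matrix.smul_mul, one_mul,
      one_mul, smul_smul, smul_smul, show (a : F) * a * a = 1 by rw [← ha3]; ring, one_smul]
  refine ⟨g * (g * g), ?_, fun e => hx1 ?_, ?_⟩
  · have hcm : ((g * (g * g) : P) : GL (Fin 3) F) * ((g * (g * g) : P) : GL (Fin 3) F) = c * (c * c) := by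
      simp only [hcdef, Subgroup.coe_mul]; group
    rw [hcm, hc3]
  · rw [proj_eq_one_iff, show ((g : P) : GL (Fin 3) F) = (g * (g * g) : P) * c⁻¹ by
      simp only [hcdef, Subgroup.coe_mul]; group, e, one_mul]
    exact inv_mem hc
  · rw [map_mul, map_mul, hxx, mul_one]

theorem commute_of_proj {g : P} (hg : (g : GL (Fin 3) F) * g = 1) {k : P}
    (h : proj P k * proj P g = proj P g * proj P k) :
    (k : GL (Fin 3) F) * g = g * k := by
  rw [← map_mul, ← map_mul, proj_eq_iff] at h
  obtain ⟨c, hc, e⟩ := h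
  simp only [Subgroup.coe_mul] at e
  have h1 : (k : GL (Fin 3) F)⁻¹ * g * k = g * c := by rw [mul_assoc _ (g : GL (Fin 3) F), e]; group
  have hcc := fun x => scalars_comm hc x
  have h2 : c * c = 1 := by
    calc c * c = (g : GL (Fin 3) F) * g * (c * c) := by rw [hg, one_mul]
      _ = (g * c) * (g * c) := by rw [mul_assoc (g : GL (Fin 3) F) c, ← mul_assoc c, hcc g]; group
      _ = (k : GL (Fin 3) F)⁻¹ * (g * g) * k := by rw [← h1]; group
      _ = 1 := by rw [hg]; group
  rw [e, scalars_sq_eq_one hc h2, mul_one]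

/-- Centralisers of involutions of `Quot P`. -/
theorem Hyp.centraliser_cases (h : Hyp P) (hsm : SmallRoots P) {x : Quot P} (hx : orderOf x = 2) :
    (∀ a ∈ Subgroup.centralizer ({x} : Set (Quot P)), a ^ 4 = 1) ∧
      (IsMulCommutative ↥(Subgroup.centralizer ({x} : Set (Quot P))) ∨
        Nonempty (↥(Subgroup.centralizer ({x} : Set (Quot P))) ≃* DihedralGroup 4)) := by
  have := h.simple
  obtain ⟨y, hy, hxy, hc⟩ := CfsgLib.SelfCentralSimple.exists_commuting h.nonabelian hx
  obtain ⟨g, hg2, hg1, rfl⟩ := h.exists_involution_lift hx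
  obtain ⟨v, hv2, hv1, rfl⟩ := h.exists_involution_lift hy
  obtain ⟨h4, hcases⟩ := centTwo_of_commute h.le_specialLinear hsm g.2 v.2 hg2 hv2 hg1 hv1
    (fun e => hxy (by rw [Subtype.ext e])) (commute_of_proj hv2 hc.eq)
  set C := Subgroup.centralizer ({proj P g} : Set (Quot P))
  have lift : ∀ a ∈ C, ∃ k : P, proj P k = a ∧ (k : GL (Fin 3) F) * g = g * k := by
    intro a ha
    obtain ⟨k, rfl⟩ := QuotientGroup.mk'_surjective _ a
    exact ⟨k, rfl, commute_of_proj hg2 (Subgroup.mem_centralizer_singleton_iff.1 ha)⟩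
  refine ⟨fun a ha => ?_, ?_⟩
  · obtain ⟨k, rfl, hk⟩ := lift a ha
    rw [← map_pow, proj_eq_one_iff, SubmonoidClass.coe_pow]
    exact h4 _ k.2 hk
  rcases hcases with hab | ⟨r, hr, s, hs, hrg, hsg, hrr, hss, hsr, hall⟩
  · refine Or.inl ⟨⟨fun a b => Subtype.ext ?_⟩⟩
    obtain ⟨k, hk, hkg⟩ := lift a.1 a.2
    obtain ⟨l, hl, hlg⟩ := lift b.1 b.2
    show a.1 * b.1 = b.1 * a.1
    rw [← hk, ← hl, ← map_mul, ← map_mul]
    exact congrArg _ (Subtype.ext (hab _ k.2 _ l.2 hkg hlg))
  refine Or.inr ?_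
  set R := proj P ⟨r, hr⟩ with hR
  set S := proj P ⟨s, hs⟩ with hS
  have hRR : R * R = proj P g := by rw [hR, ← map_mul]; exact congrArg _ (Subtype.ext hrr)
  have hR4 : R ^ 4 = 1 := by
    rw [show R ^ 4 = R * R * (R * R) by simp [pow_succ, mul_assoc], hRR, ← map_mul]
    rw [show g * g = (1 : P) from Subtype.ext hg2, map_one]
  have hSS : S * S = 1 := by
    rw [hS, ← map_mul, show (⟨s, hs⟩ : P) * ⟨s, hs⟩ = 1 from Subtype.ext hss, map_one]
  have hSR : S * R * S⁻¹ = R⁻¹ := by
    rw [hS, hR, ← map_inv, ← map_inv, ← map_mul, ← map_mul]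
    exact congrArg _ (Subtype.ext hsr)
  have hg0 : proj P g ≠ 1 := fun e => by rw [e, orderOf_one] at hx; norm_num at hx
  have hord : orderOf R = 4 := by
    refine orderOf_eq_prime_pow (p := 2) (n := 1) ?_ hR4
    rw [pow_one, sq, hRR]; exact hg0
  have hnot : S ∉ Subgroup.zpowers R := by
    rintro ⟨i, hi⟩
    refine hg0 ?_
    have : R = R⁻¹ := by
      rw [← hSR, ← hi]; simp only; group
    rw [← hRR]
    nth_rewrite 2 [this]
    exact mul_inv_cancel R
  have hrange : (CfsgLib.TwoGroups.SD.dihedralHom R S hR4 hSS hSR).range = C := by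
    rw [CfsgLib.TwoGroups.SD.range_dihedralHom]
    refine le_antisymm ((Subgroup.closure_le _).2 ?_) fun a ha => ?_
    · rintro _ (rfl | rfl) <;> refine Subgroup.mem_centralizer_singleton_iff.2 ?_
      · rw [hR, ← map_mul, ← map_mul]; exact congrArg _ (Subtype.ext hrg)
      · rw [hS, ← map_mul, ← map_mul]; exact congrArg _ (Subtype.ext hsg)
    · obtain ⟨k, rfl, hk⟩ := lift a ha
      obtain ⟨c, hc', hkc⟩ := hall _ k.2 hk
      have hle : Subgroup.closure ({r, s} : Set (GL (Fin 3) F)) ≤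
          ((Subgroup.closure ({R, S} : Set (Quot P))).comap (proj P)).map P.subtype := by
        refine (Subgroup.closure_le _).2 ?_
        rintro _ (rfl | rfl)
        · exact ⟨⟨_, hr⟩, Subgroup.subset_closure (Or.inl rfl), rfl⟩
        · exact ⟨⟨_, hs⟩, Subgroup.subset_closure (Or.inr rfl), rfl⟩
      obtain ⟨k', hk', he⟩ := hle hkc
      rwa [show proj P k = proj P k' from proj_eq_iff.2 ⟨c, hc', he⟩]
  exact ⟨((MonoidHom.ofInjective (CfsgLib.TwoGroups.SD.dihedralHom_injective R S hR4 hSS hSR hord hnot)).trans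
    (MulEquiv.subgroupCongr hrange)).symm⟩

/-- The possible quotients. -/
theorem Hyp.smallTwo_quotient (h : Hyp P) (hsm : SmallRoots P) :
    (∃ (K : Type) (_ : Field K) (_ : Fintype K), CharP K 2 ∧
        Nonempty (Quot P ≃* Matrix.SpecialLinearGroup (Fin 2) K)) ∨
      Nonempty (Quot P ≃* Matrix.SpecialLinearGroup (Fin 3) (ZMod 2)) ∨
      Nonempty (Quot P ≃* alternatingGroup (Fin 6)) := by
  have := h.simple
  have hna := h.nonabelian
  have heven := CfsgLib.SelfCentralSimple.even_card (G := Quot P) hna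
  have hcen := CfsgLib.SelfCentralSimple.center_eq_bot (G := Quot P) hna
  by_cases hall : ∀ x : Quot P, orderOf x = 2 →
      IsMulCommutative ↥(Subgroup.centralizer ({x} : Set (Quot P)))
  · obtain ⟨S⟩ : Nonempty (Sylow 2 (Quot P)) := inferInstance
    rcases Cfsg.Agent.S2202.result (even_iff_two_dvd.2 heven) hall with hc | hn | ⟨K, _, _, A, _, _, hK, -, ⟨e⟩⟩
    · exact absurd (hc S) (CfsgLib.SelfCentralSimple.not_isCyclic_sylow hna
        (CfsgLib.SelfCentralSimple.minFac_eq_two hna) S)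
    · exfalso
      have hne := S.ne_bot_of_dvd_card heven
      have htop := ((hn S).eq_bot_or_eq_top).resolve_left hne
      have hp : IsPGroup 2 (Quot P) := by
        have := S.isPGroup'
        rw [htop] at this
        exact this.of_equiv Subgroup.topEquiv
      have := hp.center_nontrivial
      exact (Subgroup.nontrivial_iff_ne_bot _).1 this hcen
    · left
      refine ⟨K, inferInstance, inferInstance, hK, ?_⟩
      set f := (MonoidHom.fst (Matrix.SpecialLinearGroup (Fin 2) K) A).comp e.toMonoidHom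
      have hf : Function.Surjective f := fun z => ⟨e.symm (z, 1), by simp [f]⟩
      rcases (inferInstance : f.ker.Normal).eq_bot_or_eq_top with hk | hk
      · exact ⟨MulEquiv.ofBijective f ⟨(MonoidHom.ker_eq_bot_iff f).1 hk, hf⟩⟩
      · exfalso
        obtain ⟨z, hz⟩ := hf ⟨!![0, 1; -1, 0], by simp [Matrix.det_fin_two]⟩
        rw [MonoidHom.mem_ker.1 (hk ▸ Subgroup.mem_top z)] at hz
        have := congrArg (fun m : Matrix.SpecialLinearGroup (Fin 2) K => m.1 0 0) hz
        simp at this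
  · push Not at hall
    obtain ⟨x, hx, hx'⟩ := hall
    obtain ⟨-, hcases⟩ := h.centraliser_cases hsm hx
    have hD := hcases.resolve_left hx'
    rcases Cfsg.Agent.S3035.result x hx hD with h1 | ⟨⟨e⟩⟩ | ⟨⟨e⟩⟩ | h2 | h3
    · exfalso
      have hodd : Cfsg.oddCore (Quot P) = ⊥ :=
        ((inferInstance : (Cfsg.oddCore (Quot P)).Normal).eq_bot_or_eq_top).resolve_right fun e => by
          have := CfsgLib.PCore.pPrimeCore_coprime (p := 2) (G := Quot P)
          rw [show pPrimeCore 2 (Quot P) = ⊤ from e, Subgroup.card_top] at this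
          exact Nat.not_coprime_of_dvd_of_dvd one_lt_two heven dvd_rfl this
      rw [hodd, sup_bot_eq, Subgroup.centralizer_eq_top_iff_subset, Set.singleton_subset_iff,
        SetLike.mem_coe, hcen, Subgroup.mem_bot] at h1
      rw [h1, orderOf_one] at hx
      norm_num at hx
    · exact (not_perm_simple (by norm_num) h.nonabelian e).elim
    · exact (not_perm_simple (by norm_num) h.nonabelian e).elim
    · exact Or.inr (Or.inl h2)
    · exact Or.inr (Or.inr h3)

end CfsgLib.Mitchell
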