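import Cfsg.Agent.Lib.Mitchell.Basic
import Cfsg.Agent.Lib.Mitchell.Full

/-!
Centralisers of elations when all root groups have order two, in characteristic two.
-/

set_option autoImplicit false
set_option linter.unusedSectionVars false

namespace CfsgLib.Mitchell

open Cfsg Cfsg.Geo Matrix CfsgLib.Geo.Asch CfsgLib.GeomClasses
open scoped MatrixGroups

variable {F : Type*} [Field F] {P : Subgroup (GL (Fin 3) F)}

/-- All root groups have at most two elements. -/
def SmallRoots (P : Subgroup (GL (Fin 3) F)) : Prop :=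
  ∀ u φ : Fin 3 → F, ∀ c : F, Root P u φ → u ≠ 0 → φ ≠ 0 → Root P u (c • φ) → c = 0 ∨ c = 1

/-- The shape of the centraliser of an involution: a group of exponent four modulo scalars, abelian
or dihedral. -/
def CentTwo (P : Subgroup (GL (Fin 3) F)) (t : GL (Fin 3) F) : Prop :=
  (∀ g ∈ P, g * t = t * g → g ^ 4 ∈ scalars (Fin 3) F) ∧
    ((∀ g ∈ P, ∀ h ∈ P, g * t = t * g → h * t = t * h → g * h = h * g) ∨
      ∃ r ∈ P, ∃ s ∈ P, r * t = t * r ∧ s * t = t * s ∧ r * r = t ∧ s * s = 1 ∧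
        s * r * s⁻¹ = r⁻¹ ∧ ∀ g ∈ P, g * t = t * g →
          ∃ c ∈ scalars (Fin 3) F, g * c ∈ Subgroup.closure {r, s})

theorem eigen_of_commute {u φ : Fin 3 → F} (h : φ ⬝ᵥ u = 0) (hu0 : u ≠ 0) (hφ0 : φ ≠ 0)
    {g : GL (Fin 3) F} (hg : g * tv u φ = tv u φ * g) :
    ∃ a : F, a ≠ 0 ∧ (g : Matrix (Fin 3) (Fin 3) F) *ᵥ u = a • u ∧
      φ ᵥ* (g : Matrix (Fin 3) (Fin 3) F) = a • φ := by
  have h1 := congrArg (fun x : GL (Fin 3) F => (x : Matrix (Fin 3) (Fin 3) F)) hg
  simp only [Units.val_mul, tv_val h, Matrix.mul_add, Matrix.add_mul, mul_one, one_mul, add_right_inj,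
    mul_vecMulVec, vecMulVec_mul] at h1
  have key : ∀ i j, ((g : Matrix (Fin 3) (Fin 3) F) *ᵥ u) i * φ j =
      u i * (φ ᵥ* (g : Matrix (Fin 3) (Fin 3) F)) j := fun i j => congrFun (congrFun h1 i) j
  obtain ⟨i, hi⟩ := Function.ne_iff.1 hu0
  obtain ⟨j, hj⟩ := Function.ne_iff.1 hφ0
  simp only [Pi.zero_apply] at hi hj
  set a := (φ ᵥ* (g : Matrix (Fin 3) (Fin 3) F)) j / φ j with ha
  have hgu : (g : Matrix (Fin 3) (Fin 3) F) *ᵥ u = a • u := funext fun k => by
    rw [Pi.smul_apply, smul_eq_mul, ha, div_mul_eq_mul_div, eq_div_iff hj, key, mul_comm]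
  refine ⟨a, fun e => gl_mulVec_ne_zero g hu0 (by rw [hgu, e, zero_smul]), hgu, funext fun k => ?_⟩
  have h2 := key i k
  rw [hgu, Pi.smul_apply, smul_eq_mul] at h2
  rw [Pi.smul_apply, smul_eq_mul]
  refine mul_left_cancel₀ hi ?_
  rw [← h2]
  ring

/-- An upper unitriangular matrix. -/
def u3 (x y z : F) : Matrix (Fin 3) (Fin 3) F := !![1, x, z; 0, 1, y; 0, 0, 1]

theorem u3_mul (x y z x' y' z' : F) :
    u3 x y z * u3 x' y' z' = u3 (x + x') (y + y') (z + z' + x * y') := by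
  ext i j
  fin_cases i <;> fin_cases j <;> simp [u3, Matrix.mul_apply, Fin.sum_univ_three] <;> ring

theorem u3_zero : u3 (0 : F) 0 0 = 1 := by
  ext i j
  fin_cases i <;> fin_cases j <;> simp [u3]

theorem u3_pow_four [CharP F 2] (x y z : F) : u3 x y z ^ 4 = 1 := by
  have h2 : (2 : F) = 0 := CharTwo.two_eq_zero
  rw [show u3 x y z ^ 4 = u3 x y z * u3 x y z * (u3 x y z * u3 x y z) by simp [pow_succ, mul_assoc],
    u3_mul, u3_mul, ← u3_zero]
  congr 1 <;> first | linear_combination (2 * x) * h2 | linear_combination (2 * y) * h2 |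
    linear_combination (2 * z + x * y + 2 * x * y) * h2

/-- Centraliser of an elation with a second elation of the same centre. -/
theorem centTwo_of_centre [CharP F 2] (hdet : P ≤ specialLinear (Fin 3) F) (hsm : SmallRoots P)
    {u φ ψ : Fin 3 → F} (hu : Root P u φ) (hv : Root P u ψ) (hu0 : u ≠ 0) (hφ0 : φ ≠ 0)
    (hψ0 : ψ ≠ 0) (hne : ψ ≠ φ) : CentTwo P (tv u φ) := by
  obtain ⟨i, hi⟩ := Function.ne_iff.1 hu0
  simp only [Pi.zero_apply] at hi
  set θ : Fin 3 → F := (u i)⁻¹ • Pi.single i 1 with hθ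
  have hθu : θ ⬝ᵥ u = 1 := by rw [hθ, smul_dotProduct, single_dotProduct, one_mul, smul_eq_mul, inv_mul_cancel₀ hi]
  set Bm : Matrix (Fin 3) (Fin 3) F := Matrix.of ![θ, ψ, φ] with hBm
  -- `ψ` and `φ` are independent
  have hind : ∀ c₁ c₂ : F, c₁ • ψ + c₂ • φ = 0 → c₁ = 0 ∧ c₂ = 0 := by
    intro c₁ c₂ hc
    by_cases h1 : c₁ = 0
    · rw [h1, zero_smul, zero_add, smul_eq_zero] at hc
      exact ⟨h1, hc.resolve_right hφ0⟩
    exfalso
    have hψ : ψ = (-(c₂ / c₁)) • φ := by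
      rw [neg_smul, div_eq_inv_mul, mul_smul, ← smul_neg, eq_inv_smul_iff₀ h1]
      exact eq_neg_of_add_eq_zero_left hc
    rcases hsm u φ _ hu hu0 hφ0 (hψ ▸ hv) with e | e <;> rw [e] at hψ
    · exact hψ0 (by rw [hψ, zero_smul])
    · exact hne (by rw [hψ, one_smul])
  have hBu : IsUnit Bm := by
    rw [← Matrix.linearIndependent_rows_iff_isUnit, Fintype.linearIndependent_iff]
    intro c hc
    replace hc : c 0 • θ + c 1 • ψ + c 2 • φ = 0 := by rw [Fin.sum_univ_three] at hc; exact hc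
    have h0 : c 0 = 0 := by
      have := congrArg (fun χ => χ ⬝ᵥ u) hc
      simpa [add_dotProduct, smul_dotProduct, hθu, hu.1, hv.1] using this
    rw [h0, zero_smul, zero_add] at hc
    obtain ⟨h1, h2⟩ := hind _ _ hc
    intro k; fin_cases k <;> assumption
  set Bi := Bm⁻¹ with hBi
  have hdBm := (Matrix.isUnit_iff_isUnit_det _).1 hBu
  have hBB : Bm * Bi = 1 := Matrix.mul_nonsing_inv _ hdBm
  have hBB' : Bi * Bm = 1 := Matrix.nonsing_inv_mul _ hdBm
  let cf : GL (Fin 3) F → Matrix (Fin 3) (Fin 3) F := fun g => Bm * g * Bi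
  have cf_mul : ∀ g h : GL (Fin 3) F, cf (g * h) = cf g * cf h := fun g h => by
    simp only [cf, Units.val_mul, mul_assoc]
    rw [← mul_assoc Bi Bm, hBB', one_mul]
  have cf_inj : ∀ g h : GL (Fin 3) F, cf g = cf h → g = h := fun g h e => Units.ext (by
    have := congrArg (fun X => Bi * X * Bm) e
    simpa [cf, ← mul_assoc, hBB', mul_assoc (g : Matrix (Fin 3) (Fin 3) F), mul_assoc (h : Matrix (Fin 3) (Fin 3) F)] using this)
  have cf_one : cf 1 = u3 0 0 0 := by simp [cf, hBB, u3_zero]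
  have hcol : Bm *ᵥ u = Pi.single 0 1 := by
    funext k
    fin_cases k
    · simpa [hBm, Matrix.mulVec] using hθu
    · simpa [hBm, Matrix.mulVec] using hv.1
    · simpa [hBm, Matrix.mulVec] using hu.1
  have hrow : ∀ k, Pi.single k (1 : F) ᵥ* Bm = Bm k := fun k => Matrix.single_one_vecMul k Bm
  have hrow' : φ ᵥ* Bi = Pi.single 2 1 := by
    rw [show φ = Pi.single 2 1 ᵥ* Bm by rw [hrow]; rfl, Matrix.vecMul_vecMul, hBB, Matrix.vecMul_one]
  have hrow'' : ψ ᵥ* Bi = Pi.single 1 1 := by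
    rw [show ψ = Pi.single 1 1 ᵥ* Bm by rw [hrow]; rfl, Matrix.vecMul_vecMul, hBB, Matrix.vecMul_one]
  have cf_tv : ∀ c d : F, cf (tv u (c • ψ + d • φ)) = u3 c 0 d := fun c d => by
    simp only [cf]
    rw [tv_val (by simp [add_dotProduct, hu.1, hv.1]), Matrix.mul_add, Matrix.add_mul, mul_one, hBB,
      mul_vecMulVec, vecMulVec_mul, hcol, Matrix.add_vecMul, Matrix.smul_vecMul, Matrix.smul_vecMul,
      hrow', hrow'']
    ext k l
    fin_cases k <;> fin_cases l <;> simp [u3, vecMulVec_apply]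
  have hnz : ∀ z : F, ∀ g ∈ P, cf g = u3 0 0 z → z = 0 ∨ z = 1 := by
    intro z g hg hgz
    refine hsm u φ z hu hu0 hφ0 ⟨by simp [hu.1], ?_⟩
    rwa [show tv u (z • φ) = g from cf_inj _ _ (by rw [hgz, ← cf_tv 0 z, zero_smul, zero_add])]
  have h2 : (2 : F) = 0 := CharTwo.two_eq_zero
  -- the shape of centralising elements
  have shape : ∀ g ∈ P, g * tv u φ = tv u φ * g →
      ∃ a x y z : F, a ^ 3 = 1 ∧ cf g = a • u3 x y z := by
    intro g hg hgt
    obtain ⟨a, ha0, hgu, hgφ⟩ := eigen_of_commute hu.1 hu0 hφ0 hgt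
    set M := cf g with hM
    have hMB : M * Bm = Bm * (g : Matrix (Fin 3) (Fin 3) F) := by
      simp only [hM, cf, mul_assoc, hBB', mul_one]
    have hc0 : M *ᵥ Pi.single 0 1 = a • Pi.single 0 1 := by
      rw [← hcol, Matrix.mulVec_mulVec, hMB, ← Matrix.mulVec_mulVec, hgu, Matrix.mulVec_smul]
    have hr2 : Pi.single 2 1 ᵥ* M = a • Pi.single 2 1 := by
      rw [← hrow', Matrix.vecMul_vecMul, show Bi * M = (g : Matrix (Fin 3) (Fin 3) F) * Bi by
        simp only [hM, cf, ← mul_assoc, hBB', one_mul], ← Matrix.vecMul_vecMul, hgφ, Matrix.smul_vecMul]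
    have e00 : M 0 0 = a := by simpa using congrFun hc0 0
    have e10 : M 1 0 = 0 := by simpa using congrFun hc0 1
    have e20 : M 2 0 = 0 := by simpa using congrFun hc0 2
    have e21 : M 2 1 = 0 := by simpa using congrFun hr2 1
    have e22 : M 2 2 = a := by simpa using congrFun hr2 2
    set b := M 1 1 with hb
    set y := M 1 2 with hy
    have hψg : ψ ᵥ* (g : Matrix (Fin 3) (Fin 3) F) = b • ψ + y • φ := by
      have h1 : (M * Bm) 1 = ψ ᵥ* (g : Matrix (Fin 3) (Fin 3) F) := by rw [hMB]; rfl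
      rw [← h1]
      funext k
      simp [Matrix.mul_apply, Fin.sum_univ_three, e10, hBm, hb, hy]
    have hd : M.det = 1 := by
      simp only [hM, cf, Matrix.det_mul]
      rw [mem_specialLinear.1 (hdet hg), mul_one, ← Matrix.det_mul, hBB, Matrix.det_one]
    have hd' : a * b * a = 1 := by
      rw [← hd, Matrix.det_fin_three, e00, e10, e20, e21, e22, ← hb]; ring
    have hb0 : b ≠ 0 := fun e => by rw [e] at hd'; simp at hd'
    set gi := ((g⁻¹ : GL (Fin 3) F) : Matrix (Fin 3) (Fin 3) F)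
    have hgi : (g : Matrix (Fin 3) (Fin 3) F) * gi = 1 := by simp [gi, ← Units.val_mul]
    have hφi : φ ᵥ* gi = a⁻¹ • φ := by
      rw [eq_inv_smul_iff₀ ha0, ← Matrix.smul_vecMul, ← hgφ, Matrix.vecMul_vecMul, hgi, Matrix.vecMul_one]
    have hψi : a • (ψ ᵥ* gi) = (a / b) • ψ + (-(y / b)) • φ := by
      have h1 := congrArg (fun χ => χ ᵥ* gi) hψg
      simp only [Matrix.vecMul_vecMul, hgi, Matrix.vecMul_one, Matrix.add_vecMul, Matrix.smul_vecMul,
        hφi, smul_smul] at h1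
      funext k
      have hk := congrFun h1 k
      simp only [Pi.add_apply, Pi.smul_apply, smul_eq_mul] at hk ⊢
      field_simp at hk ⊢
      linear_combination -hk
    have hconj : ∀ χ : Fin 3 → F, Root P u χ → Root P u (a • (χ ᵥ* gi)) := fun χ hχ => by
      have := hχ.conj hg
      rw [hgu] at this
      exact ⟨by have h' := this.1; rwa [dotProduct_smul, ← smul_dotProduct] at h',
        by rw [← tv_smul_comm (by
          have h' := this.1
          rw [dotProduct_smul, smul_eq_mul] at h'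
          exact (mul_eq_zero.1 h').resolve_left ha0)]; exact this.2⟩
    set μ := a / b
    set δ := -(y / b)
    have hμ : μ = 1 := by
      by_contra hμ
      have hη : Root P u ((μ + 1) • ψ + δ • φ) := by
        have := (hconj ψ hv).add_right hv
        rw [hψi] at this
        rwa [add_smul, one_smul, add_right_comm]
      have hη0 : (μ + 1) • ψ + δ • φ ≠ 0 := fun e => hμ (by linear_combination (hind _ _ e).1 - h2)
      have h' := hconj _ hη
      rw [show a • (((μ + 1) • ψ + δ • φ) ᵥ* gi) = μ • ((μ + 1) • ψ + δ • φ) by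
        rw [Matrix.add_vecMul, Matrix.smul_vecMul, Matrix.smul_vecMul, smul_add, smul_comm a, hψi,
          smul_comm a, hφi, smul_inv_smul₀ ha0]
        funext k
        simp only [Pi.add_apply, Pi.smul_apply, smul_eq_mul]
        linear_combination (δ * φ k) * h2] at h'
      rcases hsm u _ μ hη hu0 hη0 h' with e | e
      · exact div_ne_zero ha0 hb0 e
      · exact hμ e
    have hab : b = a := ((div_eq_one_iff_eq hb0).1 hμ).symm
    have ha3 : a ^ 3 = 1 := by rw [← hd', hab]; ring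
    refine ⟨a, M 0 1 / a, y / a, M 0 2 / a, ha3, ?_⟩
    ext k l
    fin_cases k <;> fin_cases l <;>
      simp [u3, e00, e10, e20, e21, e22, ← hb, ← hy, hab, mul_div_cancel₀ _ ha0]
  have scal : ∀ g : GL (Fin 3) F, ∀ a : F, cf g = a • 1 → g ∈ scalars (Fin 3) F := by
    intro g a hga
    have hg' : (g : Matrix (Fin 3) (Fin 3) F) = a • 1 := by
      have := congrArg (fun X => Bi * X * Bm) hga
      simpa [cf, ← mul_assoc, hBB', mul_assoc (g : Matrix (Fin 3) (Fin 3) F)] using this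
    have ha : a ≠ 0 := by
      rintro rfl
      exact g.ne_zero (by rw [hg', zero_smul])
    exact (mem_scalars_iff _).2 ⟨Units.mk0 a ha, hg'⟩
  have pow4 : ∀ g ∈ P, g * tv u φ = tv u φ * g → g ^ 4 ∈ scalars (Fin 3) F := by
    intro g hg hgt
    obtain ⟨a, x, y, z, -, hgM⟩ := shape g hg hgt
    refine scal _ (a ^ 4) ?_
    rw [show g ^ 4 = g * g * (g * g) by simp [pow_succ, mul_assoc], cf_mul, cf_mul, hgM, ← sq, ← sq, ← pow_mul,
      smul_pow, show 2 * 2 = 4 from rfl, u3_pow_four]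
  -- normalised representatives
  have norm : ∀ g ∈ P, g * tv u φ = tv u φ * g →
      ∃ c ∈ scalars (Fin 3) F, g * c ∈ P ∧ ∃ x y z, cf (g * c) = u3 x y z := by
    intro g hg hgt
    obtain ⟨a, x, y, z, ha3, hgM⟩ := shape g hg hgt
    have h4 := pow4 g hg hgt
    refine ⟨(g ^ 4)⁻¹, inv_mem h4, P.mul_mem hg (P.inv_mem (P.pow_mem hg 4)), x, y, z, ?_⟩
    have e4 : cf (g ^ 4) = a • 1 := by
      rw [show g ^ 4 = g * g * (g * g) by simp [pow_succ, mul_assoc], cf_mul, cf_mul, hgM, ← sq, ← sq, ← pow_mul,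
        smul_pow, show 2 * 2 = 4 from rfl, u3_pow_four, show a ^ 4 = a by linear_combination a * ha3]
    have e5 : cf (g * (g ^ 4)⁻¹) * (a • 1) = a • u3 x y z := by
      rw [← e4, ← cf_mul, inv_mul_cancel_right, hgM]
    rw [Matrix.mul_smul, mul_one] at e5
    exact smul_right_injective _ (show a ≠ 0 from fun e => by rw [e] at ha3; simp at ha3) e5
  have cf_t : cf (tv u φ) = u3 0 0 1 := by rw [← cf_tv 0 1, zero_smul, zero_add, one_smul]
  have cf_v : cf (tv u ψ) = u3 1 0 0 := by rw [← cf_tv 1 0, zero_smul, add_zero, one_smul]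
  have hcomm : ∀ g : GL (Fin 3) F, ∀ x y z, cf g = u3 x y z → g * tv u φ = tv u φ * g :=
    fun g x y z hg => cf_inj _ _ (by rw [cf_mul, cf_mul, cf_t, hg, u3_mul, u3_mul]; simp [add_comm])
  refine ⟨pow4, ?_⟩
  by_cases hy : ∀ g ∈ P, ∀ x y z, cf g = u3 x y z → y = 0
  · left
    intro g hg h hh hgt hht
    obtain ⟨c, hc, hgc, x, y, z, e⟩ := norm g hg hgt
    obtain ⟨c', hc', hhc, x', y', z', e'⟩ := norm h hh hht
    have k : g * c * (h * c') = h * c' * (g * c) := cf_inj _ _ (by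
      rw [cf_mul (g * c), cf_mul (h * c'), e, e', u3_mul, u3_mul, hy _ hgc x y z e, hy _ hhc x' y' z' e']
      congr 1 <;> ring)
    have hsc : ∀ x : GL (Fin 3) F, c * x = x * c := fun x => scalars_comm hc x
    have hsc' : ∀ x : GL (Fin 3) F, c' * x = x * c' := fun x => scalars_comm hc' x
    have k' : g * h * (c * c') = h * g * (c * c') := by
      calc g * h * (c * c') = g * (h * c) * c' := by group
        _ = g * c * (h * c') := by rw [← hsc h]; group
        _ = h * (c' * g) * c := by rw [k]; group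
        _ = h * g * (c' * c) := by rw [hsc' g]; group
        _ = h * g * (c * c') := by rw [hsc c']
    exact mul_right_cancel k'
  right
  push Not at hy
  obtain ⟨h, hh, x₀, y₀, z₀, he, hy0⟩ := hy
  have yb : ∀ g ∈ P, ∀ x y z, cf g = u3 x y z → y = 0 ∨ y = 1 := by
    intro g hg x y z e
    refine hnz y (tv u ψ * g * (g * tv u ψ)⁻¹) (P.mul_mem (P.mul_mem hv.2 hg) (P.inv_mem (P.mul_mem hg hv.2))) ?_
    have e1 : cf (tv u ψ * g) = u3 (1 + x) y (z + y) := by
      rw [cf_mul, cf_v, e, u3_mul]; congr 1 <;> ring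
    have e2 : cf (g * tv u ψ) = u3 (1 + x) y z := by
      rw [cf_mul, cf_v, e, u3_mul]; congr 1 <;> ring
    have e3 : cf (tv u ψ * g * (g * tv u ψ)⁻¹) * u3 (1 + x) y z = u3 (1 + x) y (z + y) := by
      rw [← e2, ← cf_mul, inv_mul_cancel_right, e1]
    have e4 : u3 (1 + x) y z * u3 (-(1 + x)) (-y) (-z + (1 + x) * y) = 1 := by
      rw [u3_mul, ← u3_zero]; congr 1 <;> ring
    have e5 := congrArg (· * u3 (-(1 + x)) (-y) (-z + (1 + x) * y)) e3
    rw [mul_assoc (cf _), e4, mul_one] at e5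
    rw [e5, u3_mul]; congr 1 <;> ring
  obtain rfl : y₀ = 1 := (yb h hh _ _ _ he).resolve_left hy0
  have hx0 : x₀ = 0 ∨ x₀ = 1 := hnz _ (h * h) (P.mul_mem hh hh) (by
    rw [cf_mul, he, u3_mul, CharTwo.add_self_eq_zero, CharTwo.add_self_eq_zero, CharTwo.add_self_eq_zero,
      zero_add, mul_one])
  obtain ⟨w, hw, z₁, hwe⟩ : ∃ w ∈ P, ∃ z₁, cf w = u3 0 1 z₁ := by
    rcases hx0 with rfl | rfl
    · exact ⟨h, hh, z₀, he⟩
    · refine ⟨h * tv u ψ, P.mul_mem hh hv.2, z₀, ?_⟩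
      rw [cf_mul, he, cf_v, u3_mul]; congr 1
      · exact CharTwo.add_self_eq_zero 1
      · ring
      · ring
  set r := w * tv u ψ with hr
  have hre : cf r = u3 1 1 z₁ := by rw [hr, cf_mul, hwe, cf_v, u3_mul]; congr 1 <;> ring
  have hww : w * w = 1 := cf_inj _ _ (by
    rw [cf_mul, hwe, u3_mul, cf_one]; congr 1 <;> simp [CharTwo.add_self_eq_zero])
  have hvv : tv u ψ * tv u ψ = 1 := cf_inj _ _ (by
    rw [cf_mul, cf_v, u3_mul, cf_one]; congr 1 <;> simp [CharTwo.add_self_eq_zero])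
  have hrr : r * r = tv u φ := cf_inj _ _ (by
    rw [cf_mul, hre, cf_t, u3_mul]; congr 1 <;> simp [CharTwo.add_self_eq_zero])
  refine ⟨r, P.mul_mem hw hv.2, tv u ψ, hv.2, hcomm r _ _ _ hre, hcomm _ _ _ _ cf_v, hrr, hvv, ?_, ?_⟩
  · rw [hr, _root_.mul_inv_rev, inv_eq_of_mul_eq_one_right hvv, inv_eq_of_mul_eq_one_right hww]
    rw [mul_assoc, mul_assoc, hvv, mul_one]
  intro g hg hgt
  set D := Subgroup.closure ({r, tv u ψ} : Set (GL (Fin 3) F))
  have hrD : r ∈ D := Subgroup.subset_closure (Or.inl rfl)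
  have hvD : tv u ψ ∈ D := Subgroup.subset_closure (Or.inr rfl)
  have hwD : w ∈ D := by
    rw [show w = r * (tv u ψ)⁻¹ by rw [hr]; group]
    exact D.mul_mem hrD (D.inv_mem hvD)
  -- elements with middle entry zero
  have low : ∀ k ∈ P, ∀ x z, cf k = u3 x 0 z → k ∈ D := by
    intro k hk x z e
    have hx : x = 0 ∨ x = 1 := by
      refine hnz x (k * w * (w * k)⁻¹) (P.mul_mem (P.mul_mem hk hw) (P.inv_mem (P.mul_mem hw hk))) ?_
      have e1 : cf (k * w) = u3 x 1 (z + z₁ + x) := by rw [cf_mul, e, hwe, u3_mul]; congr 1 <;> ring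
      have e2 : cf (w * k) = u3 x 1 (z + z₁) := by rw [cf_mul, e, hwe, u3_mul]; congr 1 <;> ring
      have e3 : cf (k * w * (w * k)⁻¹) * u3 x 1 (z + z₁) = u3 x 1 (z + z₁ + x) := by
        rw [← e2, ← cf_mul, inv_mul_cancel_right, e1]
      have e4 : u3 x 1 (z + z₁) * u3 (-x) (-1) (-(z + z₁) + x) = 1 := by
        rw [u3_mul, ← u3_zero]; congr 1 <;> ring
      have e5 := congrArg (· * u3 (-x) (-1) (-(z + z₁) + x)) e3
      rw [mul_assoc (cf _), e4, mul_one] at e5
      rw [e5, u3_mul]; congr 1 <;> ring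
    have cent : ∀ k ∈ P, ∀ z, cf k = u3 0 0 z → k ∈ D := by
      intro k hk z e
      rcases hnz z k hk e with rfl | rfl
      · rw [cf_inj k 1 (by rw [e, cf_one])]; exact D.one_mem
      · rw [cf_inj k _ (e.trans cf_t.symm), ← hrr]; exact D.mul_mem hrD hrD
    rcases hx with rfl | rfl
    · exact cent k hk z e
    · have := cent (k * tv u ψ) (P.mul_mem hk hv.2) z (by
        rw [cf_mul, e, cf_v, u3_mul]; congr 1
        · exact CharTwo.add_self_eq_zero 1
        · ring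
        · ring)
      exact (Subgroup.mul_mem_cancel_right D hvD).1 this
  obtain ⟨c, hc, hgc, x, y, z, e⟩ := norm g hg hgt
  refine ⟨c, hc, ?_⟩
  rcases yb _ hgc x y z e with rfl | rfl
  · exact low _ hgc x z e
  · have := low (g * c * w) (P.mul_mem hgc hw) x (z + z₁ + x) (by
      rw [cf_mul, e, hwe, u3_mul]; congr 1
      · ring
      · exact CharTwo.add_self_eq_zero 1
      · ring)
    exact (Subgroup.mul_mem_cancel_right D hwD).1 this

/-- Inverse transpose. -/
def dual : GL (Fin 3) F →* GL (Fin 3) F where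
  toFun g := ⟨((g⁻¹ : GL (Fin 3) F) : Matrix (Fin 3) (Fin 3) F)ᵀ, (g : Matrix (Fin 3) (Fin 3) F)ᵀ,
    by rw [← Matrix.transpose_mul, ← Units.val_mul, mul_inv_cancel, Units.val_one, Matrix.transpose_one],
    by rw [← Matrix.transpose_mul, ← Units.val_mul, inv_mul_cancel, Units.val_one, Matrix.transpose_one]⟩
  map_one' := Units.ext (by simp)
  map_mul' g h := Units.ext (by simp [_root_.mul_inv_rev])

theorem dual_dual (g : GL (Fin 3) F) : dual (dual g) = g :=
  Units.ext (Matrix.transpose_transpose _)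

theorem dual_mem_scalars {c : GL (Fin 3) F} (hc : c ∈ scalars (Fin 3) F) :
    dual c ∈ scalars (Fin 3) F := by
  obtain ⟨a, ha⟩ := (mem_scalars_iff _).1 (inv_mem hc)
  refine (mem_scalars_iff _).2 ⟨a, ?_⟩
  show ((c⁻¹ : GL (Fin 3) F) : Matrix (Fin 3) (Fin 3) F)ᵀ = _
  rw [ha, Matrix.transpose_smul, Matrix.transpose_one]

theorem dual_tv {u φ : Fin 3 → F} (h : φ ⬝ᵥ u = 0) : dual (tv u φ) = tv φ (-u) := by
  apply Units.ext
  show (((tv u φ)⁻¹ : GL (Fin 3) F) : Matrix (Fin 3) (Fin 3) F)ᵀ = _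
  rw [tv_inv h, tv_val (by simp [h]), tv_val (by rw [neg_dotProduct, dotProduct_comm, h, neg_zero]),
    Matrix.transpose_add, Matrix.transpose_one]
  ext i j
  simp [vecMulVec_apply, mul_comm]

theorem CentTwo.of_dual {t : GL (Fin 3) F} (h : CentTwo (P.map dual) (dual t)) : CentTwo P t := by
  have hm : ∀ {g}, g ∈ P → dual g ∈ P.map dual := fun hg => Subgroup.mem_map_of_mem _ hg
  have hm' : ∀ {g}, g ∈ P.map dual → dual g ∈ P := by
    rintro _ ⟨g, hg, rfl⟩; rwa [dual_dual]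
  have hc : ∀ {g}, g * t = t * g → dual g * dual t = dual t * dual g := fun e => by
    rw [← map_mul, e, map_mul]
  have inj : Function.Injective (dual : GL (Fin 3) F → GL (Fin 3) F) := fun a b e => by
    rw [← dual_dual a, e, dual_dual]
  refine ⟨fun g hg e => ?_, ?_⟩
  · have := dual_mem_scalars (h.1 _ (hm hg) (hc e))
    rwa [← map_pow, dual_dual] at this
  rcases h.2 with hab | ⟨r, hr, s, hs, hrt, hst, hrr, hss, hsr, hall⟩
  · exact Or.inl fun g hg k hk eg ek => inj (by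
      rw [map_mul, map_mul]; exact hab _ (hm hg) _ (hm hk) (hc eg) (hc ek))
  refine Or.inr ⟨dual r, hm' hr, dual s, hm' hs, ?_, ?_, ?_, ?_, ?_, fun g hg e => ?_⟩
  · apply inj; rw [map_mul, map_mul, dual_dual]; exact hrt
  · apply inj; rw [map_mul, map_mul, dual_dual]; exact hst
  · apply inj; rw [map_mul, dual_dual]; exact hrr
  · apply inj; rw [map_mul, dual_dual, map_one]; exact hss
  · apply inj; rw [map_mul, map_mul, map_inv, map_inv, dual_dual, dual_dual]; exact hsr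
  · obtain ⟨c, hc', hgc⟩ := hall _ (hm hg) (hc e)
    refine ⟨dual c, dual_mem_scalars hc', ?_⟩
    have := Subgroup.mem_map_of_mem dual hgc
    rw [MonoidHom.map_closure, Set.image_pair, map_mul, dual_dual] at this
    exact this

theorem SmallRoots.dual (hsm : SmallRoots P) : SmallRoots (P.map Mitchell.dual) := by
  have key : ∀ {u φ : Fin 3 → F}, Root (P.map Mitchell.dual) u φ → Root P φ (-u) := by
    intro u φ h
    obtain ⟨g, hg, e⟩ := h.2
    refine ⟨by rw [neg_dotProduct, dotProduct_comm, h.1, neg_zero], ?_⟩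
    rw [← dual_tv h.1, ← e, dual_dual]; exact hg
  intro u φ c h hu0 hφ0 hc
  refine hsm φ (-u) c (key h) hφ0 (neg_ne_zero.2 hu0) ⟨by
    simp [dotProduct_comm u φ, h.1], ?_⟩
  rw [← tv_smul_comm (key h).1]
  exact (key hc).2

theorem Root.dual {u φ : Fin 3 → F} (h : Root P u φ) : Root (P.map Mitchell.dual) φ (-u) :=
  ⟨by rw [neg_dotProduct, dotProduct_comm, h.1, neg_zero], by
    rw [← dual_tv h.1]; exact Subgroup.mem_map_of_mem _ h.2⟩

/-- An elation of `GL₃` in characteristic two. -/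
theorem exists_tv_of_sq_one [CharP F 2] {g : GL (Fin 3) F} (h2 : g * g = 1) (h1 : g ≠ 1) :
    ∃ u φ : Fin 3 → F, φ ⬝ᵥ u = 0 ∧ u ≠ 0 ∧ φ ≠ 0 ∧ g = tv u φ := by
  set N : Matrix (Fin 3) (Fin 3) F := (g : Matrix (Fin 3) (Fin 3) F) - 1 with hN
  have hg : (g : Matrix (Fin 3) (Fin 3) F) * g = 1 := by rw [← Units.val_mul, h2, Units.val_one]
  have hNN : N * N = 0 := by
    rw [hN, sub_mul, mul_sub, mul_sub, hg]
    ext i j
    simp only [Matrix.sub_apply, one_mul, mul_one, Matrix.zero_apply]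
    linear_combination ((1 : Matrix (Fin 3) (Fin 3) F) i j - (g : Matrix (Fin 3) (Fin 3) F) i j) *
      (CharTwo.two_eq_zero : (2 : F) = 0)
  have hN0 : N ≠ 0 := fun e => h1 (Units.ext (by rw [Units.val_one]; exact sub_eq_zero.1 e))
  obtain ⟨k, l, hkl⟩ : ∃ k l, N k l ≠ 0 := by
    by_contra hc
    push Not at hc
    exact hN0 (Matrix.ext hc)
  set u : Fin 3 → F := fun i => N i l with hu
  have hu0 : u ≠ 0 := fun e => hkl (congrFun e k)
  have hrange : ∀ x, ∃ c : F, N *ᵥ x = c • u := by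
    let T := Matrix.toLin' N
    have hle : LinearMap.range T ≤ LinearMap.ker T := by
      rintro _ ⟨x, rfl⟩
      rw [LinearMap.mem_ker, Matrix.toLin'_apply, Matrix.toLin'_apply, Matrix.mulVec_mulVec, hNN,
        Matrix.zero_mulVec]
    have h3 := T.finrank_range_add_finrank_ker
    have := Submodule.finrank_mono hle
    rw [Module.finrank_fintype_fun_eq_card, Fintype.card_fin] at h3
    have hmem : u ∈ LinearMap.range T :=
      ⟨Pi.single l 1, by rw [Matrix.toLin'_apply, Matrix.mulVec_single_one]; rfl⟩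
    have hne : LinearMap.range T ≠ ⊥ := fun e => hu0 (by rwa [e, Submodule.mem_bot] at hmem)
    have hpos : 1 ≤ Module.finrank F T.range :=
      Nat.one_le_iff_ne_zero.2 fun e => hne (Submodule.finrank_eq_zero.1 e)
    have h1r : Module.finrank F T.range = 1 := by omega
    intro x
    obtain ⟨c, hc⟩ := (finrank_eq_one_iff_of_nonzero' (⟨u, hmem⟩ : LinearMap.range T)
      (fun e => hu0 (congrArg Subtype.val e))).1 h1r ⟨N *ᵥ x, x, rfl⟩
    exact ⟨c, (congrArg Subtype.val hc).symm⟩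
  choose c hc using hrange
  set φ : Fin 3 → F := fun j => c (Pi.single j 1) with hφ
  have hNe : N = vecMulVec u φ := by
    ext i j
    have := congrFun (hc (Pi.single j 1)) i
    rw [Matrix.mulVec_single_one] at this
    rw [vecMulVec_apply, mul_comm]
    exact this
  have hφ0 : φ ≠ 0 := fun e => hN0 (by rw [hNe, e]; ext; simp [vecMulVec_apply])
  have hdot : φ ⬝ᵥ u = 0 := by
    by_contra hne
    rw [hNe, vecMulVec_mul_vecMulVec] at hNN
    obtain ⟨i, hi⟩ := Function.ne_iff.1 hu0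
    obtain ⟨j, hj⟩ := Function.ne_iff.1 hφ0
    have := congrFun (congrFun hNN i) j
    simp [vecMulVec_apply, hne] at this
    rcases this with e | e
    · exact hi e
    · exact hj e
  exact ⟨u, φ, hdot, hu0, hφ0, Units.ext (by rw [tv_val hdot, ← hNe, hN, add_sub_cancel])⟩

/-- **Centralisers of elations in a fours group.** -/
theorem centTwo_of_commute [CharP F 2] (hdet : P ≤ specialLinear (Fin 3) F) (hsm : SmallRoots P)
    {t v : GL (Fin 3) F} (ht : t ∈ P) (hv : v ∈ P) (ht2 : t * t = 1) (hv2 : v * v = 1) (ht1 : t ≠ 1)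
    (hv1 : v ≠ 1) (hne : v ≠ t) (hc : t * v = v * t) : CentTwo P t := by
  obtain ⟨u, φ, hu, hu0, hφ0, rfl⟩ := exists_tv_of_sq_one ht2 ht1
  obtain ⟨w, χ, hw, hw0, hχ0, rfl⟩ := exists_tv_of_sq_one hv2 hv1
  by_cases hχ : ∃ c : F, χ = c • φ
  · -- same axis
    obtain ⟨c, rfl⟩ := hχ
    have hwφ : φ ⬝ᵥ w = 0 := by
      rw [smul_dotProduct, smul_eq_mul, mul_eq_zero] at hw
      exact hw.resolve_left fun e => hχ0 (by rw [e, zero_smul])
    rw [← tv_smul_comm hwφ] at hne hv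
    refine CentTwo.of_dual ?_
    rw [dual_tv hu]
    refine centTwo_of_centre ?_ hsm.dual (Root.dual ⟨hu, ht⟩)
      (ψ := -(c • w)) (Root.dual ⟨by simp [hwφ], hv⟩) hφ0 (neg_ne_zero.2 hu0) ?_ ?_
    · rintro _ ⟨g, hg, rfl⟩
      rw [mem_specialLinear]
      show (((g⁻¹ : GL (Fin 3) F) : Matrix (Fin 3) (Fin 3) F)ᵀ).det = 1
      rw [Matrix.det_transpose]
      exact mem_specialLinear.1 (hdet (P.inv_mem hg))
    · exact neg_ne_zero.2 (smul_ne_zero (fun e => hχ0 (by rw [e, zero_smul])) hw0)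
    · exact fun e => hne (by rw [neg_injective e])
  -- same centre
  push Not at hχ
  obtain ⟨a, -, hgu, hgφ⟩ := eigen_of_commute hu hu0 hφ0 hc.symm
  rw [tv_mulVec hw] at hgu
  have hχu : χ ⬝ᵥ u = 0 := by
    by_contra h0
    have hwu : w = ((χ ⬝ᵥ u)⁻¹ * (a - 1)) • u := by
      rw [mul_smul, eq_inv_smul_iff₀ h0, sub_smul, one_smul, ← hgu]; abel
    rw [hwu, dotProduct_smul, smul_eq_mul, mul_eq_zero] at hw
    exact hw0 (by rw [hwu, hw.resolve_right h0, zero_smul])
  rw [hχu, zero_smul, add_zero] at hgu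
  have ha1 : a = 1 := by
    obtain ⟨i, hi⟩ := Function.ne_iff.1 hu0
    exact (mul_right_cancel₀ hi ((one_mul _).trans (congrFun hgu i))).symm
  rw [tv_val hw, Matrix.vecMul_add, Matrix.vecMul_one, vecMul_vecMulVec, ha1, one_smul] at hgφ
  have hφw : φ ⬝ᵥ w = 0 := (smul_eq_zero.1 (add_eq_left.1 hgφ)).resolve_right hχ0
  -- the product is again an elation
  obtain ⟨g, hg⟩ : ∃ g, g = tv u φ * tv w χ := ⟨_, rfl⟩
  have hg2 : g * g = 1 := by
    calc g * g = tv u φ * (tv w χ * tv u φ) * tv w χ := by rw [hg]; group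
      _ = (tv u φ * tv u φ) * (tv w χ * tv w χ) := by rw [← hc]; group
      _ = 1 := by rw [ht2, hv2, one_mul]
  have hg1 : g ≠ 1 := fun e => hne (by
    rw [hg] at e
    exact (inv_eq_of_mul_eq_one_right e).symm.trans (inv_eq_of_mul_eq_one_right ht2))
  obtain ⟨b, β, hbβ, hb0, -, hgb⟩ := exists_tv_of_sq_one hg2 hg1
  obtain ⟨cw, hcw⟩ : ∃ c : F, w = c • u := by
    obtain ⟨x, hx, hx'⟩ : ∃ x : Fin 3 → F, φ ⬝ᵥ x = 0 ∧ χ ⬝ᵥ x ≠ 0 := by
      by_contra hcx
      push Not at hcx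
      obtain ⟨j, hj⟩ := Function.ne_iff.1 hφ0
      refine hχ (χ j / φ j) (funext fun k => ?_)
      have := hcx (Pi.single k (φ j) - Pi.single j (φ k)) (by
        rw [dotProduct_sub, dotProduct_single, dotProduct_single]; ring)
      rw [dotProduct_sub, dotProduct_single, dotProduct_single, sub_eq_zero] at this
      rw [Pi.smul_apply, smul_eq_mul, div_mul_eq_mul_div, eq_div_iff hj, this, mul_comm]
    have key : ∀ y, (φ ⬝ᵥ y) • u + (χ ⬝ᵥ y) • w = (β ⬝ᵥ y) • b := fun y => by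
      have h1 := congrArg (fun M : GL (Fin 3) F => (M : Matrix (Fin 3) (Fin 3) F) *ᵥ y) hgb
      simp only [hg, gl_mul_mulVec, tv_mulVec hw, tv_mulVec hu, tv_mulVec hbβ, dotProduct_add,
        dotProduct_smul, hφw, smul_zero, add_zero] at h1
      rw [add_assoc] at h1
      rw [← add_left_cancel h1, add_comm]
    obtain ⟨i, hi⟩ := Function.ne_iff.1 hφ0
    have e1 := key x
    rw [hx, zero_smul, zero_add] at e1
    have e2 := key (Pi.single i 1)
    rw [dotProduct_single, mul_one] at e2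
    have hwb : w = ((χ ⬝ᵥ x)⁻¹ * (β ⬝ᵥ x)) • b := by rw [mul_smul, ← e1, inv_smul_smul₀ hx']
    have hub : φ i • u = ((β ⬝ᵥ Pi.single i 1) -
        (χ ⬝ᵥ Pi.single i 1) * ((χ ⬝ᵥ x)⁻¹ * (β ⬝ᵥ x))) • b := by
      rw [sub_smul, ← e2, mul_smul _ _ b, ← hwb, add_sub_cancel_right]
    set k := (β ⬝ᵥ Pi.single i 1) - (χ ⬝ᵥ Pi.single i 1) * ((χ ⬝ᵥ x)⁻¹ * (β ⬝ᵥ x))
    have hk : k ≠ 0 := fun e => by
      rw [e, zero_smul, smul_eq_zero] at hub
      exact hub.elim hi hu0
    refine ⟨(χ ⬝ᵥ x)⁻¹ * (β ⬝ᵥ x) * (k⁻¹ * φ i), ?_⟩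
    rw [mul_smul _ (k⁻¹ * φ i), mul_smul k⁻¹, hub, inv_smul_smul₀ hk]
    exact hwb
  subst hcw
  have hχu' : χ ⬝ᵥ u = 0 := hχu
  rw [tv_smul_comm hχu'] at hne hv
  refine centTwo_of_centre hdet hsm ⟨hu, ht⟩ (ψ := cw • χ) ⟨by simp [hχu'], hv⟩ hu0 hφ0
    (smul_ne_zero (fun e => hw0 (by rw [e, zero_smul])) hχ0) fun e => hne (by rw [e])

end CfsgLib.Mitchell
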