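import Cfsg.Agent.Lib.Mitchell.Trace

/-!
The normal form of three elations in general position and the linear algebra of their Lie span.
-/

set_option autoImplicit false
set_option linter.unusedSectionVars false

namespace CfsgLib.Mitchell

open Matrix

variable {F : Type*} [Field F]

/-- The three rank-one matrices in normal form. -/
def N₁ (b : F) : Matrix (Fin 3) (Fin 3) F := !![0, 1, b; 0, 0, 0; 0, 0, 0]
/-- Second of the three matrices in normal form. -/
def N₂ (a : F) : Matrix (Fin 3) (Fin 3) F := !![0, 0, 0; a, 0, 1; 0, 0, 0]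
/-- Third of the three matrices in normal form. -/
def N₃ (c z : F) : Matrix (Fin 3) (Fin 3) F := !![0, 0, 0; 0, 0, 0; z, c, 0]

/-- Commutator of matrices. -/
def br (X Y : Matrix (Fin 3) (Fin 3) F) : Matrix (Fin 3) (Fin 3) F := X * Y - Y * X

/-- The eight test matrices. -/
def basis8 (a b c z : F) : Fin 8 → Matrix (Fin 3) (Fin 3) F :=
  ![N₁ b, N₂ a, N₃ c z, br (N₁ b) (N₂ a), br (N₂ a) (N₃ c z), br (N₃ c z) (N₁ b),
    br (br (N₁ b) (N₂ a)) (N₃ c z), br (br (N₂ a) (N₃ c z)) (N₁ b)]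

theorem test_formulas (a b c z : F) (D : Matrix (Fin 3) (Fin 3) F) :
    (D * basis8 a b c z 0).trace = D 1 0 + b * D 2 0 ∧
    (D * basis8 a b c z 1).trace = a * D 0 1 + D 2 1 ∧
    (D * basis8 a b c z 2).trace = z * D 0 2 + c * D 1 2 ∧
    (D * basis8 a b c z 3).trace = a * D 0 0 + D 2 0 - a * D 1 1 - a * b * D 2 1 ∧
    (D * basis8 a b c z 4).trace = z * D 0 1 + c * D 1 1 - a * c * D 0 2 - c * D 2 2 ∧
    (D * basis8 a b c z 5).trace = - (b * z) * D 0 0 - b * c * D 1 0 + z * D 1 2 + b * z * D 2 2 ∧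
    (D * basis8 a b c z 6).trace = z * D 0 0 + c * D 1 0 - a * b * z * D 0 1 - a * b * c * D 1 1
      - a * z * D 0 2 + a * c * D 1 2 + (a * b * c - z) * D 2 2 ∧
    (D * basis8 a b c z 7).trace = (a * b * c - z) * D 0 0 - c * D 1 0 + b * c * D 2 0 + z * D 1 1
      + b * z * D 2 1 - a * c * D 1 2 - a * b * c * D 2 2 := by
  refine ⟨?_, ?_, ?_, ?_, ?_, ?_, ?_, ?_⟩ <;>
    simp [basis8, br, N₁, N₂, N₃, Matrix.trace, Fin.sum_univ_three, Matrix.mul_apply,
      Matrix.sub_apply] <;> ring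

/-- The eight traces determine a matrix up to a scalar, with coefficients polynomial in `a b c z`. -/
theorem recover (a b c z : F) (D : Matrix (Fin 3) (Fin 3) F) (E : Fin 8 → F)
    (hE : ∀ i, (D * basis8 a b c z i).trace = E i) :
    (z + a * b * c) ^ 2 * D 1 0 =
      (z ^ 2 + a * b * c * z) * E 0 - b * z ^ 2 * E 3 - a ^ 2 * b * c * E 5 - a * b * z * E 7 ∧
    (z + a * b * c) ^ 2 * D 2 0 =
      (a * c * z + a ^ 2 * b * c ^ 2) * E 0 + z ^ 2 * E 3 + a ^ 2 * c * E 5 + a * z * E 7 ∧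
    (z + a * b * c) ^ 2 * D 0 1 =
      (b * c * z + a * b ^ 2 * c ^ 2) * E 1 + b * c ^ 2 * E 3 + z * E 4 - c * E 6 - c * E 7 ∧
    (z + a * b * c) ^ 2 * D 2 1 =
      (z ^ 2 + a * b * c * z) * E 1 - a * b * c ^ 2 * E 3 - a * z * E 4 + a * c * E 6 + a * c * E 7 ∧
    (z + a * b * c) ^ 2 * D 0 2 =
      (z + a * b * c) * E 2 - a * b ^ 2 * c * E 4 - c * E 5 - b * c * E 6 ∧
    (z + a * b * c) ^ 2 * D 1 2 =
      (a * b * z + a ^ 2 * b ^ 2 * c) * E 2 + a * b ^ 2 * z * E 4 + z * E 5 + b * z * E 6 ∧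
    (z + a * b * c) ^ 2 * (D 0 0 - D 2 2) =
      (-(c * z) - a * b * c ^ 2) * E 0 + (a * z + a ^ 2 * b * c) * E 2 + b * c * z * E 3
        + a * b * z * E 4 - 2 * a * c * E 5 + z * E 6 + a * b * c * E 7 ∧
    (z + a * b * c) ^ 2 * (D 1 1 - D 2 2) =
      (-(b * z ^ 2) - a * b ^ 2 * c * z) * E 1 + (a * z + a ^ 2 * b * c) * E 2 - b * c * z * E 3
        + 2 * a * b * z * E 4 - a * c * E 5 + (z - a * b * c) * E 6 + z * E 7 := by
  obtain ⟨h0, h1, h2, h3, h4, h5, h6, h7⟩ := test_formulas a b c z D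
  simp only [← hE, h0, h1, h2, h3, h4, h5, h6, h7]
  refine ⟨?_, ?_, ?_, ?_, ?_, ?_, ?_, ?_⟩ <;> ring

variable {a b c z : F}

/-- A matrix orthogonal to the eight test matrices is scalar. -/
theorem scalar_of_orth (hs : z + a * b * c ≠ 0) (D : Matrix (Fin 3) (Fin 3) F)
    (hE : ∀ i, (D * basis8 a b c z i).trace = 0) : D = D 2 2 • (1 : Matrix (Fin 3) (Fin 3) F) := by
  obtain ⟨h0, h1, h2, h3, h4, h5, h6, h7⟩ := recover a b c z D (fun _ => 0) hE
  have hs2 : (z + a * b * c) ^ 2 ≠ 0 := pow_ne_zero 2 hs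
  simp only [mul_zero, sub_zero, add_zero, mul_eq_zero, hs2, false_or, sub_eq_zero] at h0 h1 h2 h3 h4 h5 h6 h7
  ext i j
  fin_cases i <;> fin_cases j <;> simp [h0, h1, h2, h3, h4, h5, h6, h7]

theorem diag_mem_of_rank_one {u φ : Fin 3 → F} {k : Subfield F}
    (hoff : ∀ i j, i ≠ j → u i * φ j ∈ k) (hdiff : ∀ i j, u i * φ i - u j * φ j ∈ k)
    (h0 : φ ⬝ᵥ u = 0) : ∀ i j, u i * φ j ∈ k := by
  suffices h : ∃ i, u i * φ i ∈ k by
    obtain ⟨i, hi⟩ := h
    intro j l
    rcases eq_or_ne j l with rfl | hjl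
    · simpa using add_mem (hdiff j i) hi
    · exact hoff j l hjl
  by_cases hz : ∀ i j, i ≠ j → u i * φ j = 0
  · have hd : ∀ i, u i * φ i = 0 := by
      have hsum : u 0 * φ 0 + u 1 * φ 1 + u 2 * φ 2 = 0 := by
        rw [← h0]; simp [dotProduct, Fin.sum_univ_three]; ring
      have h01 := hz 0 1 (by decide)
      have h02 := hz 0 2 (by decide)
      have h10 := hz 1 0 (by decide)
      have h12 := hz 1 2 (by decide)
      have e0 : (u 0 * φ 0) * (u 0 * φ 0) = 0 := by
        linear_combination (u 0 * φ 0) * hsum - (u 0 * φ 1) * h10 - (u 2 * φ 0) * h02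
      have e1 : (u 1 * φ 1) * (u 1 * φ 1) = 0 := by
        linear_combination (u 1 * φ 1) * hsum - (u 0 * φ 1) * h10 - (u 2 * φ 1) * h12
      intro i
      fin_cases i
      · exact mul_self_eq_zero.1 e0
      · exact mul_self_eq_zero.1 e1
      · show u 2 * φ 2 = 0
        linear_combination hsum - mul_self_eq_zero.1 e0 - mul_self_eq_zero.1 e1
    exact ⟨0, (hd 0).symm ▸ k.zero_mem⟩
  · push Not at hz
    obtain ⟨j, l, hjl, hne⟩ := hz
    obtain ⟨i, hij, hil⟩ :=
      (show ∀ j l : Fin 3, j ≠ l → ∃ i, i ≠ j ∧ i ≠ l by decide) j l hjl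
    refine ⟨i, ?_⟩
    have : u i * φ i = (u i * φ l) * (u j * φ i) / (u j * φ l) := by
      rw [eq_div_iff hne]; ring
    rw [this]
    exact div_mem (mul_mem (hoff i l hil) (hoff j i hij.symm)) (hoff j l hjl)

/-- If all the traces and coefficients lie in a subfield then so does a square-zero rank-one matrix. -/
theorem entries_mem (hs : z + a * b * c ≠ 0) {k : Subfield F} (ha : a ∈ k) (hb : b ∈ k) (hc : c ∈ k)
    (hz : z ∈ k) {u φ : Fin 3 → F} (h0 : φ ⬝ᵥ u = 0)
    (hE : ∀ i, (vecMulVec u φ * basis8 a b c z i).trace ∈ k) : ∀ i j, u i * φ j ∈ k := by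
  obtain ⟨h0', h1, h2, h3, h4, h5, h6, h7⟩ := recover a b c z (vecMulVec u φ) _ fun _ => rfl
  simp only [vecMulVec_apply] at h0' h1 h2 h3 h4 h5 h6 h7
  have hs' : ((z + a * b * c) ^ 2) ∈ k := pow_mem (add_mem hz (mul_mem (mul_mem ha hb) hc)) 2
  have hs2 : (z + a * b * c) ^ 2 ≠ 0 := pow_ne_zero 2 hs
  have two : (2 : F) ∈ k := by rw [← one_add_one_eq_two]; exact add_mem k.one_mem k.one_mem
  have get : ∀ x y : F, (z + a * b * c) ^ 2 * x = y → y ∈ k → x ∈ k := by
    intro x y h hy
    rw [show x = y / (z + a * b * c) ^ 2 by rw [eq_div_iff hs2, ← h]; ring]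
    exact div_mem hy hs'
  have p10 : u 1 * φ 0 ∈ k := by
    refine get _ _ h0' ?_
    (repeat' (first | assumption | exact hE _ | apply sub_mem | apply add_mem | apply neg_mem | apply pow_mem | apply mul_mem))
  have p20 : u 2 * φ 0 ∈ k := by
    refine get _ _ h1 ?_
    (repeat' (first | assumption | exact hE _ | apply sub_mem | apply add_mem | apply neg_mem | apply pow_mem | apply mul_mem))
  have p01 : u 0 * φ 1 ∈ k := by
    refine get _ _ h2 ?_
    (repeat' (first | assumption | exact hE _ | apply sub_mem | apply add_mem | apply neg_mem | apply pow_mem | apply mul_mem))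
  have p21 : u 2 * φ 1 ∈ k := by
    refine get _ _ h3 ?_
    (repeat' (first | assumption | exact hE _ | apply sub_mem | apply add_mem | apply neg_mem | apply pow_mem | apply mul_mem))
  have p02 : u 0 * φ 2 ∈ k := by
    refine get _ _ h4 ?_
    (repeat' (first | assumption | exact hE _ | apply sub_mem | apply add_mem | apply neg_mem | apply pow_mem | apply mul_mem))
  have p12 : u 1 * φ 2 ∈ k := by
    refine get _ _ h5 ?_
    (repeat' (first | assumption | exact hE _ | apply sub_mem | apply add_mem | apply neg_mem | apply pow_mem | apply mul_mem))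
  have p00 : u 0 * φ 0 - u 2 * φ 2 ∈ k := by
    refine get _ _ h6 ?_
    (repeat' (first | assumption | exact hE _ | apply sub_mem | apply add_mem | apply neg_mem | apply pow_mem | apply mul_mem))
  have p11 : u 1 * φ 1 - u 2 * φ 2 ∈ k := by
    refine get _ _ h7 ?_
    (repeat' (first | assumption | exact hE _ | apply sub_mem | apply add_mem | apply neg_mem | apply pow_mem | apply mul_mem))
  refine diag_mem_of_rank_one ?_ ?_ h0
  · intro i j hij
    fin_cases i <;> fin_cases j <;> first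
      | exact absurd rfl hij
      | assumption
      | exact p10 | exact p20 | exact p01 | exact p21 | exact p02 | exact p12
  · have key : ∀ i, u i * φ i - u 2 * φ 2 ∈ k := by
      intro i
      fin_cases i
      · exact p00
      · exact p11
      · simp
    intro i j
    simpa using sub_mem (key i) (key j)

/-! ### The semilinear involution fixing the normal form -/

variable (σ : F ≃+* F)

/-- The skew-hermitian matrix of the normal form. -/
def skewH (a b : F) : Matrix (Fin 3) (Fin 3) F := !![0, 1, b; -1, 0, -a⁻¹; -σ b, a⁻¹, 0]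

/-- `X` is skew for `H`. -/
def IsSkew (H X : Matrix (Fin 3) (Fin 3) F) : Prop := H * X + (X.map σ)ᵀ * H = 0

theorem IsSkew.br' {H X Y : Matrix (Fin 3) (Fin 3) F} (hX : IsSkew σ H X) (hY : IsSkew σ H Y) :
    IsSkew σ H (br X Y) := by
  unfold IsSkew br at *
  rw [Matrix.map_sub (σ : F → F) (map_sub σ), Matrix.map_mul, Matrix.map_mul, Matrix.transpose_sub,
    Matrix.transpose_mul, Matrix.transpose_mul, Matrix.mul_sub, Matrix.sub_mul]
  have e1 := eq_neg_of_add_eq_zero_left hX
  have e2 := eq_neg_of_add_eq_zero_left hY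
  rw [← mul_assoc, ← mul_assoc, e1, e2, neg_mul, neg_mul, mul_assoc _ H Y, mul_assoc _ H X, e1, e2]
  simp only [mul_neg, neg_neg, ← mul_assoc]
  abel

theorem skew_normal (hσ2 : ∀ x, σ (σ x) = x) (ha : σ a = a) (ha0 : a ≠ 0) (hc0 : c ≠ 0)
    (hc : σ c = c) (hz : σ b = -(z / (a * c))) :
    ∀ i, IsSkew σ (skewH σ a b) (basis8 a b c z i) := by
  have hb : σ z = -(b * (a * c)) := by
    have h := congrArg σ hz
    rw [hσ2, map_neg, map_div₀, map_mul, ha, hc] at h
    rw [h]
    field_simp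
  have hz' : z = -(σ b * (a * c)) := by rw [hz]; field_simp
  have h1 : IsSkew σ (skewH σ a b) (N₁ b) := by
    unfold IsSkew skewH N₁
    ext i j
    fin_cases i <;> fin_cases j <;> simp [Matrix.mul_apply, Fin.sum_univ_three] <;> ring
  have h2 : IsSkew σ (skewH σ a b) (N₂ a) := by
    unfold IsSkew skewH N₂
    ext i j
    fin_cases i <;> fin_cases j <;> simp [Matrix.mul_apply, Fin.sum_univ_three, ha, ha0]
  have h3 : IsSkew σ (skewH σ a b) (N₃ c z) := by
    unfold IsSkew skewH N₃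
    ext i j
    fin_cases i <;> fin_cases j <;>
      simp [Matrix.mul_apply, Fin.sum_univ_three, hc, hb] <;>
      (try rw [hz']) <;> field_simp <;> ring
  intro i
  fin_cases i
  · exact h1
  · exact h2
  · exact h3
  · exact h1.br' σ h2
  · exact h2.br' σ h3
  · exact h3.br' σ h1
  · exact (h1.br' σ h2).br' σ h3
  · exact (h2.br' σ h3).br' σ h1

theorem det_skewH : (skewH σ a b).det = a⁻¹ * (σ b - b) := by
  simp [skewH, Matrix.det_fin_three]; ring

/-- The elations are skew as soon as their traces against the test matrices are fixed. -/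
theorem skew_of_traces (hs : z + a * b * c ≠ 0) {H : Matrix (Fin 3) (Fin 3) F} (hH : IsUnit H.det)
    (hskew : ∀ i, IsSkew σ H (basis8 a b c z i)) {M : Matrix (Fin 3) (Fin 3) F} (hM : M * M = 0)
    (hfix : ∀ i, σ (M * basis8 a b c z i).trace = (M * basis8 a b c z i).trace) :
    IsSkew σ H M := by
  set M' : Matrix (Fin 3) (Fin 3) F := -(H⁻¹ * (M.map σ)ᵀ * H) with hM'
  have hHi := Matrix.nonsing_inv_mul H hH
  have hHi' := Matrix.mul_nonsing_inv H hH
  have htr : ∀ i, (M' * basis8 a b c z i).trace = (M * basis8 a b c z i).trace := by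
    intro i
    set X := basis8 a b c z i
    have hX : (X.map σ)ᵀ * H = -(H * X) := eq_neg_of_add_eq_zero_right (hskew i)
    calc (M' * X).trace = (H⁻¹ * (M.map σ)ᵀ * (-(H * X))).trace := by
          rw [hM', neg_mul, mul_neg, mul_assoc, mul_assoc]
      _ = (H⁻¹ * ((M.map σ)ᵀ * (X.map σ)ᵀ * H)).trace := by rw [← hX]; simp only [mul_assoc]
      _ = ((M.map σ)ᵀ * (X.map σ)ᵀ).trace := by
          rw [Matrix.trace_mul_comm, mul_assoc, hHi', mul_one]
      _ = σ (M * X).trace := by
          rw [← Matrix.transpose_mul, Matrix.trace_transpose, ← Matrix.map_mul,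
            Matrix.trace_mul_comm M X]
          exact (AddMonoidHom.map_trace (σ : F →+* F) (X * M)).symm
      _ = _ := hfix i
  have hD := scalar_of_orth hs (M' - M) fun i => by rw [Matrix.sub_mul, Matrix.trace_sub, htr, sub_self]
  set t := (M' - M) 2 2 with ht
  have hM'M : M' = M + t • 1 := by rw [← hD]; abel
  have hM'2 : M' * M' = 0 := by
    calc M' * M' = H⁻¹ * ((M.map σ)ᵀ * (H * H⁻¹) * (M.map σ)ᵀ) * H := by
          rw [hM']; simp only [neg_mul_neg, mul_assoc]
      _ = 0 := by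
          rw [hHi', mul_one, ← Matrix.transpose_mul, ← Matrix.map_mul, hM]
          simp
  have ht0 : t = 0 := by
    have h := congrArg (fun Y => M * Y) hM'2
    simp only [hM'M, mul_zero, add_mul, mul_add, Matrix.smul_mul, Matrix.mul_smul, one_mul, mul_one,
      hM, zero_add, smul_zero, smul_smul] at h
    by_contra ht0
    have hM0 : M = 0 := (smul_eq_zero.1 h).resolve_left (mul_ne_zero ht0 ht0)
    rw [hM'M, hM0] at hM'2
    simp [Matrix.smul_mul, smul_smul, ht0] at hM'2
  rw [ht0, zero_smul, add_zero] at hM'M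
  show H * M + _ = 0
  conv_lhs => arg 1; rw [← hM'M, hM', mul_neg, ← mul_assoc, ← mul_assoc, hHi', one_mul]
  exact neg_add_cancel _

end CfsgLib.Mitchell
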